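import Mathlib
import Cfsg.Agent.Lib.FourOrbit.FixedPointFree

/-!
Norm identities for groups acting on abelian groups, and invariance of weights.
-/

set_option autoImplicit false
set_option linter.style.haveILetI false

namespace CfsgLib.OneComposite

open Finset

variable {M : Type*} [CommGroup M] {E : Type*} [Group E] [MulDistribMulAction E M]

/-- The norm of an element acting without fixed points. -/
theorem prod_range_eq_one {x : E} {s : ℕ} (hx : x ^ s = 1) (h : ∀ v : M, x • v = v → v = 1)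
    (v : M) : ∏ i ∈ range s, x ^ i • v = 1 := by
  refine h _ ?_
  rw [Finset.smul_prod']
  rcases s with _ | n
  · simp
  · rw [Finset.prod_range_succ, Finset.prod_range_succ']
    congr 1
    · exact Finset.prod_congr rfl fun i _ => by rw [smul_smul, ← pow_succ']
    · rw [smul_smul, ← pow_succ', hx, pow_zero]

/-- A subgroup `P` with trivial norms, and a family `f u` over it whose powers run over the
translates of `P`, all of trivial norm: the exponent of `M` divides `|P|`. -/
theorem pow_card_eq_one {P : Subgroup E} [Fintype P] {z : E} {s : ℕ} (hs : 0 < s) (f : P → E)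
    (hP : ∀ v : M, ∏ u : P, (u : E) • v = 1)
    (hf : ∀ (u : P) (v : M), ∏ i ∈ range s, f u ^ i • v = 1)
    (σ : ℕ → P → P) (hσ : ∀ i, 0 < i → i < s → Function.Injective (σ i))
    (hσf : ∀ i, 0 < i → i < s → ∀ u : P, f u ^ i = (σ i u : E) * z ^ i) (v : M) :
    v ^ Fintype.card P = 1 := by
  have h1 : ∏ i ∈ range s, ∏ u : P, f u ^ i • v = 1 := by
    rw [Finset.prod_comm]
    exact Finset.prod_eq_one fun u _ => hf u v
  have h2 : ∀ i ∈ range s, i ≠ 0 → ∏ u : P, f u ^ i • v = 1 := by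
    intro i hi hi0
    have hb : Function.Bijective (σ i) :=
      Finite.injective_iff_bijective.mp (hσ i (Nat.pos_of_ne_zero hi0) (mem_range.mp hi))
    rw [← hP (z ^ i • v)]
    refine Fintype.prod_bijective (σ i) hb _ _ fun u => ?_
    rw [hσf i (Nat.pos_of_ne_zero hi0) (mem_range.mp hi) u, mul_smul]
  rw [Finset.prod_eq_single_of_mem 0 (mem_range.mpr hs) h2] at h1
  simpa [Finset.prod_const, Finset.card_univ] using h1

/-- A complement moving the kernel without fixed points and the kernel cannot both have trivial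
norms. -/
theorem frobenius_pow_card {P : Subgroup E} [Fintype P] {z : E} {s : ℕ} (hs : 0 < s)
    (hn : ∀ u ∈ P, z * u * z⁻¹ ∈ P)
    (hfree : ∀ i, 0 < i → i < s → ∀ u ∈ P, Commute u (z ^ i) → u = 1)
    (hP : ∀ v : M, ∏ u : P, (u : E) • v = 1)
    (hz : ∀ u ∈ P, ∀ v : M, ∏ i ∈ range s, (u * z * u⁻¹) ^ i • v = 1) (v : M) :
    v ^ Fintype.card P = 1 := by
  have hni : ∀ (i : ℕ) (u : E), u ∈ P → z ^ i * u * (z ^ i)⁻¹ ∈ P := by
    intro i
    induction i with
    | zero => intro u hu; simpa using hu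
    | succ i ih =>
      intro u hu
      have := hn _ (ih u hu)
      rw [pow_succ', mul_inv_rev]
      simpa [mul_assoc] using this
  refine pow_card_eq_one (z := z) hs (fun u : P => (u : E) * z * (u : E)⁻¹) hP (fun u v => hz u u.2 v)
    (fun i u => ⟨(u : E) * (z ^ i * (u : E)⁻¹ * (z ^ i)⁻¹), mul_mem u.2 (hni i _ (inv_mem u.2))⟩)
    (fun i hi his u w h => ?_) (fun i _ _ u => ?_) v
  · have h' : (u : E) * (z ^ i * (u : E)⁻¹ * (z ^ i)⁻¹) =
        (w : E) * (z ^ i * (w : E)⁻¹ * (z ^ i)⁻¹) := congrArg Subtype.val h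
    have hc : Commute ((w : E)⁻¹ * (u : E)) (z ^ i) := by
      show (w : E)⁻¹ * u * z ^ i = z ^ i * ((w : E)⁻¹ * u)
      have := congrArg (fun e => (w : E)⁻¹ * e * (z ^ i) * u) h'
      simpa [mul_assoc] using this
    exact Subtype.ext (inv_mul_eq_one.mp (hfree i hi his _ (mul_mem (inv_mem w.2) u.2) hc)).symm
  · rw [conj_pow]
    simp [mul_assoc]

/-- A group of prime square order cannot have trivial norms at each cyclic subgroup. -/
theorem plane_pow_card {p : ℕ} [hp : Fact p.Prime] {P : Subgroup E} [Fintype P] {x : E}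
    (hcard : Nat.card P = p) (hc : ∀ u ∈ P, Commute x u)
    (hP : ∀ v : M, ∏ u : P, (u : E) • v = 1)
    (hx : ∀ u ∈ P, ∀ v : M, ∏ i ∈ range p, (u * x) ^ i • v = 1) (v : M) : v ^ p = 1 := by
  have h := pow_card_eq_one hp.out.pos (z := x) (fun u : P => (u : E) * x) hP
    (fun u v => hx u u.2 v) (fun i u => u ^ i) (fun i hi hip u w h => ?_) (fun i _ _ u => ?_) v
  · rwa [← Nat.card_eq_fintype_card, hcard] at h
  · have hcop : (Nat.card P).Coprime i := by
      rw [hcard]
      exact hp.out.coprime_iff_not_dvd.mpr fun hd => absurd (Nat.le_of_dvd hi hd) (by omega)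
    exact (powCoprime hcop).injective h
  · rw [((hc u u.2).symm).mul_pow, Subgroup.coe_pow]

/-- In a finite group of odd order acted on by an elementary abelian `2`-group non-trivially, some
point is inverted exactly outside a subgroup. -/
theorem exists_weight [Finite E] [Finite M] (hM : Odd (Nat.card M)) {A : Subgroup E} (hA : ∀ a ∈ A, a * a = 1)
    (hnt : ∃ a ∈ A, ∃ v : M, a • v ≠ v) :
    ∃ v : M, v ≠ 1 ∧ (∃ a ∈ A, a • v ≠ v) ∧ ∀ a ∈ A, a • v = v ∨ a • v = v⁻¹ := by
  classical
  have hcomm : ∀ a ∈ A, ∀ b ∈ A, ∀ v : M, a • b • v = b • a • v := by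
    intro a ha b hb v
    have hinv : ∀ c ∈ A, c⁻¹ = c := fun c hc => inv_eq_of_mul_eq_one_right (hA c hc)
    rw [smul_smul, smul_smul]
    congr 1
    calc a * b = (a * b)⁻¹ := (hinv _ (mul_mem ha hb)).symm
      _ = b * a := by rw [mul_inv_rev, hinv a ha, hinv b hb]
  have hsq : ∀ v : M, v * v = 1 → v = 1 := by
    intro v hv
    have h2 : orderOf v ∣ 2 := orderOf_dvd_of_pow_eq_one (by rwa [sq])
    rcases (Nat.dvd_prime Nat.prime_two).mp h2 with e | e
    · exact orderOf_eq_one_iff.mp e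
    · exact absurd (hM.of_dvd_nat (e ▸ orderOf_dvd_natCard v)) (by decide)
  obtain ⟨a₀, ha₀, u, hu⟩ := hnt
  let S : M → Set E := fun v => {b : E | b ∈ A ∧ (b • v = v ∨ b • v = v⁻¹)}
  let T := {v : M | v ≠ 1 ∧ a₀ • v = v⁻¹}
  have hne : T.Nonempty := by
    refine ⟨(a₀ • u) * u⁻¹, fun h => hu (mul_inv_eq_one.mp h), ?_⟩
    rw [smul_mul', smul_smul, hA a₀ ha₀, one_smul, smul_inv', mul_inv_rev, inv_inv]
  obtain ⟨v, ⟨hv1, hva⟩, hmax⟩ : ∃ v ∈ T, ∀ w ∈ T, Nat.card {b : A // (b : E) • w = w} ≤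
      Nat.card {b : A // (b : E) • v = v} :=
    Set.exists_max_image T _ (Set.toFinite T) hne
  refine ⟨v, hv1, ⟨a₀, ha₀, fun h => hv1 (hsq v ?_)⟩, fun c hc => ?_⟩
  · rw [h] at hva
    exact mul_eq_one_iff_eq_inv.mpr hva
  by_contra hcon
  push Not at hcon
  set w := v * c • v with hw
  have hwT : w ∈ T := by
    refine ⟨fun h => hcon.2 ?_, ?_⟩
    · exact eq_inv_of_mul_eq_one_right h
    · rw [hw, smul_mul', hcomm a₀ ha₀ c hc, hva, smul_inv', ← mul_inv]
  have hcw : c • w = w := by
    rw [hw, smul_mul', smul_smul, hA c hc, one_smul, mul_comm]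
  have hle := hmax w hwT
  have hsub : ∀ b : A, (b : E) • v = v → (b : E) • w = w := fun b hb => by
    rw [hw, smul_mul', hcomm b b.2 c hc, hb]
  refine absurd hle (not_le.mpr ?_)
  refine lt_of_le_of_ne (Nat.card_le_card_of_injective (fun b => ⟨b.1, hsub b.1 b.2⟩)
    fun b b' h => Subtype.ext (by simpa using h)) fun e => ?_
  obtain ⟨⟨b, hb⟩, he⟩ := (Function.Injective.bijective_of_nat_card_le
    (f := fun b : {b : A // (b : E) • v = v} => (⟨b.1, hsub b.1 b.2⟩ : {b : A // (b : E) • w = w}))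
    (fun b b' h => Subtype.ext (by simpa using h)) e.symm.le).2 ⟨⟨c, hc⟩, hcw⟩
  have hbc : b = ⟨c, hc⟩ := congrArg Subtype.val he
  exact hcon.1 (by rw [hbc] at hb; exact hb)

/-- The subgroup of a weight is fixed by every element of prime order with trivial norm. -/
theorem weight_invariant [Finite E] [Finite M] (hM : Odd (Nat.card M)) {A B : Subgroup E} (hB : B ≤ A)
    (hA2 : IsPGroup 2 A) {v : M} (hv : v ≠ 1) (hfix : ∀ b ∈ B, b • v = v)
    (hinv : ∀ a ∈ A, a ∉ B → a • v = v⁻¹) {y : E} {s : ℕ} (hs : s.Prime) (hys : y ^ s = 1)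
    (hyA : ∀ a ∈ A, y * a * y⁻¹ ∈ A) (hn : ∏ i ∈ range s, y ^ i • v = 1) {b : E} (hb : b ∈ B) :
    y⁻¹ * b * y ∈ B := by
  classical
  by_contra hby
  haveI := Fintype.ofFinite B
  let e : M → M := fun w => ∏ c : B, (c : E) • w
  have hsq : ∀ w : M, w * w = 1 → w = 1 := by
    intro w hw
    have h2 : orderOf w ∣ 2 := orderOf_dvd_of_pow_eq_one (by rwa [sq])
    rcases (Nat.dvd_prime Nat.prime_two).mp h2 with e | e
    · exact orderOf_eq_one_iff.mp e
    · exact absurd (hM.of_dvd_nat (e ▸ orderOf_dvd_natCard w)) (by decide)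
  have hAn : ∀ (i : ℕ) (a : E), a ∈ A → y ^ i * a * (y ^ i)⁻¹ ∈ A := by
    intro i
    induction i with
    | zero => intro a ha; simpa using ha
    | succ i ih =>
      intro a ha
      have := hyA _ (ih a ha)
      rw [pow_succ', mul_inv_rev]
      simpa [mul_assoc] using this
  have hyA' : ∀ (i : ℕ) (a : E), a ∈ A → (y ^ i)⁻¹ * a * y ^ i ∈ A := by
    intro i a ha
    have h1 : 0 < orderOf y := orderOf_pos y
    have h2 : (y ^ i)⁻¹ = y ^ (i * (orderOf y - 1)) := by
      refine inv_eq_of_mul_eq_one_right ?_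
      rw [← pow_add, show i + i * (orderOf y - 1) = orderOf y * i by
        obtain ⟨k, hk⟩ : ∃ k, orderOf y = k + 1 := ⟨orderOf y - 1, by omega⟩
        rw [hk, Nat.add_sub_cancel]; ring, pow_mul, pow_orderOf_eq_one, one_pow]
    have := hAn (i * (orderOf y - 1)) a ha
    rwa [← h2, inv_inv] at this
  have hmove : ∀ i, 0 < i → i < s → ∃ c ∈ B, (y ^ i)⁻¹ * c * y ^ i ∉ B := by
    intro i hi his
    by_contra hall
    push Not at hall
    -- the powers of `y ^ i` include `y`
    obtain ⟨m, hm⟩ : ∃ m, (y ^ i) ^ m = y := by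
      have hco : i.Coprime (orderOf y) := by
        refine Nat.Coprime.coprime_dvd_right (orderOf_dvd_of_pow_eq_one hys) ?_
        exact (hs.coprime_iff_not_dvd.mpr fun hd => absurd (Nat.le_of_dvd hi hd) (by omega)).symm
      exact exists_pow_eq_self_of_coprime hco
    have hiter : ∀ m : ℕ, ∀ c ∈ B, ((y ^ i) ^ m)⁻¹ * c * (y ^ i) ^ m ∈ B := by
      intro m
      induction m with
      | zero => intro c hc; simpa using hc
      | succ m ih =>
        intro c hc
        have := hall _ (ih c hc)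
        rw [pow_succ (y ^ i), mul_inv_rev]
        simpa [mul_assoc] using this
    exact hby (by simpa [hm] using hiter m b hb)
  have he : ∀ i, 0 < i → i < s → e (y ^ i • v) = 1 := by
    intro i hi his
    obtain ⟨c, hc, hcB⟩ := hmove i hi his
    have h1 : c • y ^ i • v = (y ^ i • v)⁻¹ := by
      rw [← smul_inv', ← hinv _ (hyA' i c (hB hc)) hcB, smul_smul, smul_smul]
      congr 1
      group
    have h2 : e (c • y ^ i • v) = e (y ^ i • v) := by
      refine Fintype.prod_equiv (Equiv.mulRight (⟨c, hc⟩ : B)) _ _ fun d => ?_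
      simp [smul_smul, mul_assoc]
    rw [h1] at h2
    have h3 : e (y ^ i • v)⁻¹ = (e (y ^ i • v))⁻¹ := by
      simp only [e, smul_inv', Finset.prod_inv_distrib]
    rw [h3] at h2
    exact hsq _ (inv_eq_iff_mul_eq_one.mp h2)
  have h0 : e v = 1 := by
    have h1 : e (∏ i ∈ range s, y ^ i • v) = 1 := by simp [e, hn]
    have h2 : e (∏ i ∈ range s, y ^ i • v) = ∏ i ∈ range s, e (y ^ i • v) := by
      simp only [e]
      rw [Finset.prod_comm]
      exact Finset.prod_congr rfl fun c _ => Finset.smul_prod'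
    rw [h2, Finset.prod_eq_single_of_mem 0 (mem_range.mpr hs.pos)
      (fun i hi hi0 => he i (Nat.pos_of_ne_zero hi0) (mem_range.mp hi))] at h1
    simpa using h1
  obtain ⟨k, hk⟩ := IsPGroup.iff_card.mp (hA2.to_le hB)
  have h1 : v ^ 2 ^ k = 1 := by
    rw [← hk, Nat.card_eq_fintype_card, ← h0]
    simp only [e]
    rw [Finset.prod_eq_pow_card (f := fun c : B => (c : E) • v) (b := v) (fun c _ => hfix c c.2),
      Finset.card_univ]
  have h2 := orderOf_dvd_of_pow_eq_one h1
  have h3 : orderOf v = 1 := Nat.Coprime.eq_one_of_dvd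
    (Nat.Coprime.pow_right _ (Nat.coprime_two_right.mpr (hM.of_dvd_nat (orderOf_dvd_natCard v)))) h2
  exact hv (orderOf_eq_one_iff.mp h3)

end CfsgLib.OneComposite
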