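import Mathlib
import Cfsg.Agent.Lib.OneComposite.Norms

/-!
The action of a normaliser on the abelianisation, and norms of elements of prime order.
-/

set_option autoImplicit false
set_option linter.style.haveILetI false

namespace CfsgLib.OneComposite

open Finset

variable {G : Type*} [Group G]

/-- Automorphisms act on the abelianisation. -/
noncomputable def abAut (W : Type*) [Group W] : MulAut W →* MulAut (Abelianization W) where
  toFun e := e.abelianizationCongr
  map_one' := MulEquiv.toMonoidHom_injective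
    (Abelianization.hom_ext _ _ (MonoidHom.ext fun _ => rfl))
  map_mul' e f := MulEquiv.toMonoidHom_injective
    (Abelianization.hom_ext _ _ (MonoidHom.ext fun _ => rfl))

/-- The action of `g` on the abelianisation of `W`, for `g` normalising `W`. -/
noncomputable def actV (W : Subgroup G) :
    Subgroup.normalizer (W : Set G) →* MulAut (Abelianization W) :=
  (abAut W).comp W.normalizerMonoidHom

theorem actV_of {W : Subgroup G} (g : Subgroup.normalizer (W : Set G)) (w : W) :
    actV W g (Abelianization.of w) = Abelianization.of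
      (⟨(g : G) * w * (g : G)⁻¹, (Subgroup.mem_normalizer_iff.mp g.2 _).mp w.2⟩ : W) := rfl

/-- Expansion of `(wy)^n`. -/
theorem mul_pow_abel {W : Subgroup G} (y : Subgroup.normalizer (W : Set G)) (w : W) :
    ∀ n : ℕ, ∃ h : ((w : G) * y) ^ n * ((y : G) ^ n)⁻¹ ∈ W,
      Abelianization.of (⟨_, h⟩ : W) = ∏ i ∈ range n, (actV W y ^ i) • Abelianization.of w
  | 0 => ⟨by simp, by
    rw [Finset.prod_range_zero, ← map_one (Abelianization.of (G := W))]
    exact congrArg _ (Subtype.ext (by simp))⟩
  | n + 1 => by
    obtain ⟨h, he⟩ := mul_pow_abel y w n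
    set u : W := ⟨_, h⟩
    have e : ((w : G) * y) ^ (n + 1) * ((y : G) ^ (n + 1))⁻¹ =
        (w : G) * ((y : G) * u * (y : G)⁻¹) := by
      show _ = (w : G) * ((y : G) * (((w : G) * y) ^ n * ((y : G) ^ n)⁻¹) * (y : G)⁻¹)
      rw [pow_succ' ((w : G) * y), pow_succ' (y : G), mul_inv_rev]
      simp [mul_assoc]
    refine ⟨e ▸ mul_mem w.2 ((Subgroup.mem_normalizer_iff.mp y.2 _).mp u.2), ?_⟩
    rw [show (⟨_, e ▸ mul_mem w.2 ((Subgroup.mem_normalizer_iff.mp y.2 _).mp u.2)⟩ : W) =
      w * ⟨(y : G) * u * (y : G)⁻¹, (Subgroup.mem_normalizer_iff.mp y.2 _).mp u.2⟩ from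
      Subtype.ext e, map_mul, ← actV_of, he, map_prod, Finset.prod_range_succ', mul_comm]
    congr 1
    · refine Finset.prod_congr rfl fun i _ => ?_
      rw [pow_succ', mul_smul]
      rfl

/-- If all the `wy` have order dividing `s`, then so has `y` trivial norm. -/
theorem norm_eq {W : Subgroup G} (y : Subgroup.normalizer (W : Set G)) {s : ℕ}
    (hys : (y : G) ^ s = 1) (h : ∀ w ∈ W, (w * (y : G)) ^ s = 1) (v : Abelianization W) :
    ∏ i ∈ range s, (actV W y ^ i) • v = 1 := by
  induction v using QuotientGroup.induction_on with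
  | H w =>
    obtain ⟨hm, he⟩ := mul_pow_abel y w s
    rw [show (QuotientGroup.mk w : Abelianization W) = Abelianization.of w from rfl, ← he]
    refine (congrArg _ (Subtype.ext ?_ : (⟨_, hm⟩ : W) = 1)).trans (map_one _)
    show ((w : G) * (y : G)) ^ s * ((y : G) ^ s)⁻¹ = 1
    rw [h w w.2, hys, inv_one, mul_one]

end CfsgLib.OneComposite
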