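import Mathlib
import Cfsg.Agent.S0018
import Cfsg.Agent.Lib.Fitting.Basic
import Cfsg.Agent.Lib.Transfer.Basic

/-!
The odd core of a solvable subgroup containing an abelian Sylow `2`-subgroup.
-/

set_option autoImplicit false
set_option linter.style.haveILetI false

namespace CfsgLib.OneComposite

theorem le_odd_core {K : Type*} [Group K] [Finite K] [Group.IsSolvable K] (P : Sylow 2 K)
    (hP : IsMulCommutative (P : Subgroup K)) {X : Subgroup K}
    (hPX : (P : Subgroup K) ≤ Subgroup.normalizer (X : Set K)) (hX : Odd (Nat.card X)) :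
    X ≤ Cfsg.pPrimeCore 2 K := by
  haveI : Fact (Nat.Prime 2) := ⟨Nat.prime_two⟩
  haveI := CfsgLib.Transfer.pPrimeCore_normal 2 K
  set f := QuotientGroup.mk' (Cfsg.pPrimeCore 2 K) with hf
  haveI := CfsgLib.Fitting.pCore_normal (G := K ⧸ Cfsg.pPrimeCore 2 K) 2
  have hsurj : Function.Surjective f := QuotientGroup.mk'_surjective _
  set R := Cfsg.pCore 2 (K ⧸ Cfsg.pPrimeCore 2 K)
  have hC : Subgroup.centralizer (R : Set (K ⧸ Cfsg.pPrimeCore 2 K)) ≤ R :=
    CfsgLib.PSolvable.centralizer_pCore_le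
      (CfsgLib.PSolvable.isPSolvable_of_surjective f hsurj
        (CfsgLib.PSolvable.isPSolvable_of_isSolvable inferInstance))
      (CfsgLib.PSolvable.pPrimeCore_eq_bot_of_ker hsurj (QuotientGroup.ker_mk' _))
  let Pb := P.mapSurjective hsurj
  have hRP : R ≤ (P : Subgroup K).map f :=
    IsPGroup.le_sylow_of_normal (CfsgLib.Fitting.pCore_isPGroup 2) Pb
  have hPR : (P : Subgroup K).map f ≤ R := by
    intro y hy
    refine hC ?_
    rintro r hr
    obtain ⟨a, ha, rfl⟩ := hy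
    obtain ⟨b, hb, rfl⟩ := hRP hr
    rw [← map_mul, ← map_mul]
    exact congrArg f (congrArg Subtype.val (mul_comm' (⟨b, hb⟩ : (P : Subgroup K)) ⟨a, ha⟩))
  have hR2 : IsPGroup 2 R := CfsgLib.Fitting.pCore_isPGroup 2
  have hdisj : ∀ y ∈ R, y ∈ X.map f → y = 1 := by
    intro y hy hyX
    obtain ⟨k, hk⟩ := hR2 ⟨y, hy⟩
    have h1 : orderOf y ∣ 2 ^ k := orderOf_dvd_of_pow_eq_one (congrArg Subtype.val hk)
    have h2 : orderOf y ∣ Nat.card X :=
      (Subgroup.orderOf_dvd_natCard _ hyX).trans (Subgroup.card_map_dvd X f)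
    exact orderOf_eq_one_iff.mp (Nat.Coprime.eq_one_of_dvd
      ((Nat.coprime_two_right.mpr (hX.of_dvd_nat h2)).pow_right k) h1)
  intro x hx
  have hcx : f x ∈ Subgroup.centralizer (R : Set (K ⧸ Cfsg.pPrimeCore 2 K)) := by
    intro y hy
    obtain ⟨a, ha, rfl⟩ := hRP hy
    have hm : x * a * x⁻¹ * a⁻¹ = x * (a * x⁻¹ * a⁻¹) := by group
    have h := hdisj (f (x * a * x⁻¹ * a⁻¹)) ?_ ?_
    · rw [map_mul, map_mul, map_mul, map_inv, map_inv, mul_inv_eq_one, mul_inv_eq_iff_eq_mul] at h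
      exact h.symm
    · rw [map_mul, map_mul, map_mul, map_inv, map_inv]
      exact mul_mem ((inferInstance : R.Normal).conj_mem _ (hPR ⟨a, ha, rfl⟩) _)
        (inv_mem (hPR ⟨a, ha, rfl⟩))
    · rw [hm]
      exact Subgroup.mem_map_of_mem f (mul_mem hx
        ((Subgroup.mem_normalizer_iff.mp (hPX ha) _).mp (inv_mem hx)))
  have := hdisj (f x) (hC hcx) (Subgroup.mem_map_of_mem f hx)
  rwa [← MonoidHom.mem_ker, hf, QuotientGroup.ker_mk'] at this

variable {G : Type*} [Group G] [Finite G]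

/-- The odd core of a subgroup, as a subgroup of the group. -/
def coreIn (H : Subgroup G) : Subgroup G := (Cfsg.pPrimeCore 2 H).map H.subtype

theorem coreIn_le (H : Subgroup G) : coreIn H ≤ H := Subgroup.map_subtype_le _

theorem coreIn_odd (H : Subgroup G) : Odd (Nat.card (coreIn H)) := by
  haveI : Fact (Nat.Prime 2) := ⟨Nat.prime_two⟩
  rw [coreIn, Subgroup.card_map_of_injective H.subtype_injective, ← Nat.not_even_iff_odd,
    even_iff_two_dvd]
  exact CfsgLib.Transfer.not_dvd_card_pPrimeCore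

theorem conj_mem_coreIn {H : Subgroup G} {g x : G} (hg : g ∈ H) (hx : x ∈ coreIn H) :
    g * x * g⁻¹ ∈ coreIn H := by
  obtain ⟨y, hy, rfl⟩ := hx
  exact ⟨⟨g, hg⟩ * y * ⟨g, hg⟩⁻¹, (CfsgLib.Transfer.pPrimeCore_normal 2 H).conj_mem _ hy _, rfl⟩

theorem le_normalizer_coreIn (H : Subgroup G) : H ≤ Subgroup.normalizer (coreIn H : Set G) := by
  intro g hg
  refine Subgroup.mem_normalizer_iff.mpr fun x => ⟨conj_mem_coreIn hg, fun h => ?_⟩
  have := conj_mem_coreIn (inv_mem hg) h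
  simpa [mul_assoc] using this

theorem le_coreIn {A H X : Subgroup G} (hsol : Group.IsSolvable H) (hA2 : IsPGroup 2 A)
    (hAi : ¬ 2 ∣ A.index) (hAc : ∀ a ∈ A, ∀ b ∈ A, a * b = b * a) (hAH : A ≤ H) (hXH : X ≤ H)
    (hAX : A ≤ Subgroup.normalizer (X : Set G)) (hX : Odd (Nat.card X)) : X ≤ coreIn H := by
  haveI : Fact (Nat.Prime 2) := ⟨Nat.prime_two⟩
  haveI := hsol
  let P : Sylow 2 H := (hA2.comap_subtype (K := H)).toSylow fun h => hAi
    ((show 2 ∣ A.relIndex H from h).trans (Subgroup.relIndex_dvd_index_of_le hAH))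
  have hle := le_odd_core P (.of_comm fun a b => Subtype.ext (Subtype.ext
    (hAc a.1.1 a.2 b.1.1 b.2))) (X := X.subgroupOf H) (fun a ha =>
      Subgroup.mem_normalizer_iff.mpr fun x => Subgroup.mem_normalizer_iff.mp (hAX ha) (x : G))
    (by rwa [Nat.card_congr (Subgroup.subgroupOfEquivOfLe hXH).toEquiv])
  have := Subgroup.map_mono (f := H.subtype) hle
  rwa [Subgroup.subgroupOf_map_subtype, inf_eq_left.mpr hXH] at this

theorem normal_sup_coreIn {A H : Subgroup G} (hsol : Group.IsSolvable H) (hA2 : IsPGroup 2 A)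
    (hAi : ¬ 2 ∣ A.index) (hAc : ∀ a ∈ A, ∀ b ∈ A, a * b = b * a) (hAH : A ≤ H) :
    H ≤ Subgroup.normalizer ((A ⊔ coreIn H : Subgroup G) : Set G) := by
  haveI : Fact (Nat.Prime 2) := ⟨Nat.prime_two⟩
  haveI := hsol
  let P : Sylow 2 H := (hA2.comap_subtype (K := H)).toSylow fun h => hAi
    ((show 2 ∣ A.relIndex H from h).trans (Subgroup.relIndex_dvd_index_of_le hAH))
  have hn := Cfsg.Agent.S0018.result 2 P (.of_comm fun a b => Subtype.ext (Subtype.ext
    (hAc a.1.1 a.2 b.1.1 b.2)))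
  have hmap : ((P : Subgroup H) ⊔ Cfsg.pPrimeCore 2 H).map H.subtype = A ⊔ coreIn H := by
    rw [Subgroup.map_sup, coreIn]
    congr 1
    show (A.subgroupOf H).map H.subtype = A
    rw [Subgroup.subgroupOf_map_subtype, inf_eq_left.mpr hAH]
  have hc : ∀ g ∈ H, ∀ x ∈ A ⊔ coreIn H, g * x * g⁻¹ ∈ A ⊔ coreIn H := by
    intro g hg x hx
    rw [← hmap] at hx ⊢
    obtain ⟨y, hy, rfl⟩ := hx
    exact ⟨⟨g, hg⟩ * y * ⟨g, hg⟩⁻¹, hn.conj_mem _ hy _, rfl⟩
  intro g hg
  refine Subgroup.mem_normalizer_iff.mpr fun x => ⟨hc g hg x, fun h => ?_⟩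
  have := hc g⁻¹ (inv_mem hg) _ h
  simpa [mul_assoc] using this

/-- The odd core is invariant under the normaliser. -/
theorem normalizer_le_normalizer_coreIn (H : Subgroup G) :
    Subgroup.normalizer (H : Set G) ≤ Subgroup.normalizer (coreIn H : Set G) := by
  have key : ∀ g ∈ Subgroup.normalizer (H : Set G), ∀ x ∈ coreIn H, g * x * g⁻¹ ∈ coreIn H := by
    intro g hg x hx
    let X := (coreIn H).map (MulAut.conj g).toMonoidHom
    have hXH : X ≤ H := by
      rintro _ ⟨y, hy, rfl⟩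
      exact (Subgroup.mem_normalizer_iff.mp hg y).mp (coreIn_le H hy)
    have hn : (X.subgroupOf H).Normal := by
      refine ⟨fun y hy h => ?_⟩
      obtain ⟨z, hz, e⟩ := hy
      change g * z * g⁻¹ = (y : G) at e
      have hh : g⁻¹ * (h : G) * g ∈ H := by
        simpa using (Subgroup.mem_normalizer_iff.mp (inv_mem hg) (h : G)).mp h.2
      refine ⟨_, conj_mem_coreIn hh hz, ?_⟩
      show g * (g⁻¹ * (h : G) * g * z * (g⁻¹ * (h : G) * g)⁻¹) * g⁻¹ = (h : G) * y * (h : G)⁻¹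
      rw [← e]
      group
    have hc : (Nat.card (X.subgroupOf H)).Coprime 2 := by
      rw [Nat.card_congr (Subgroup.subgroupOfEquivOfLe hXH).toEquiv,
        Subgroup.card_map_of_injective (MulAut.conj g).injective, Nat.coprime_two_right]
      exact coreIn_odd H
    exact ⟨⟨g * x * g⁻¹, hXH ⟨x, hx, rfl⟩⟩,
      CfsgLib.Transfer.le_pPrimeCore hn hc ⟨x, hx, rfl⟩, rfl⟩
  intro g hg
  refine Subgroup.mem_normalizer_iff.mpr fun x => ⟨key g hg x, fun h => ?_⟩
  have := key g⁻¹ (inv_mem hg) _ h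
  simpa [mul_assoc] using this

end CfsgLib.OneComposite
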