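import Mathlib
import Cfsg.Agent.Lib.FourOrbit.Basic
import Cfsg.Agent.Lib.CIT.Basic
import Cfsg.Agent.Lib.OneComposite.Core

/-!
Groups whose only composite element order is `2r`.
-/

set_option autoImplicit false
set_option linter.style.haveILetI false

namespace CfsgLib.OneComposite

/-- Every element order is `1`, a prime or `2r`, and `2r` occurs. -/
structure Hyp (G : Type*) [Group G] (r : ℕ) : Prop where
  prime : r.Prime
  ne_two : r ≠ 2
  orders : ∀ x : G, x ≠ 1 → (orderOf x).Prime ∨ orderOf x = 2 * r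
  ex : ∃ x : G, orderOf x = 2 * r

variable {G : Type*} [Group G] [Finite G] {r : ℕ}

theorem Hyp.odd_prime (h : Hyp G r) {x : G} (hx : x ≠ 1) (ho : Odd (orderOf x)) :
    (orderOf x).Prime := by
  refine (h.orders x hx).resolve_right fun e => ?_
  rw [e] at ho
  exact Nat.not_even_iff_odd.mpr ho (even_two_mul r)

theorem Hyp.order_of_pow (h : Hyp G r) {x : G} {s k : ℕ} (hs : s.Prime) (hx : x ≠ 1)
    (hd : x ^ s ^ k = 1) : orderOf x = s := by
  obtain ⟨j, -, hj⟩ := (Nat.dvd_prime_pow hs).mp (orderOf_dvd_of_pow_eq_one hd)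
  rcases h.orders x hx with hp | hp
  · rw [hj]
    have hj1 : j = 1 := ((Nat.Prime.pow_eq_iff (hj ▸ hp)).mp rfl).2
    rw [hj1, pow_one]
  · exfalso
    have h2 : 2 ∣ s ^ j := ⟨r, hj ▸ hp⟩
    have h3 : r ∣ s ^ j := Dvd.intro_left 2 (hj ▸ hp).symm
    have e2 := (Nat.prime_dvd_prime_iff_eq Nat.prime_two hs).mp (Nat.prime_two.dvd_of_dvd_pow h2)
    have e3 := (Nat.prime_dvd_prime_iff_eq h.prime hs).mp (h.prime.dvd_of_dvd_pow h3)
    exact h.ne_two (e3.trans e2.symm)

theorem Hyp.pow_eq_one_of_pgroup (h : Hyp G r) {s : ℕ} (hs : s.Prime) {P : Subgroup G}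
    (hP : IsPGroup s P) {x : G} (hx : x ∈ P) : x ^ s = 1 := by
  by_cases hx1 : x = 1
  · simp [hx1]
  obtain ⟨k, hk⟩ := hP ⟨x, hx⟩
  rw [← h.order_of_pow hs hx1 (congrArg Subtype.val hk), pow_orderOf_eq_one]

theorem Hyp.mul_self_of_two (h : Hyp G r) {P : Subgroup G} (hP : IsPGroup 2 P) {x : G}
    (hx : x ∈ P) : x * x = 1 := by
  rw [← sq]
  exact h.pow_eq_one_of_pgroup Nat.prime_two hP hx

/-- Commuting elements of distinct prime orders have orders `2` and `r`. -/
theorem Hyp.pair (h : Hyp G r) {x y : G} (hc : Commute x y) (hx : (orderOf x).Prime)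
    (hy : (orderOf y).Prime) (hne : orderOf x ≠ orderOf y) :
    (orderOf x = 2 ∧ orderOf y = r) ∨ (orderOf x = r ∧ orderOf y = 2) := by
  have ho := hc.orderOf_mul_eq_mul_orderOf_of_coprime ((Nat.coprime_primes hx hy).mpr hne)
  have hne1 : x * y ≠ 1 := fun e => by
    rw [e, orderOf_one] at ho
    exact hx.ne_one (Nat.eq_one_of_mul_eq_one_right ho.symm)
  rcases h.orders _ hne1 with hp | hp
  · exact absurd hp (ho ▸ Nat.not_prime_mul hx.ne_one hy.ne_one)
  · rw [ho] at hp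
    rcases (Nat.Prime.dvd_mul Nat.prime_two).mp (Dvd.intro r hp.symm) with h2 | h2
    · have e := (Nat.prime_dvd_prime_iff_eq Nat.prime_two hx).mp h2
      left
      rw [← e] at hp ⊢
      exact ⟨rfl, Nat.eq_of_mul_eq_mul_left two_pos hp⟩
    · have e := (Nat.prime_dvd_prime_iff_eq Nat.prime_two hy).mp h2
      right
      rw [← e, mul_comm] at hp
      rw [← e]
      exact ⟨Nat.eq_of_mul_eq_mul_left two_pos hp, rfl⟩

/-- The primes of the centraliser of an element of order `2` or `r`. -/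
theorem Hyp.cent_primes (h : Hyp G r) {x : G} (hx : orderOf x = 2 ∨ orderOf x = r) {s : ℕ}
    (hs : s.Prime) (hd : s ∣ Nat.card (Subgroup.centralizer ({x} : Set G))) : s = 2 ∨ s = r := by
  haveI := Fact.mk hs
  obtain ⟨⟨y, hy⟩, ho⟩ := exists_prime_orderOf_dvd_card' s hd
  rw [Subgroup.orderOf_mk] at ho
  have hxp : (orderOf x).Prime := by
    rcases hx with e | e <;> rw [e]
    exacts [Nat.prime_two, h.prime]
  by_cases he : orderOf x = s
  · rwa [← he]
  rcases h.pair (Subgroup.mem_centralizer_singleton_iff.mp hy).symm hxp (ho ▸ hs) (ho ▸ he) with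
    ⟨-, e⟩ | ⟨-, e⟩
  · exact Or.inr (ho ▸ e)
  · exact Or.inl (ho ▸ e)

/-- The centraliser of an element of another prime order is a group of prime power order. -/
theorem Hyp.cent_pgroup (h : Hyp G r) {x : G} {s : ℕ} (hx : orderOf x = s) (hs : s.Prime)
    (h2 : s ≠ 2) (hr : s ≠ r) : IsPGroup s (Subgroup.centralizer ({x} : Set G)) := by
  haveI := Fact.mk hs
  refine IsPGroup.iff_card.mpr ⟨_, Nat.eq_prime_pow_of_unique_prime_dvd Nat.card_pos.ne'
    fun {q} hq hd => by_contra fun hne => ?_⟩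
  haveI := Fact.mk hq
  obtain ⟨⟨y, hy⟩, ho⟩ := exists_prime_orderOf_dvd_card' q hd
  rw [Subgroup.orderOf_mk] at ho
  rcases h.pair (Subgroup.mem_centralizer_singleton_iff.mp hy).symm (hx ▸ hs) (ho ▸ hq)
    (by rw [hx, ho]; exact Ne.symm hne) with ⟨e, -⟩ | ⟨e, -⟩
  · exact h2 (hx ▸ e)
  · exact hr (hx ▸ e)

theorem Hyp.cent_solvable (h : Hyp G r) {x : G} (hx : orderOf x = 2 ∨ orderOf x = r) :
    Group.IsSolvable (Subgroup.centralizer ({x} : Set G)) :=
  FourOrbit.isSolvable_of_two_primes Nat.prime_two h.prime (Ne.symm h.ne_two)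
    fun _ hs hd => h.cent_primes hx hs hd

/-- An odd subgroup of such a centraliser is an `r`-group. -/
theorem Hyp.pgroup_of_odd (h : Hyp G r) {x : G} (hx : orderOf x = 2 ∨ orderOf x = r)
    {X : Subgroup G} (hX : Odd (Nat.card X)) (hle : X ≤ Subgroup.centralizer ({x} : Set G)) :
    IsPGroup r X := by
  haveI := Fact.mk h.prime
  refine IsPGroup.iff_card.mpr ⟨_, Nat.eq_prime_pow_of_unique_prime_dvd Nat.card_pos.ne'
    fun {q} hq hd => (h.cent_primes hx hq (hd.trans (Subgroup.card_dvd_of_le hle))).resolve_left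
      fun e => ?_⟩
  subst e
  exact Nat.not_even_iff_odd.mpr hX (even_iff_two_dvd.mpr hd)

theorem two_r_parts {x : G} {r : ℕ} (hr : r.Prime) (hx : orderOf x = 2 * r) :
    orderOf (x ^ r) = 2 ∧ orderOf (x ^ 2) = r := by
  constructor
  · rw [orderOf_pow_of_dvd hr.ne_zero (hx ▸ dvd_mul_left r 2), hx, Nat.mul_div_cancel _ hr.pos]
  · rw [orderOf_pow_of_dvd two_ne_zero (hx ▸ dvd_mul_right 2 r), hx,
      Nat.mul_div_cancel_left _ two_pos]

end CfsgLib.OneComposite
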