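import Mathlib
import Cfsg.Agent.Lib.OneComposite.Basic
import Cfsg.Agent.Lib.Invol.StronglyEmbedded
import Cfsg.Agent.Lib.Transfer.Focal
import Cfsg.Agent.Lib.Coprime.Action
import Cfsg.Agent.Lib.Coprime.Generation
import Cfsg.Agent.S0217
import Cfsg.Agent.Lib.RealClassGraph.Basic
import Cfsg.Agent.Lib.Transfer.Basic

/-!
The signalizer functor `a ↦ O(C(a))` on a Sylow `2`-subgroup of rank at least three, and the
transitivity of its normaliser.
-/

set_option autoImplicit false
set_option linter.style.haveILetI false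
set_option linter.unusedSectionVars false

namespace CfsgLib.OneComposite

variable {G : Type*} [Group G] [Finite G] {r : ℕ} {A : Subgroup G}

/-- A non-cyclic Sylow `2`-subgroup. -/
structure Pre (G : Type*) [Group G] (r : ℕ) (A : Subgroup G) : Prop where
  hyp : Hyp G r
  two : IsPGroup 2 A
  odd_index : ¬ 2 ∣ A.index
  big : 4 ≤ Nat.card A

/-- The value of the signalizer functor. -/
def theta (a : G) : Subgroup G := coreIn (Subgroup.centralizer ({a} : Set G))

theorem theta_le (a : G) : theta a ≤ Subgroup.centralizer ({a} : Set G) := coreIn_le _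

theorem theta_odd (a : G) : Odd (Nat.card (theta a)) := coreIn_odd _

/-- The subgroup generated by the values. -/
def closureW (A : Subgroup G) : Subgroup G := ⨆ a : {a : G // a ∈ A ∧ a ≠ 1}, theta (a : G)

namespace Pre

variable (S : Pre G r A)
include S

theorem invol {a : G} (ha : a ∈ A) : a * a = 1 := S.hyp.mul_self_of_two S.two ha

theorem comm {a : G} (ha : a ∈ A) {b : G} (hb : b ∈ A) : a * b = b * a := by
  have hi : ∀ c ∈ A, c⁻¹ = c := fun c hc => inv_eq_of_mul_eq_one_right (S.invol hc)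
  calc a * b = (a * b)⁻¹ := (hi _ (mul_mem ha hb)).symm
    _ = b * a := by rw [mul_inv_rev, hi a ha, hi b hb]

theorem isMulCommutative : IsMulCommutative A :=
  .of_comm fun a b => Subtype.ext (S.comm a.2 b.2)

theorem orderOf_invol {a : G} (ha : a ∈ A) (h1 : a ≠ 1) : orderOf a = 2 :=
  CIT.orderOf_two (S.invol ha) h1

theorem le_cent {a : G} (ha : a ∈ A) : A ≤ Subgroup.centralizer ({a} : Set G) := fun _ hb =>
  Subgroup.mem_centralizer_singleton_iff.mpr (S.comm hb ha)

theorem cent_solvable {a : G} (ha : a ∈ A) (h1 : a ≠ 1) :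
    Group.IsSolvable (Subgroup.centralizer ({a} : Set G)) :=
  S.hyp.cent_solvable (Or.inl (S.orderOf_invol ha h1))

theorem normalizes_theta {a : G} (ha : a ∈ A) : A ≤ Subgroup.normalizer (theta a : Set G) :=
  (S.le_cent ha).trans (le_normalizer_coreIn _)

theorem le_theta {a : G} (ha : a ∈ A) (h1 : a ≠ 1) {X : Subgroup G}
    (hX : X ≤ Subgroup.centralizer ({a} : Set G)) (hAX : A ≤ Subgroup.normalizer (X : Set G))
    (hodd : Odd (Nat.card X)) : X ≤ theta a :=
  le_coreIn (S.cent_solvable ha h1) S.two S.odd_index (fun _ hx _ hy => S.comm hx hy)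
    (S.le_cent ha) hX hAX hodd

theorem balanced {a b : G} (ha : a ∈ A) (hb : b ∈ A) (hb1 : b ≠ 1) :
    theta a ⊓ Subgroup.centralizer ({b} : Set G) ≤ theta b :=
  S.le_theta hb hb1 inf_le_right
    (Coprime.le_normalizer_inf_of_le (S.normalizes_theta ha)
      ((S.le_cent hb).trans Subgroup.le_normalizer))
    ((theta_odd a).of_dvd_nat (Subgroup.card_dvd_of_le inf_le_left))

theorem theta_pgroup {a : G} (ha : a ∈ A) (h1 : a ≠ 1) : IsPGroup r (theta a) :=
  S.hyp.pgroup_of_odd (Or.inl (S.orderOf_invol ha h1)) (theta_odd a) (theta_le a)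

theorem exists_ne : ∃ a ∈ A, a ≠ 1 := by
  by_contra h
  push Not at h
  have : A = ⊥ := (Subgroup.eq_bot_iff_forall _).mpr h
  have := S.big
  simp_all

theorem conj_theta_le {a g : G} (ha : a ∈ A) (h1 : a ≠ 1)
    (hg : g ∈ Subgroup.normalizer (A : Set G)) {x : G} (hx : x ∈ theta a) :
    g * x * g⁻¹ ∈ theta (g * a * g⁻¹) := by
  have ha' : g * a * g⁻¹ ∈ A := (Subgroup.mem_normalizer_iff.mp hg a).mp ha
  have h1' : g * a * g⁻¹ ≠ 1 := fun e => h1 (conj_eq_one_iff.mp e)
  refine S.le_theta ha' h1' (X := (theta a).map (MulAut.conj g).toMonoidHom) ?_ ?_ ?_ ⟨x, hx, rfl⟩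
  · rintro _ ⟨y, hy, rfl⟩
    have h := Subgroup.mem_centralizer_singleton_iff.mp (theta_le a hy)
    refine Subgroup.mem_centralizer_singleton_iff.mpr ?_
    show g * y * g⁻¹ * (g * a * g⁻¹) = g * a * g⁻¹ * (g * y * g⁻¹)
    rw [show g * y * g⁻¹ * (g * a * g⁻¹) = g * (y * a) * g⁻¹ by group, h]
    group
  · intro b hb
    have hb' : g⁻¹ * b * g ∈ A := by
      have := (Subgroup.mem_normalizer_iff.mp (inv_mem hg) b).mp hb
      simpa using this
    refine Subgroup.mem_normalizer_iff.mpr fun y => ?_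
    rw [Subgroup.mem_map_equiv, Subgroup.mem_map_equiv]
    rw [Subgroup.mem_normalizer_iff.mp (S.normalizes_theta ha hb') ((MulAut.conj g).symm y)]
    simp [mul_assoc]
  · rw [Subgroup.card_map_of_injective (MulAut.conj g).injective]
    exact theta_odd a

/-- A conjugate of `A` inside `A θ(a)` gives an element of the normaliser of `A`. -/
theorem exists_mul_normalizer {a : G} (ha : a ∈ A) (h1 : a ≠ 1) {g : G}
    (hg : g ∈ Subgroup.centralizer ({a} : Set G)) :
    ∃ n ∈ A ⊔ theta a, n * g ∈ Subgroup.normalizer (A : Set G) := by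
  haveI : Fact (Nat.Prime 2) := ⟨Nat.prime_two⟩
  set N := A ⊔ theta a
  have hgN : g ∈ Subgroup.normalizer (N : Set G) :=
    normal_sup_coreIn (S.cent_solvable ha h1) S.two S.odd_index (fun _ hx _ hy => S.comm hx hy)
      (S.le_cent ha) hg
  let B := A.map (MulAut.conj g).toMonoidHom
  have hBN : B ≤ N := by
    rintro _ ⟨x, hx, rfl⟩
    exact (Subgroup.mem_normalizer_iff.mp hgN x).mp (Subgroup.mem_sup_left hx)
  have hB2 : IsPGroup 2 B := S.two.map _
  have hBi : B.index = A.index := Subgroup.index_map_equiv A (MulAut.conj g)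
  let P : Sylow 2 N := (hB2.comap_subtype (K := N)).toSylow fun h => S.odd_index (hBi ▸
    ((show 2 ∣ B.relIndex N from h).trans (Subgroup.relIndex_dvd_index_of_le hBN)))
  let Q : Sylow 2 N := (S.two.comap_subtype (K := N)).toSylow fun h => S.odd_index
    ((show 2 ∣ A.relIndex N from h).trans (Subgroup.relIndex_dvd_index_of_le le_sup_left))
  obtain ⟨n, hn⟩ := MulAction.exists_smul_eq N P Q
  have hnN : (n : G) * g ∈ Subgroup.normalizer (A : Set G) := by
    refine Subgroup.mem_normalizer_iff_map_conj_eq.mpr (Subgroup.eq_of_le_of_card_ge ?_ ?_)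
    · rintro _ ⟨x, hx, rfl⟩
      have hxB : g * x * g⁻¹ ∈ B := ⟨x, hx, rfl⟩
      have h : n * (⟨g * x * g⁻¹, hBN hxB⟩ : N) * n⁻¹ ∈ (Q : Subgroup N) := by
        rw [← hn, Sylow.coe_subgroup_smul, Subgroup.pointwise_smul_def]
        exact ⟨⟨g * x * g⁻¹, hBN hxB⟩, hxB, rfl⟩
      have h' : (n : G) * (g * x * g⁻¹) * (n : G)⁻¹ ∈ A := h
      show (n : G) * g * x * ((n : G) * g)⁻¹ ∈ A
      rw [show (n : G) * g * x * ((n : G) * g)⁻¹ = (n : G) * (g * x * g⁻¹) * (n : G)⁻¹ by group]
      exact h'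
    · rw [Subgroup.card_map_of_injective (MulAut.conj ((n : G) * g)).injective]
  exact ⟨n, n.2, hnN⟩

theorem cent_le_of {a : G} (ha : a ∈ A) (h1 : a ≠ 1) {M : Subgroup G}
    (hN : Subgroup.normalizer (A : Set G) ≤ M) (hθ : theta a ≤ M) :
    Subgroup.centralizer ({a} : Set G) ≤ M := by
  intro g hg
  obtain ⟨n, hn, hnN⟩ := S.exists_mul_normalizer ha h1 hg
  have hnM : n ∈ M := sup_le (Subgroup.le_normalizer.trans hN) hθ hn
  have := mul_mem (inv_mem hnM) (hN hnN)
  rwa [inv_mul_cancel_left] at this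

/-- An element of odd order with the same action. -/
theorem exists_odd_equiv {g : G} (hg : g ∈ Subgroup.normalizer (A : Set G)) :
    ∃ g' ∈ Subgroup.normalizer (A : Set G), Odd (orderOf g') ∧ g' ∈ Subgroup.zpowers g ∧
      ∀ a ∈ A, g' * a * g'⁻¹ = g * a * g⁻¹ := by
  haveI : Fact (Nat.Prime 2) := ⟨Nat.prime_two⟩
  obtain ⟨k, m, hm, hkm⟩ := Nat.exists_eq_pow_mul_and_not_dvd (orderOf_pos g).ne' 2 (by norm_num)
  have hmo : Odd m := Nat.not_even_iff_odd.mp fun h => hm (even_iff_two_dvd.mp h)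
  have hsub : g ^ m ∈ A := by
    set N := Subgroup.normalizer (A : Set G)
    have hx : (⟨g, hg⟩ : N) ^ m ∈ A.subgroupOf N := by
      haveI : (A.subgroupOf N).Normal := Subgroup.normal_in_normalizer
      let P : Sylow 2 N := (S.two.comap_subtype (K := N)).toSylow fun h => S.odd_index
        ((show 2 ∣ A.relIndex N from h).trans
          (Subgroup.relIndex_dvd_index_of_le Subgroup.le_normalizer))
      have hp : IsPGroup 2 (Subgroup.zpowers ((⟨g, hg⟩ : N) ^ m)) := Transfer.isPGroup_zpowers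
        ⟨k, by
          rw [orderOf_pow_of_dvd (by rintro rfl; simp at hm) (by
              rw [Subgroup.orderOf_mk, hkm]; exact dvd_mul_left m _),
            Subgroup.orderOf_mk, hkm, Nat.mul_div_cancel _ hmo.pos]⟩
      obtain ⟨R, hR⟩ := hp.exists_le_sylow
      haveI : (P : Subgroup N).Normal := (inferInstance : (A.subgroupOf N).Normal)
      haveI := Sylow.unique_of_normal P (by assumption)
      have hRP : R = P := Subsingleton.elim _ _
      have hmem := hR (Subgroup.mem_zpowers ((⟨g, hg⟩ : N) ^ m))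
      rw [hRP] at hmem
      exact hmem
    exact hx
  obtain ⟨c, hc⟩ : ∃ c, (m + 1) ^ k = m * c + 1 := by
    obtain ⟨c, hc⟩ := Nat.sub_dvd_pow_sub_pow (m + 1) 1 k
    refine ⟨c, ?_⟩
    have h1 : 1 ≤ (m + 1) ^ k := Nat.one_le_pow _ _ (by omega)
    rw [one_pow, Nat.add_sub_cancel] at hc
    omega
  refine ⟨g ^ (m + 1) ^ k, pow_mem hg _, hmo.of_dvd_nat (orderOf_dvd_of_pow_eq_one ?_),
    Subgroup.npow_mem_zpowers _ _, fun a ha => ?_⟩
  · rw [← pow_mul]
    refine orderOf_dvd_iff_pow_eq_one.mp ?_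
    rw [hkm]
    exact mul_dvd_mul_right (pow_dvd_pow_of_dvd (even_iff_two_dvd.mp hmo.add_one) k) m
  · rw [hc, pow_succ', pow_mul, show g * (g ^ m) ^ c * a * (g * (g ^ m) ^ c)⁻¹ =
      g * ((g ^ m) ^ c * a * ((g ^ m) ^ c)⁻¹) * g⁻¹ by group, S.comm (pow_mem hsub c) ha,
      mul_inv_cancel_right]

theorem two_mem {g : G} (hg : g ∈ Subgroup.normalizer (A : Set G)) (ho : g * g = 1) : g ∈ A := by
  haveI : Fact (Nat.Prime 2) := ⟨Nat.prime_two⟩
  set N := Subgroup.normalizer (A : Set G)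
  haveI : (A.subgroupOf N).Normal := Subgroup.normal_in_normalizer
  let P : Sylow 2 N := (S.two.comap_subtype (K := N)).toSylow fun h => S.odd_index
    ((show 2 ∣ A.relIndex N from h).trans
      (Subgroup.relIndex_dvd_index_of_le Subgroup.le_normalizer))
  haveI : (P : Subgroup N).Normal := (inferInstance : (A.subgroupOf N).Normal)
  haveI := Sylow.unique_of_normal P (by assumption)
  have hp : IsPGroup 2 (Subgroup.zpowers (⟨g, hg⟩ : N)) := by
    intro x
    obtain ⟨k, hk⟩ := Subgroup.mem_zpowers_iff.mp x.2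
    refine ⟨1, Subtype.ext ?_⟩
    rw [pow_one, sq, Subgroup.coe_mul, ← hk, ← (Commute.refl (⟨g, hg⟩ : N)).mul_zpow,
      show (⟨g, hg⟩ : N) * ⟨g, hg⟩ = 1 from Subtype.ext ho, one_zpow, Subgroup.coe_one]
  obtain ⟨R, hR⟩ := hp.exists_le_sylow
  have hRP : R = P := Subsingleton.elim _ _
  have hmem := hR (Subgroup.mem_zpowers (⟨g, hg⟩ : N))
  rw [hRP] at hmem
  exact hmem

end Pre

/-- A non-cyclic Sylow `2`-subgroup on which the signalizer functor is complete. -/
structure Setup (G : Type*) [Group G] [Finite G] (r : ℕ) (A : Subgroup G) : Prop extends Pre G r A where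
  complete : Odd (Nat.card (closureW A)) ∧
    ∀ a ∈ A, a ≠ 1 → closureW A ⊓ Subgroup.centralizer ({a} : Set G) = theta a

theorem Pre.setup (S : Pre G r A) (h8 : 8 ≤ Nat.card A) : Setup G r A := by
  refine ⟨S, ?_⟩

  haveI : Fact (Nat.Prime 2) := ⟨Nat.prime_two⟩
  have h := Cfsg.Agent.S0217.result (p := 2) A (fun a ha b hb => S.comm ha hb)
    (fun a ha => by rw [sq]; exact S.invol ha) (le_trans (by norm_num) h8) theta
    (fun a _ _ => theta_le a)
    (fun a _ _ hd => Nat.not_even_iff_odd.mpr (theta_odd a) (even_iff_two_dvd.mpr hd))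
    (fun a ha _ b hb x hx => conj_mem_coreIn (S.le_cent ha hb) hx)
    (fun a _ _ => RealClassGraph.solvable_of_odd (theta_odd a))
    (fun a ha _ b hb hb1 => S.balanced ha hb hb1)
  exact ⟨Nat.not_even_iff_odd.mp fun he => h.1 (even_iff_two_dvd.mp he), h.2⟩

namespace Setup

variable (S : Setup G r A)
include S

theorem theta_le_W {a : G} (ha : a ∈ A) (h1 : a ≠ 1) : theta a ≤ closureW A :=
  le_iSup (fun b : {b : G // b ∈ A ∧ b ≠ 1} => theta (b : G)) ⟨a, ha, h1⟩

theorem normalizer_le : Subgroup.normalizer (A : Set G) ≤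
    Subgroup.normalizer (closureW A : Set G) := by
  have key : ∀ g ∈ Subgroup.normalizer (A : Set G), ∀ x ∈ closureW A,
      g * x * g⁻¹ ∈ closureW A := by
    intro g hg x hx
    have hle : closureW A ≤ (closureW A).comap (MulAut.conj g).toMonoidHom :=
      iSup_le fun ⟨a, ha, h1⟩ y hy => S.theta_le_W
        ((Subgroup.mem_normalizer_iff.mp hg a).mp ha) (fun e => h1 (conj_eq_one_iff.mp e))
        (S.toPre.conj_theta_le ha h1 hg hy)
    exact hle hx
  intro g hg
  refine Subgroup.mem_normalizer_iff.mpr fun x => ⟨key g hg x, fun h => ?_⟩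
  have := key g⁻¹ (inv_mem hg) _ h
  simpa [mul_assoc] using this

theorem le_normalizer_W : A ≤ Subgroup.normalizer (closureW A : Set G) :=
  (Subgroup.le_normalizer).trans S.normalizer_le

theorem W_pgroup : IsPGroup r (closureW A) := by
  haveI : Fact (Nat.Prime 2) := ⟨Nat.prime_two⟩
  haveI := Fact.mk S.hyp.prime
  haveI := S.isMulCommutative
  refine IsPGroup.iff_card.mpr ⟨_, Nat.eq_prime_pow_of_unique_prime_dvd Nat.card_pos.ne'
    fun {q} hq hd => by_contra fun hne => ?_⟩
  haveI := Fact.mk hq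
  have hcop : (Nat.card A).Coprime (Nat.card (closureW A)) := by
    obtain ⟨k, hk⟩ := IsPGroup.iff_card.mp S.two
    rw [hk]
    exact (Nat.coprime_two_left.mpr S.complete.1).pow_left k
  obtain ⟨Q, hQ⟩ := Coprime.exists_invariant_sylow S.le_normalizer_W hcop
    (Or.inl (Coprime.isSolvable_of_isMulCommutative A)) q
  set Q' := (Q : Subgroup (closureW A)).map (closureW A).subtype
  have hnc : ¬ IsCyclic A := Coprime.not_isCyclic_of_exponent (p := 2)
    (fun a ha => by rw [sq]; exact S.invol ha) two_pos (lt_of_lt_of_le (by norm_num) S.big)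
  have hle : Q' ≤ ⊥ := Coprime.le_of_centralizer_le hnc hQ
    (hcop.coprime_dvd_right (Subgroup.card_dvd_of_le (Subgroup.map_subtype_le _)))
    fun a ha h1 x hx => by
      obtain ⟨hxQ, hxC⟩ := Subgroup.mem_inf.mp hx
      have hxt : x ∈ theta a :=
        S.complete.2 a ha h1 ▸ Subgroup.mem_inf.mpr ⟨Subgroup.map_subtype_le _ hxQ, hxC⟩
      obtain ⟨k, hk⟩ := (Q.2.map _) ⟨x, hxQ⟩
      obtain ⟨j, hj⟩ := S.theta_pgroup ha h1 ⟨x, hxt⟩
      refine orderOf_eq_one_iff.mp (Nat.eq_one_of_dvd_coprimes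
        (Nat.Coprime.pow k j ((Nat.coprime_primes hq S.hyp.prime).mpr hne))
        (orderOf_dvd_of_pow_eq_one (congrArg Subtype.val hk))
        (orderOf_dvd_of_pow_eq_one (congrArg Subtype.val hj)))
  exact Q.ne_bot_of_dvd_card hd (Subgroup.map_eq_bot_iff_of_injective _
    (closureW A).subtype_injective |>.mp (le_bot_iff.mp hle))

/-- A proper overgroup of the normaliser containing all the centralisers is strongly embedded. -/
theorem strongly_of {M : Subgroup G} (hN : Subgroup.normalizer (A : Set G) ≤ M)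
    (hC : ∀ a ∈ A, a ≠ 1 → Subgroup.centralizer ({a} : Set G) ≤ M) (htop : M ≠ ⊤) :
    Cfsg.IsStronglyEmbedded M := by
  haveI : Fact (Nat.Prime 2) := ⟨Nat.prime_two⟩
  have hAM : A ≤ M := Subgroup.le_normalizer.trans hN
  have heven : Even (Nat.card M) := by
    obtain ⟨a, ha, h1⟩ := S.exists_ne
    exact even_iff_two_dvd.mpr (S.orderOf_invol ha h1 ▸ Subgroup.orderOf_dvd_natCard M (hAM ha))
  let P : Sylow 2 M := (S.two.comap_subtype (K := M)).toSylow fun h => S.odd_index
    ((show 2 ∣ A.relIndex M from h).trans (Subgroup.relIndex_dvd_index_of_le hAM))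
  have hconj : ∀ t ∈ M, orderOf t = 2 → ∃ m ∈ M, m * t * m⁻¹ ∈ A := by
    intro t ht ht2
    have hp : IsPGroup 2 (Subgroup.zpowers (⟨t, ht⟩ : M)) :=
      Transfer.isPGroup_zpowers ⟨1, by rw [pow_one, Subgroup.orderOf_mk, ht2]⟩
    obtain ⟨R, hR⟩ := hp.exists_le_sylow
    obtain ⟨m, hm⟩ := MulAction.exists_smul_eq M R P
    refine ⟨m, m.2, ?_⟩
    have : m * ⟨t, ht⟩ * m⁻¹ ∈ (P : Subgroup M) := by
      rw [← hm, Sylow.coe_subgroup_smul, Subgroup.pointwise_smul_def]
      exact ⟨⟨t, ht⟩, hR (Subgroup.mem_zpowers _), rfl⟩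
    exact this
  refine (CfsgLib.Invol.strongly_iff_centralizer_fusion htop heven).mpr ⟨?_, ?_⟩
  · intro t ht ht2 c hc
    obtain ⟨m, hm, hmt⟩ := hconj t ht ht2
    have h1 : m * c * m⁻¹ ∈ M := hC _ hmt (fun e => by
      rw [conj_eq_one_iff] at e
      rw [e, orderOf_one] at ht2
      omega) (Subgroup.mem_centralizer_singleton_iff.mpr (by
        rw [show m * c * m⁻¹ * (m * t * m⁻¹) = m * (c * t) * m⁻¹ by group,
          Subgroup.mem_centralizer_singleton_iff.mp hc]
        group))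
    have := mul_mem (mul_mem (inv_mem hm) h1) hm
    simpa [mul_assoc] using this
  · intro t ht s hs ht2 hs2 hts
    obtain ⟨m, hm, hmt⟩ := hconj t ht ht2
    obtain ⟨l, hl, hls⟩ := hconj s hs hs2
    obtain ⟨g, hg⟩ := isConj_iff.mp hts
    let T : Sylow 2 G := S.two.toSylow S.odd_index
    have hcm : (l * g * m⁻¹) * (m * t * m⁻¹) * (l * g * m⁻¹)⁻¹ = l * s * l⁻¹ := by
      rw [← hg]; group
    obtain ⟨n, hn, hne⟩ := Transfer.exists_normalizer_conj_of_isMulCommutative T
      S.isMulCommutative (x := m * t * m⁻¹) hmt (l * g * m⁻¹) (by rw [hcm]; exact hls)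
    refine ⟨l⁻¹ * n * m, mul_mem (mul_mem (inv_mem hl) (hN hn)) hm, ?_⟩
    rw [show l⁻¹ * n * m * t * (l⁻¹ * n * m)⁻¹ = l⁻¹ * (n * (m * t * m⁻¹) * n⁻¹) * l by group,
      hne, hcm]
    group

theorem exists_strongly_embedded [IsSimpleGroup G] (hnc : ∃ a b : G, a * b ≠ b * a) :
    ∃ M : Subgroup G, Cfsg.IsStronglyEmbedded M ∧ Subgroup.normalizer (A : Set G) ≤ M := by
  haveI := S.isMulCommutative
  obtain ⟨M, hN, hC, htop⟩ : ∃ M : Subgroup G, Subgroup.normalizer (A : Set G) ≤ M ∧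
      (∀ a ∈ A, a ≠ 1 → Subgroup.centralizer ({a} : Set G) ≤ M) ∧ M ≠ ⊤ := by
    by_cases hW : closureW A = ⊥
    · refine ⟨_, le_rfl, fun a ha h1 => S.cent_le_of ha h1 le_rfl
        (le_trans (S.theta_le_W ha h1) (hW ▸ bot_le)), fun h => ?_⟩
      rcases (Subgroup.normalizer_eq_top_iff.mp h).eq_bot_or_eq_top with e | e
      · have := S.big
        simp [e] at this
      · obtain ⟨a, b, hab⟩ := hnc
        exact hab (S.comm (e ▸ Subgroup.mem_top a) (e ▸ Subgroup.mem_top b))
    · refine ⟨_, S.normalizer_le, fun a ha h1 => S.cent_le_of ha h1 S.normalizer_le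
        ((S.theta_le_W ha h1).trans Subgroup.le_normalizer), fun h => ?_⟩
      rcases (Subgroup.normalizer_eq_top_iff.mp h).eq_bot_or_eq_top with e | e
      · exact hW e
      · obtain ⟨a, ha, h1⟩ := S.exists_ne
        have h2 := Subgroup.orderOf_dvd_natCard A ha
        rw [S.orderOf_invol ha h1] at h2
        have h3 := S.complete.1
        rw [e, Subgroup.card_top] at h3
        exact Nat.not_even_iff_odd.mpr h3
          (even_iff_two_dvd.mpr (h2.trans A.card_subgroup_dvd_card))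
  exact ⟨M, S.strongly_of hN hC htop, hN⟩

/-- The normaliser of `A` is transitive on its involutions. -/
theorem transitive [IsSimpleGroup G] (hnc : ∃ a b : G, a * b ≠ b * a) {a b : G} (ha : a ∈ A)
    (ha1 : a ≠ 1) (hb : b ∈ A) (hb1 : b ≠ 1) :
    ∃ g ∈ Subgroup.normalizer (A : Set G), g * a * g⁻¹ = b := by
  haveI : Fact (Nat.Prime 2) := ⟨Nat.prime_two⟩
  obtain ⟨M, hM, -⟩ := S.exists_strongly_embedded hnc
  obtain ⟨g, hg⟩ := isConj_iff.mp
    (CfsgLib.Invol.strongly_isConj hM (S.orderOf_invol ha ha1) (S.orderOf_invol hb hb1))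
  obtain ⟨n, hn, hne⟩ := Transfer.exists_normalizer_conj_of_isMulCommutative
    (S.two.toSylow S.odd_index : Sylow 2 G) S.isMulCommutative (x := a) ha g
    (by rw [hg]; exact hb)
  exact ⟨n, hn, hne.trans hg⟩

end Setup

end CfsgLib.OneComposite
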