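import Mathlib
import Cfsg.Agent.Lib.OneComposite.Signalizer
import Cfsg.Agent.Lib.OneComposite.AbAction
import Cfsg.Agent.Lib.PSolvable.Omega

/-!
The signalizer functor is constant: `A` centralises `W = O(C(A))`, and all centralisers of
involutions of `A` lie in the normaliser of `A`.
-/

set_option autoImplicit false
set_option linter.style.haveILetI false
set_option linter.unusedSectionVars false

namespace CfsgLib.OneComposite

open Finset

variable {G : Type*} [Group G] [Finite G] {r : ℕ} {A : Subgroup G}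

theorem Hyp.mul_pow_eq_one (h : Hyp G r) {W : Subgroup G} (hW : IsPGroup r W)
    (y : Subgroup.normalizer (W : Set G)) {s : ℕ} (hs : s.Prime) (hs2 : s ≠ 2)
    (hy : orderOf (y : G) = s) {w : G} (hw : w ∈ W) : (w * y) ^ s = 1 := by
  haveI := Fact.mk h.prime
  obtain ⟨hm, -⟩ := mul_pow_abel y ⟨w, hw⟩ s
  have hys : (y : G) ^ s = 1 := hy ▸ pow_orderOf_eq_one _
  rw [hys, inv_one, mul_one] at hm
  change (w * (y : G)) ^ s ∈ W at hm
  obtain ⟨k, hk⟩ := hW ⟨_, hm⟩
  have hz : (w * (y : G)) ^ (s * r ^ k) = 1 := by rw [pow_mul]; exact congrArg Subtype.val hk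
  set z := w * (y : G) with hzdef
  by_cases hz1 : z = 1
  · rw [hz1, one_pow]
  have hodd : Odd (orderOf z) := ((hs.odd_of_ne_two hs2).mul
    ((h.prime.odd_of_ne_two h.ne_two).pow)).of_dvd_nat (orderOf_dvd_of_pow_eq_one hz)
  have hq := h.odd_prime hz1 hodd
  rcases (Nat.Prime.dvd_mul hq).mp (orderOf_dvd_of_pow_eq_one hz) with h' | h'
  · exact orderOf_dvd_iff_pow_eq_one.mp h'
  · have hqr : orderOf z = r := (Nat.prime_dvd_prime_iff_eq hq h.prime).mp (hq.dvd_of_dvd_pow h')
    by_cases hsr : s = r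
    · rw [hsr, ← hqr, pow_orderOf_eq_one]
    exfalso
    obtain ⟨hm', -⟩ := mul_pow_abel y ⟨w, hw⟩ r
    change z ^ r * ((y : G) ^ r)⁻¹ ∈ W at hm'
    rw [← hqr, pow_orderOf_eq_one, one_mul, inv_mem_iff, hqr] at hm'
    obtain ⟨j, hj⟩ := hW ⟨_, hm'⟩
    have h2 : (y : G) ^ (r * r ^ j) = 1 := by rw [pow_mul]; exact congrArg Subtype.val hj
    have h3 : s ∣ r ^ (j + 1) := by
      rw [pow_succ']; exact hy ▸ orderOf_dvd_of_pow_eq_one h2
    exact hsr ((Nat.prime_dvd_prime_iff_eq hs h.prime).mp (hs.dvd_of_dvd_pow h3))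

namespace Pre

variable (S : Pre G r A)
include S

/-- An `r`-subgroup normalised by `N(A)` is centralised by `A`. -/
theorem le_cent_of {W : Subgroup G} (hW : IsPGroup r W)
    (hAN : A ≤ Subgroup.normalizer (W : Set G))
    (htrans : ∀ a ∈ A, a ≠ 1 → ∀ b ∈ A, b ≠ 1 → ∃ g ∈ Subgroup.normalizer (A : Set G),
      g ∈ Subgroup.normalizer (W : Set G) ∧ g * a * g⁻¹ = b) :
    A ≤ Subgroup.centralizer (W : Set G) := by
  classical
  haveI := Fact.mk S.hyp.prime
  have hWodd : Odd (Nat.card W) := by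
    obtain ⟨n, hn⟩ := IsPGroup.iff_card.mp hW
    rw [hn]
    exact (S.hyp.prime.odd_of_ne_two S.hyp.ne_two).pow
  haveI : Finite (MulAut (Abelianization W)) :=
    Finite.of_injective (fun e : MulAut (Abelianization W) => (e : Abelianization W → Abelianization W))
      fun e f h => DFunLike.coe_injective h
  have hodd : Odd (Nat.card (Abelianization W)) :=
    hWodd.of_dvd_nat (Subgroup.card_quotient_dvd_card _)
  let N := Subgroup.normalizer (W : Set G)
  let A' : Subgroup (MulAut (Abelianization W)) := (A.subgroupOf N).map (actV W)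
  have hA' : ∀ a ∈ A', a * a = 1 := by
    rintro _ ⟨⟨a, _⟩, ha, rfl⟩
    rw [← map_mul, ← map_one (actV W)]
    exact congrArg _ (Subtype.ext (S.invol ha))
  by_cases hnt : ∃ a ∈ A', ∃ v : Abelianization W, a • v ≠ v
  swap
  · push Not at hnt
    refine Coprime.le_centralizer_of_frattini hAN ?_ fun a ha k hk => ?_
    · obtain ⟨n, hn⟩ := IsPGroup.iff_card.mp S.two
      rw [hn]
      exact (Nat.coprime_two_left.mpr
        (hWodd.of_dvd_nat (Subgroup.card_subgroup_dvd_card _))).pow_left n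
    · have h := hnt _ ⟨⟨a, hAN ha⟩, ha, rfl⟩ (Abelianization.of ⟨k, hk⟩)
      change actV W _ _ = _ at h
      rw [actV_of, ← mul_inv_eq_one, ← map_inv, ← map_mul, ← MonoidHom.mem_ker,
        Abelianization.ker_of] at h
      refine ⟨_, (CfsgLib.PSolvable.commutator_le_frattini hW).1 h, ?_⟩
      simp [mul_assoc]
  exfalso
  obtain ⟨v, hv, ⟨a₁, ha₁, hav⟩, hsign⟩ := exists_weight hodd hA' hnt
  let B : Subgroup (MulAut (Abelianization W)) := A' ⊓ MulAction.stabilizer _ v
  have hinv : ∀ a ∈ A', a ∉ B → a • v = v⁻¹ := fun a ha haB =>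
    (hsign a ha).resolve_left fun e => haB ⟨ha, MulAction.mem_stabilizer_iff.mpr e⟩
  -- preimages
  let ψ : ∀ a ∈ A, MulAut (Abelianization W) := fun a ha => actV W ⟨a, hAN ha⟩
  have hψmem : ∀ a (ha : a ∈ A), ψ a ha ∈ A' := fun a ha => ⟨⟨a, hAN ha⟩, ha, rfl⟩
  obtain ⟨⟨c, hcN⟩, hcA, hc⟩ := id ha₁
  have hcA' : c ∈ A := hcA
  have hcB : ψ c hcA' ∉ B := fun h => hav (by rw [← hc]; exact (Subgroup.mem_inf.mp h).2)
  have hc1 : c ≠ 1 := fun e => hcB (by
    have : ψ c hcA' = 1 := by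
      exact (congrArg (actV W) (a₁ := (⟨c, hAN hcA'⟩ : N)) (a₂ := 1) (Subtype.ext e)).trans (map_one _)
    rw [this]; exact one_mem _)
  obtain ⟨b, hb, hb1, hbB⟩ : ∃ b, ∃ hb : b ∈ A, b ≠ 1 ∧ ψ b hb ∈ B := by
    obtain ⟨d, hd, hd1, hdc⟩ : ∃ d ∈ A, d ≠ 1 ∧ d ≠ c := by
      by_contra hcon
      push Not at hcon
      have h2 : Nat.card A ≤ 2 := by
        show Nat.card ↥(A : Set G) ≤ 2
        rw [Nat.card_coe_set_eq]
        refine (Set.ncard_le_ncard (t := {1, c}) (fun x hx => ?_)).trans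
          ((Set.ncard_insert_le _ _).trans (by simp))
        by_cases h : x = 1
        · exact Or.inl h
        · exact Or.inr (hcon x hx h)
      have := S.big
      omega
    by_cases hdB : ψ d hd ∈ B
    · exact ⟨d, hd, hd1, hdB⟩
    refine ⟨d * c, mul_mem hd hcA', fun e => hdc (by
      rw [mul_eq_one_iff_eq_inv] at e
      rw [e, inv_eq_of_mul_eq_one_right (S.invol hcA')]), ?_⟩
    have hmul : ψ (d * c) (mul_mem hd hcA') = ψ d hd * ψ c hcA' := by
      rw [← map_mul]; rfl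
    refine ⟨hψmem (d * c) (mul_mem hd hcA'), MulAction.mem_stabilizer_iff.mpr ?_⟩
    rw [hmul, mul_smul, hinv _ (hψmem c hcA') hcB, smul_inv', hinv _ (hψmem d hd) hdB, inv_inv]
  obtain ⟨g₀, hg₀, hg₀W, hgc₀⟩ := htrans c hcA' hc1 b hb hb1
  obtain ⟨g, hg, hgo, hgz, hga⟩ := S.exists_odd_equiv hg₀
  have hgc : g * c * g⁻¹ = b := (hga c hcA').trans hgc₀
  have hg1 : g ≠ 1 := by
    rintro rfl
    rw [one_mul, inv_one, mul_one] at hgc
    exact hcB (by subst hgc; exact hbB)
  have hs := S.hyp.odd_prime hg1 hgo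
  have hs2 : orderOf g ≠ 2 := fun e => by rw [e] at hgo; exact absurd hgo (by decide)
  let y : N := ⟨g, Subgroup.zpowers_le.mpr hg₀W hgz⟩
  have hys : (y : G) ^ orderOf g = 1 := pow_orderOf_eq_one g
  have hnorm := norm_eq y hys fun w hw => S.hyp.mul_pow_eq_one hW y hs hs2 rfl hw
  refine hcB ?_
  have hA2 : IsPGroup 2 A' := (S.two.comap_subtype (K := N)).map _
  have hmem := weight_invariant hodd inf_le_left hA2 hv
    (fun x hx => MulAction.mem_stabilizer_iff.mp (Subgroup.mem_inf.mp hx).2) hinv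
    (y := actV W y) hs (by rw [← map_pow, ← map_one (actV W)]; exact congrArg _ (Subtype.ext hys))
    (fun a ha => by
      obtain ⟨⟨x, hxN⟩, hx, rfl⟩ := ha
      rw [← map_inv, ← map_mul, ← map_mul]
      exact ⟨_, (Subgroup.mem_normalizer_iff.mp hg x).mp hx, rfl⟩)
    (hnorm v) hbB
  have e : (actV W y)⁻¹ * ψ b hb * actV W y = ψ c hcA' := by
    rw [← map_inv, ← map_mul, ← map_mul]
    refine congrArg _ (Subtype.ext ?_)
    show g⁻¹ * b * g = c
    rw [← hgc]; group
  rwa [e] at hmem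

end Pre

namespace Setup

variable (S : Setup G r A)
include S

theorem le_cent_W [IsSimpleGroup G] (hnc : ∃ a b : G, a * b ≠ b * a) :
    A ≤ Subgroup.centralizer (closureW A : Set G) :=
  S.toPre.le_cent_of S.W_pgroup S.le_normalizer_W fun _ ha ha1 _ hb hb1 =>
    let ⟨g, hg, he⟩ := S.transitive hnc ha ha1 hb hb1
    ⟨g, hg, S.normalizer_le hg, he⟩

theorem exists_mul_of_mem_sup {X : Subgroup G} (hX : A ≤ Subgroup.centralizer (X : Set G))
    {x : G} (hx : x ∈ A ⊔ X) : ∃ a ∈ A, ∃ w ∈ X, a * w = x ∧ Commute a w := by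
  rw [← SetLike.mem_coe, Subgroup.coe_mul_of_left_le_normalizer_right A X (fun a ha =>
    Subgroup.centralizer_le_normalizer _ (hX ha)), Set.mem_mul] at hx
  obtain ⟨a, ha, w, hw, e⟩ := hx
  exact ⟨a, ha, w, hw, e, (hX ha w hw).symm⟩

theorem mem_of_invol [IsSimpleGroup G] (hnc : ∃ a b : G, a * b ≠ b * a) {x : G}
    (hx : x ∈ A ⊔ closureW A) (h : x * x = 1) : x ∈ A := by
  obtain ⟨a, ha, w, hw, rfl, hc⟩ := S.exists_mul_of_mem_sup (S.le_cent_W hnc) hx
  have hw2 : w * w = 1 := by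
    have : a * w * (a * w) = a * a * (w * w) := by rw [hc.symm.mul_mul_mul_comm]
    rwa [this, S.invol ha, one_mul] at h
  have hw1 : w = 1 := by
    refine orderOf_eq_one_iff.mp (Nat.eq_one_of_dvd_coprimes
      (Nat.coprime_two_left.mpr S.complete.1)
      (orderOf_dvd_of_pow_eq_one (by rwa [sq])) (Subgroup.orderOf_dvd_natCard _ hw))
  rw [hw1, mul_one]
  exact ha

/-- A subgroup containing `A` whose odd core lies in `W` normalises `A`. -/
theorem le_normalizer_of_core [IsSimpleGroup G] (hnc : ∃ a b : G, a * b ≠ b * a)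
    {H : Subgroup G} (hsol : Group.IsSolvable H) (hAH : A ≤ H)
    (hcore : coreIn H ≤ closureW A) : H ≤ Subgroup.normalizer (A : Set G) := by
  intro g hg
  have hn := normal_sup_coreIn hsol S.two S.odd_index (fun _ hx _ hy => S.comm hx hy) hAH hg
  refine Subgroup.mem_normalizer_iff_map_conj_eq.mpr (Subgroup.eq_of_le_of_card_ge ?_ ?_)
  · rintro _ ⟨x, hx, rfl⟩
    refine S.mem_of_invol hnc (sup_le_sup_left hcore _
      ((Subgroup.mem_normalizer_iff.mp hn x).mp (Subgroup.mem_sup_left hx))) ?_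
    show g * x * g⁻¹ * (g * x * g⁻¹) = 1
    rw [show g * x * g⁻¹ * (g * x * g⁻¹) = g * (x * x) * g⁻¹ by group, S.invol hx, mul_one,
      mul_inv_cancel]
  · rw [Subgroup.card_map_of_injective (MulAut.conj g).injective]

theorem cent_le_normalizer [IsSimpleGroup G] (hnc : ∃ a b : G, a * b ≠ b * a) {a : G}
    (ha : a ∈ A) (h1 : a ≠ 1) :
    Subgroup.centralizer ({a} : Set G) ≤ Subgroup.normalizer (A : Set G) :=
  S.le_normalizer_of_core hnc (S.cent_solvable ha h1) (S.le_cent ha) (S.theta_le_W ha h1)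

theorem W_le_cent [IsSimpleGroup G] (hnc : ∃ a b : G, a * b ≠ b * a) :
    closureW A ≤ Subgroup.centralizer (A : Set G) :=
  fun _ hw a ha => (S.le_cent_W hnc ha _ hw).symm

/-- An odd element centralising `A` lies in `W`. -/
theorem mem_W_of_cent [IsSimpleGroup G] {x : G} (hx : x ∈ Subgroup.centralizer (A : Set G))
    (ho : Odd (orderOf x)) : x ∈ closureW A := by
  obtain ⟨a, ha, h1⟩ := S.exists_ne
  refine S.theta_le_W ha h1 (S.le_theta ha h1 (X := Subgroup.zpowers x) ?_ ?_ ?_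
    (Subgroup.mem_zpowers x))
  · rw [Subgroup.zpowers_le]
    exact Subgroup.mem_centralizer_singleton_iff.mpr (hx a ha).symm
  · intro b hb
    refine Subgroup.centralizer_le_normalizer _ (fun y hy => ?_)
    obtain ⟨n, rfl⟩ := Subgroup.mem_zpowers_iff.mp hy
    exact ((show Commute b x from hx b hb).zpow_right n).eq.symm
  · rwa [Nat.card_zpowers]

/-- Centralisers of non-trivial elements of `W` normalise `A`. -/
theorem cent_W_le [IsSimpleGroup G] (hnc : ∃ a b : G, a * b ≠ b * a) {w : G}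
    (hw : w ∈ closureW A) (hw1 : w ≠ 1) :
    Subgroup.centralizer ({w} : Set G) ≤ Subgroup.normalizer (A : Set G) := by
  haveI := S.isMulCommutative
  haveI := Fact.mk S.hyp.prime
  have hwo : orderOf w = r := by
    obtain ⟨k, hk⟩ := S.W_pgroup ⟨w, hw⟩
    exact S.hyp.order_of_pow S.hyp.prime hw1 (congrArg Subtype.val hk)
  have hAH : A ≤ Subgroup.centralizer ({w} : Set G) := fun a ha =>
    Subgroup.mem_centralizer_singleton_iff.mpr (S.le_cent_W hnc ha w hw).symm
  refine S.le_normalizer_of_core hnc (S.hyp.cent_solvable (Or.inr hwo)) hAH ?_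
  have hnc' : ¬ IsCyclic A := Coprime.not_isCyclic_of_exponent (p := 2)
    (fun a ha => by rw [sq]; exact S.invol ha) two_pos (lt_of_lt_of_le (by norm_num) S.big)
  have hn := hAH.trans (le_normalizer_coreIn _)
  refine Coprime.le_of_centralizer_le hnc' hn ?_ fun a ha h1 => ?_
  · obtain ⟨k, hk⟩ := IsPGroup.iff_card.mp S.two
    rw [hk]
    exact (Nat.coprime_two_left.mpr (coreIn_odd _)).pow_left k
  · exact (S.le_theta ha h1 inf_le_right (Coprime.le_normalizer_inf_of_le hn
      ((S.le_cent ha).trans Subgroup.le_normalizer))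
      ((coreIn_odd _).of_dvd_nat (Subgroup.card_dvd_of_le inf_le_left))).trans (S.theta_le_W ha h1)

end Setup

end CfsgLib.OneComposite
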