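import Mathlib
import Cfsg.Agent.Lib.OneComposite.Norms
import Cfsg.Agent.Lib.CIT.PSLCond
import Cfsg.Agent.Lib.RealClassGraph.Basic

/-!
Odd groups with prime element orders, transitive on an elementary abelian `2`-group, in which only
elements of order `r` may fix points.
-/

set_option autoImplicit false
set_option linter.style.haveILetI false
set_option linter.unusedSectionVars false

open scoped commutatorElement

namespace CfsgLib.OneComposite

open Finset

variable {M : Type*} [CommGroup M] [Finite M] {F : Type*} [Group F] [Finite F]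
  [MulDistribMulAction F M] {r : ℕ}

/-- The hypotheses on the automiser. -/
structure Frame (M : Type*) [CommGroup M] (F : Type*) [Group F] [MulDistribMulAction F M]
    (r : ℕ) : Prop where
  prime : r.Prime
  two : ∀ v : M, v * v = 1
  big : 4 ≤ Nat.card M
  odd : Odd (Nat.card F)
  faithful : ∀ f : F, (∀ v : M, f • v = v) → f = 1
  trans : ∀ a b : M, a ≠ 1 → b ≠ 1 → ∃ f : F, f • a = b
  orders : ∀ f : F, f ≠ 1 → (orderOf f).Prime
  fixed : ∀ f : F, ∀ v : M, f ≠ 1 → v ≠ 1 → f • v = v → orderOf f = r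

namespace Frame

variable (h : Frame M F r)
include h

theorem exists_ne : ∃ a : M, a ≠ 1 := by
  haveI := Fintype.ofFinite M
  haveI : Nontrivial M := Finite.one_lt_card_iff_nontrivial.mp (by have := h.big; omega)
  exact _root_.exists_ne 1

theorem commute_order {x y : F} (hx : x ≠ 1) (hy : y ≠ 1) (hc : Commute x y) :
    orderOf x = orderOf y := by
  by_contra hne
  have ho := hc.orderOf_mul_eq_mul_orderOf_of_coprime
    ((Nat.coprime_primes (h.orders x hx) (h.orders y hy)).mpr hne)
  have hne1 : x * y ≠ 1 := fun e => by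
    rw [e, orderOf_one] at ho
    exact (h.orders x hx).ne_one (Nat.eq_one_of_mul_eq_one_right ho.symm)
  have := h.orders _ hne1
  rw [ho] at this
  exact Nat.not_prime_mul (h.orders x hx).ne_one (h.orders y hy).ne_one this

theorem orbit_eq {a : M} (ha : a ≠ 1) : MulAction.orbit F a = {v : M | v ≠ 1} := by
  ext v
  refine ⟨?_, fun hv => h.trans a v ha hv⟩
  rintro ⟨f, rfl⟩ e
  refine ha (smul_left_cancel f ?_)
  simpa using e

theorem card_mul_stab {a : M} (ha : a ≠ 1) :
    (Nat.card M - 1) * Nat.card (MulAction.stabilizer F a) = Nat.card F := by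
  classical
  have h1 : Nat.card (MulAction.orbit F a) = Nat.card M - 1 := by
    rw [Nat.card_coe_set_eq, h.orbit_eq ha, show {v : M | v ≠ 1} = {(1 : M)}ᶜ from rfl,
      Set.ncard_compl, Set.ncard_singleton]
  rw [← h1, ← Nat.card_prod]
  exact Nat.card_congr (MulAction.orbitProdStabilizerEquivGroup F a)

theorem eq_one_of_pow {n : ℕ} (hn : Odd n) {v : M} (hv : v ^ n = 1) : v = 1 := by
  obtain ⟨k, rfl⟩ := hn
  rwa [pow_succ, pow_mul, pow_two, h.two, one_pow, one_mul] at hv

theorem norm_of_free {x : F} (hx : ∀ v : M, x • v = v → v = 1) {s : ℕ} (hs : x ^ s = 1) (v : M) :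
    ∏ i ∈ range s, x ^ i • v = 1 :=
  prod_range_eq_one hs hx v

theorem free_of_ne {x : F} (hx : x ≠ 1) (hr : orderOf x ≠ r) (v : M) (hv : x • v = v) : v = 1 :=
  by_contra fun h1 => hr (h.fixed x v hx h1 hv)

theorem m_pos : 3 ≤ Nat.card M - 1 := by have := h.big; omega

theorem card_two_pow : ∃ n, Nat.card M = 2 ^ n :=
  IsPGroup.iff_card.mp fun v => ⟨1, by rw [pow_one, pow_two, h.two]⟩

/-- If all elements have order `r`, the group is regular of order `r`. -/
theorem of_pgroup (hall : ∀ f : F, f ≠ 1 → orderOf f = r) :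
    Nat.card M - 1 = r ∧ Nat.card F = r := by
  classical
  haveI := Fact.mk h.prime
  have hF : IsPGroup r F := fun f => ⟨1, by
    by_cases hf : f = 1
    · simp [hf]
    · rw [pow_one, ← hall f hf, pow_orderOf_eq_one]⟩
  obtain ⟨k, hk⟩ := IsPGroup.iff_card.mp hF
  obtain ⟨a, ha⟩ := h.exists_ne
  have hm := h.card_mul_stab ha
  obtain ⟨j, -, hj⟩ := (Nat.dvd_prime_pow h.prime).mp (hk ▸ Dvd.intro _ hm)
  obtain ⟨n, hn⟩ := h.card_two_pow
  have hj0 : 0 < j := Nat.pos_of_ne_zero fun e => by
    have := h.m_pos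
    rw [hj, e, pow_zero] at this
    omega
  rw [hn] at hj
  rw [CIT.prime_pow_pred_two h.prime hj hj0, pow_one, ← hn] at hj
  refine ⟨hj, ?_⟩
  have hbot : MulAction.stabilizer F a = ⊥ := by
    set K := MulAction.stabilizer F a
    have hidx : K.index = r := by
      rw [Subgroup.index, ← Nat.card_congr (MulAction.orbitEquivQuotientStabilizer F a),
        Nat.card_coe_set_eq, h.orbit_eq ha, show {v : M | v ≠ 1} = {(1 : M)}ᶜ from rfl,
        Set.ncard_compl, Set.ncard_singleton, hj]
    have hKn : K.Normal := by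
      refine Subgroup.normal_of_index_eq_minFac_card ?_
      rw [hidx, hk, Nat.Prime.pow_minFac h.prime fun e => by
        rw [e, pow_zero] at hk
        rw [hk] at hm
        have := h.m_pos
        have := Nat.eq_one_of_mul_eq_one_right hm
        omega]
    refine (Subgroup.eq_bot_iff_forall _).mpr fun f hf => h.faithful f fun v => ?_
    by_cases hv : v = 1
    · rw [hv, smul_one]
    obtain ⟨g, rfl⟩ := h.trans a v ha hv
    have := MulAction.mem_stabilizer_iff.mp (hKn.conj_mem f hf g⁻¹)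
    rwa [inv_inv, mul_smul, mul_smul, inv_smul_eq_iff] at this
  rw [← hm, hbot, Subgroup.card_bot, mul_one, hj]

/-- The two possibilities: a regular group of prime order, or a Frobenius group of order `pr`. -/
theorem cases :
    (Nat.card F = Nat.card M - 1 ∧ (Nat.card M - 1).Prime ∧
      ∀ f : F, f ≠ 1 → ∀ v : M, f • v = v → v = 1) ∨
    (∃ (P : Subgroup F), P.Normal ∧ Nat.card P = Nat.card M - 1 ∧ (Nat.card M - 1).Prime ∧
      Nat.card M - 1 ≠ r ∧ Nat.card F = (Nat.card M - 1) * r ∧
      ∀ a : M, a ≠ 1 → Nat.card (MulAction.stabilizer F a) = r) := by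
  classical
  haveI := Fintype.ofFinite F
  obtain ⟨a₀, ha₀⟩ := h.exists_ne
  have hfree_of : ∀ (hc : Nat.card F = Nat.card M - 1), ∀ f : F, f ≠ 1 → ∀ v : M, f • v = v → v = 1 := by
    intro hc f hf v hv
    by_contra hv1
    have h1 := h.card_mul_stab hv1
    rw [hc] at h1
    have h2 : Nat.card (MulAction.stabilizer F v) = 1 := by
      have := h.m_pos
      exact (mul_right_eq_self₀.mp h1).resolve_right (by omega)
    exact hf (Subgroup.mem_bot.mp (Subgroup.eq_bot_of_card_eq _ h2 ▸
      (MulAction.mem_stabilizer_iff.mpr hv : f ∈ MulAction.stabilizer F v)))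
  by_cases hall : ∀ f : F, f ≠ 1 → orderOf f = r
  · obtain ⟨e1, e2⟩ := h.of_pgroup hall
    exact Or.inl ⟨e2.trans e1.symm, e1.symm ▸ h.prime, hfree_of (e2.trans e1.symm)⟩
  push Not at hall
  obtain ⟨z, hz, hzr⟩ := hall
  -- an abelian normal subgroup
  haveI : Group.IsSolvable F := RealClassGraph.solvable_of_odd h.odd
  haveI : Nontrivial F := ⟨z, 1, hz⟩
  obtain ⟨n, hn⟩ := (Group.isSolvable_def F).mp inferInstance
  have hex : ∃ n, derivedSeries F n = ⊥ := ⟨n, hn⟩
  obtain ⟨m, hm⟩ : ∃ m, Nat.find hex = m + 1 := by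
    refine ⟨Nat.find hex - 1, ?_⟩
    rcases Nat.eq_zero_or_pos (Nat.find hex) with h0 | h0
    · exact absurd (h0 ▸ Nat.find_spec hex) (by simp [derivedSeries_zero, top_ne_bot])
    · omega
  set P := derivedSeries F m with hP
  have hPne : P ≠ ⊥ := Nat.find_min hex (by omega)
  have hPn : P.Normal := derivedSeries_normal F m
  have hPc : ∀ a ∈ P, ∀ b ∈ P, a * b = b * a := by
    intro a ha b hb
    have hb' : ⁅a, b⁆ ∈ derivedSeries F (m + 1) := by
      rw [derivedSeries_succ]; exact Subgroup.commutator_mem_commutator ha hb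
    rw [← hm, Nat.find_spec hex, Subgroup.mem_bot, commutatorElement_eq_one_iff_mul_comm] at hb'
    exact hb'
  obtain ⟨x, hx, hx1⟩ := (Subgroup.ne_bot_iff_exists_ne_one.mp hPne) |>
    fun ⟨⟨x, hx⟩, h1⟩ => (⟨x, hx, fun e => h1 (Subtype.ext e)⟩ : ∃ x ∈ P, x ≠ 1)
  set p := orderOf x with hp
  have hpp : p.Prime := h.orders x hx1
  haveI := Fact.mk hpp
  have hPord : ∀ u ∈ P, u ≠ 1 → orderOf u = p := fun u hu h1 =>
    h.commute_order h1 hx1 (hPc u hu x hx)
  have hPfix : ∀ v : M, (∀ u ∈ P, u • v = v) → v = 1 := by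
    intro v hv
    by_contra hv1
    refine hx1 (h.faithful x fun w => ?_)
    by_cases hw : w = 1
    · rw [hw, smul_one]
    obtain ⟨g, rfl⟩ := h.trans v w hv1 hw
    have := hv _ (hPn.conj_mem x hx g⁻¹)
    rwa [inv_inv, mul_smul, mul_smul, inv_smul_eq_iff] at this
  have hnormP : ∀ v : M, ∏ u : P, (u : F) • v = 1 := fun v =>
    FourOrbit.norm_eq_one P hPfix v
  have hPodd : Odd (Nat.card P) := h.odd.of_dvd_nat (Subgroup.card_subgroup_dvd_card P)
  -- free elements centralise something in `P`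
  have hcent : ∀ y : F, y ≠ 1 → (∀ v : M, y • v = v → v = 1) → ∃ u ∈ P, u ≠ 1 ∧ Commute u y := by
    intro y hy hfree
    by_contra hcon
    push Not at hcon
    have hyo : (orderOf y).Prime := h.orders y hy
    obtain ⟨v, hv⟩ := h.exists_ne
    refine hv (h.eq_one_of_pow (n := Fintype.card P) (by rwa [← Nat.card_eq_fintype_card]) ?_)
    refine frobenius_pow_card (z := y) hyo.pos (fun u hu => hPn.conj_mem u hu y)
      (fun i hi his u hu hc => ?_) hnormP (fun u hu v => ?_) v
    · by_contra hu1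
      refine hcon u hu hu1 ?_
      obtain ⟨k, hk⟩ := exists_pow_eq_self_of_coprime
        ((hyo.coprime_iff_not_dvd.mpr fun hd => absurd (Nat.le_of_dvd hi hd) (by omega)).symm :
          i.Coprime (orderOf y))
      exact hk ▸ hc.pow_right k
    · refine h.norm_of_free (fun w hw => ?_) (by
        rw [conj_pow, pow_orderOf_eq_one, mul_one, mul_inv_cancel]) v
      rw [mul_smul, mul_smul, ← eq_inv_smul_iff] at hw
      exact (inv_smul_eq_iff.mp (hfree _ hw)).trans (smul_one u)
  have hzp : orderOf z = p := by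
    obtain ⟨u, hu, hu1, hc⟩ := hcent z hz (h.free_of_ne hz hzr)
    rw [← hPord u hu hu1]
    exact h.commute_order hz hu1 hc.symm
  have hpr : p ≠ r := hzp ▸ hzr
  have hpfree : ∀ f : F, f ≠ 1 → orderOf f = p → ∀ v : M, f • v = v → v = 1 := fun f hf ho =>
    h.free_of_ne hf (ho.trans_ne hpr)
  -- no plane
  have hplane : ∀ u y : F, orderOf u = p → orderOf y = p → Commute y u → y ∈ Subgroup.zpowers u := by
    intro u y hu hy hc
    by_contra hy'
    obtain ⟨v, hv⟩ := h.exists_ne
    have hu1 : u ≠ 1 := fun e => by rw [e, orderOf_one] at hu; exact hpp.ne_one hu.symm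
    refine hv (h.eq_one_of_pow (hp ▸ h.odd.of_dvd_nat (orderOf_dvd_natCard x)) ?_)
    refine plane_pow_card (P := Subgroup.zpowers u) (x := y) (p := p)
      (by rw [Nat.card_zpowers, hu]) (fun w hw => ?_) (fun v => ?_) (fun w hw v => ?_) v
    · obtain ⟨k, rfl⟩ := Subgroup.mem_zpowers_iff.mp hw
      exact hc.zpow_right k
    · exact FourOrbit.norm_eq_one _ (fun v hv => hpfree u hu1 hu v (hv u (Subgroup.mem_zpowers u))) v
    · obtain ⟨k, rfl⟩ := Subgroup.mem_zpowers_iff.mp hw
      have hne : u ^ k * y ≠ 1 := fun e => hy' (by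
        rw [mul_eq_one_iff_eq_inv'] at e
        rw [e]; exact inv_mem (zpow_mem (Subgroup.mem_zpowers u) k))
      have hpow : (u ^ k * y) ^ p = 1 := by
        rw [(hc.zpow_right k).symm.mul_pow, ← zpow_natCast, ← zpow_mul, mul_comm, zpow_mul,
          zpow_natCast, show u ^ p = 1 from hu ▸ pow_orderOf_eq_one u, one_zpow,
          show y ^ p = 1 from hy ▸ pow_orderOf_eq_one y, one_mul]
      exact h.norm_of_free (hpfree _ hne (((Nat.dvd_prime hpp).mp
        (orderOf_dvd_of_pow_eq_one hpow)).resolve_left fun e => hne (orderOf_eq_one_iff.mp e)))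
        hpow v
  have hPeq : P = Subgroup.zpowers x := by
    refine le_antisymm (fun u hu => ?_) (Subgroup.zpowers_le.mpr hx)
    by_cases hu1 : u = 1
    · rw [hu1]; exact one_mem _
    · exact hplane x u hp.symm (hPord u hu hu1) (hPc u hu x hx)
  have hPcard : Nat.card P = p := by rw [hPeq, Nat.card_zpowers]
  have hPel : ∀ f : F, orderOf f = p → f ∈ P := by
    intro f hf
    have hf1 : f ≠ 1 := fun e => by rw [e, orderOf_one] at hf; exact hpp.ne_one hf.symm
    obtain ⟨u, hu, hu1, hc⟩ := hcent f hf1 (hpfree f hf1 hf)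
    have := hplane u f (hPord u hu hu1) hf hc.symm
    exact (Subgroup.zpowers_le.mpr hu) this
  have hother : ∀ f : F, f ≠ 1 → f ∉ P → orderOf f = r := fun f hf hfP => by_contra fun hne => by
    obtain ⟨u, hu, hu1, hc⟩ := hcent f hf (h.free_of_ne hf hne)
    exact hfP (hPel f ((h.commute_order hf hu1 hc.symm).trans (hPord u hu hu1)))
  -- the image in `Aut P`
  let ψ : F →* MulAut P := MulAut.conjNormal
  have hker : ψ.ker = P := by
    refine le_antisymm (fun f hf => ?_) fun f hf => MonoidHom.mem_ker.mpr (MulEquiv.ext fun u =>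
      Subtype.ext (by
        show f * (u : F) * f⁻¹ = u
        rw [hPc f hf u u.2, mul_inv_cancel_right]))
    by_contra hfP
    have hf1 : f ≠ 1 := fun e => hfP (e ▸ one_mem _)
    have h1 := congrArg (fun e : MulAut P => ((e ⟨x, hx⟩ : P) : F)) (MonoidHom.mem_ker.mp hf)
    change f * x * f⁻¹ = x at h1
    have := h.commute_order hf1 hx1 (mul_inv_eq_iff_eq_mul.mp h1)
    exact hfP (hPel f this)
  haveI : IsCyclic P := isCyclic_of_prime_card hPcard
  haveI : IsCyclic (MulAut P) := by
    haveI : Fact (Nat.card P).Prime := ⟨hPcard ▸ hpp⟩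
    exact isCyclic_of_surjective _ (IsCyclic.mulAutMulEquiv P).symm.surjective
  have hrange : Nat.card ψ.range = 1 ∨ Nat.card ψ.range = r := by
    obtain ⟨g, hg⟩ := IsCyclic.exists_ofOrder_eq_natCard (α := ψ.range)
    obtain ⟨f, hf⟩ := g.2
    refine (Nat.dvd_prime h.prime).mp (hg ▸ orderOf_dvd_of_pow_eq_one (Subtype.ext ?_))
    rw [Subgroup.coe_pow, ← hf, ← map_pow, Subgroup.coe_one]
    by_cases hfP : f ∈ P
    · exact MonoidHom.mem_ker.mp (hker.symm ▸ pow_mem hfP r : f ^ r ∈ ψ.ker)
    · rw [← hother f (fun e => hfP (e ▸ one_mem _)) hfP, pow_orderOf_eq_one, map_one]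
  have hcard : Nat.card F = p * Nat.card ψ.range := by
    rw [← P.card_mul_index, hPcard]
    conv_lhs => rw [← hker, Subgroup.index_ker]
  have hst := h.card_mul_stab ha₀
  have hm3 := h.m_pos
  rcases hrange with e | e
  · rw [e, mul_one] at hcard
    have hm : Nat.card M - 1 = p := ((Nat.dvd_prime hpp).mp (hcard ▸ Dvd.intro _ hst)).resolve_left
      (by omega)
    exact Or.inl ⟨hcard.trans hm.symm, hm.symm ▸ hpp, hfree_of (hcard.trans hm.symm)⟩
  rw [e] at hcard
  have hstab : ∀ a : M, a ≠ 1 → Nat.card (MulAction.stabilizer F a) = r := by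
    intro a ha
    set K := MulAction.stabilizer F a
    have hKr : ∀ f ∈ K, f ≠ 1 → orderOf f = r := fun f hf hf1 =>
      h.fixed f a hf1 ha (MulAction.mem_stabilizer_iff.mp hf)
    have hKdvd : Nat.card K ∣ p * r := hcard ▸ K.card_subgroup_dvd_card
    by_cases hbot : K = ⊥
    · exfalso
      obtain ⟨w, hw1, hwP⟩ : ∃ w : F, w ≠ 1 ∧ w ∉ P := by
        by_contra hcon
        push Not at hcon
        have : P = ⊤ := eq_top_iff.mpr fun f _ => by
          by_cases hf : f = 1
          · rw [hf]; exact one_mem _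
          · exact hcon f hf
        rw [this, Subgroup.card_top, hcard] at hPcard
        have := h.prime.one_lt
        exact absurd hPcard (by nlinarith [hpp.pos])
      obtain ⟨u, hu, hu1, hc⟩ := hcent w hw1 fun v hv => by
        by_contra hv1
        obtain ⟨g, rfl⟩ := h.trans a v ha hv1
        have hmem : g⁻¹ * w * g ∈ K := MulAction.mem_stabilizer_iff.mpr (by
          rw [mul_smul, mul_smul, hv, inv_smul_smul])
        rw [hbot, Subgroup.mem_bot] at hmem
        exact hw1 (by
          have h2 := congrArg (fun e => g * e * g⁻¹) hmem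
          simpa [mul_assoc] using h2)
      exact hwP (hPel w ((h.commute_order hw1 hu1 hc.symm).trans (hPord u hu hu1)))
    · have hrK : r ∣ Nat.card K := by
        obtain ⟨f, hf, hf1⟩ := (Subgroup.ne_bot_iff_exists_ne_one.mp hbot) |>
          fun ⟨⟨x, hx⟩, h1⟩ => (⟨x, hx, fun e => h1 (Subtype.ext e)⟩ : ∃ x ∈ K, x ≠ 1)
        exact hKr f hf hf1 ▸ Subgroup.orderOf_dvd_natCard K hf
      have hnp : ¬ p ∣ Nat.card K := fun hd => by
        obtain ⟨⟨f, hf⟩, ho⟩ := exists_prime_orderOf_dvd_card' p hd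
        rw [Subgroup.orderOf_mk] at ho
        have hf1 : f ≠ 1 := fun e => by rw [e, orderOf_one] at ho; exact hpp.ne_one ho.symm
        exact hpr (ho.symm.trans (hKr f hf hf1))
      exact Nat.dvd_antisymm ((hpp.coprime_iff_not_dvd.mpr hnp).symm.dvd_of_dvd_mul_left hKdvd) hrK
  have hm : Nat.card M - 1 = p := by
    rw [hstab a₀ ha₀, hcard] at hst
    exact Nat.eq_of_mul_eq_mul_right h.prime.pos hst
  exact Or.inr ⟨P, hPn, hPcard.trans hm.symm, hm.symm ▸ hpp, hm.trans_ne hpr, hm.symm ▸ hcard, hstab⟩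

end Frame

end CfsgLib.OneComposite
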