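import Mathlib
import Cfsg.Agent.Lib.OneComposite.Central
import Cfsg.Agent.Lib.OneComposite.Frame

/-!
The automiser of `A`.
-/

set_option autoImplicit false
set_option linter.style.haveILetI false
set_option linter.unusedSectionVars false

namespace CfsgLib.OneComposite

variable {G : Type*} [Group G] [Finite G] {r : ℕ} {A : Subgroup G}

/-- The action of the normaliser on `A`. -/
def act (A : Subgroup G) : Subgroup.normalizer (A : Set G) →* MulAut A := A.normalizerMonoidHom

theorem act_apply (g : Subgroup.normalizer (A : Set G)) (a : A) :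
    ((act A g a : A) : G) = (g : G) * a * (g : G)⁻¹ := rfl

theorem act_eq_one {g : Subgroup.normalizer (A : Set G)} :
    act A g = 1 ↔ (g : G) ∈ Subgroup.centralizer (A : Set G) := by
  constructor
  · intro h a ha
    have h1 := act_apply g ⟨a, ha⟩
    rw [h] at h1
    change a = (g : G) * a * (g : G)⁻¹ at h1
    rw [eq_mul_inv_iff_mul_eq] at h1
    exact h1
  · intro h
    refine MulEquiv.ext fun a => Subtype.ext ?_
    show (g : G) * a * (g : G)⁻¹ = a
    rw [← h a a.2, mul_inv_cancel_right]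

namespace Setup

variable (S : Setup G r A)
include S

theorem mem_sup_of_cent [IsSimpleGroup G] {g : G} (hg : g ∈ Subgroup.centralizer (A : Set G)) :
    ∃ a ∈ A, ∃ w ∈ closureW A, a * w = g := by
  by_cases hg1 : g = 1
  · exact ⟨1, one_mem _, 1, one_mem _, by rw [hg1, one_mul]⟩
  have hN : g ∈ Subgroup.normalizer (A : Set G) := Subgroup.centralizer_le_normalizer _ hg
  rcases h : orderOf g with _ | o
  · exact absurd h (orderOf_pos g).ne'
  rcases S.hyp.orders g hg1 with hp | hp
  · by_cases h2 : orderOf g = 2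
    · exact ⟨g, S.two_mem hN (by rw [← sq, ← h2, pow_orderOf_eq_one]), 1, one_mem _, mul_one g⟩
    · exact ⟨1, one_mem _, g, S.mem_W_of_cent hg (hp.odd_of_ne_two h2), one_mul g⟩
  · obtain ⟨h1, h2⟩ := two_r_parts S.hyp.prime hp
    obtain ⟨k, hk⟩ := S.hyp.prime.odd_of_ne_two S.hyp.ne_two
    refine ⟨g ^ r, S.two_mem (pow_mem hN r) (by rw [← sq, ← h1, pow_orderOf_eq_one]),
      (g ^ 2) ^ (k + 1), pow_mem (S.mem_W_of_cent (pow_mem hg 2)
        (h2 ▸ S.hyp.prime.odd_of_ne_two S.hyp.ne_two)) _, ?_⟩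
    rw [← pow_mul, ← pow_add, show r + 2 * (k + 1) = orderOf g + 1 by omega, pow_add,
      pow_orderOf_eq_one, one_mul, pow_one]

theorem exists_lift {f : (act A).range} (hf : f ≠ 1) :
    ∃ g : Subgroup.normalizer (A : Set G), orderOf (g : G) = orderOf f ∧
      Odd (orderOf (g : G)) ∧ act A g = f := by
  obtain ⟨g₀, hg₀⟩ := f.2
  obtain ⟨g, hg, hgo, -, hga⟩ := S.exists_odd_equiv g₀.2
  have he : act A ⟨g, hg⟩ = f := by
    rw [← hg₀]
    exact MulEquiv.ext fun a => Subtype.ext (hga a a.2)
  refine ⟨⟨g, hg⟩, ?_, hgo, he⟩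
  have h1 : orderOf f ∣ orderOf g := by
    rw [← Subgroup.orderOf_coe f, ← he]
    exact (orderOf_map_dvd (act A) ⟨g, hg⟩).trans (Subgroup.orderOf_mk g hg).dvd
  have hg1 : g ≠ 1 := by
    rintro rfl
    exact hf (Subtype.ext (he.symm.trans (map_one _)))
  exact (((Nat.dvd_prime (S.hyp.odd_prime hg1 hgo)).mp h1).resolve_left
    fun e => hf (orderOf_eq_one_iff.mp e)).symm

open scoped IsMulCommutative in
theorem frame [IsSimpleGroup G] (hnc : ∃ a b : G, a * b ≠ b * a) :
    haveI := S.isMulCommutative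
    Frame A (act A).range r := by
  haveI := S.isMulCommutative
  haveI : Fact (Nat.Prime 2) := ⟨Nat.prime_two⟩
  refine
    { prime := S.hyp.prime
      two := fun v => Subtype.ext (S.invol v.2)
      big := le_trans (by norm_num) S.big
      odd := ?_
      faithful := fun f hf => Subtype.ext (MulEquiv.ext hf)
      trans := fun a b ha hb => ?_
      orders := fun f hf => ?_
      fixed := fun f v hf hv hfv => ?_ }
  · rw [← Nat.not_even_iff_odd, even_iff_two_dvd, ← Subgroup.index_ker]
    intro h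
    have hAK : A.subgroupOf (Subgroup.normalizer (A : Set G)) ≤ (act A).ker := fun a ha =>
      MonoidHom.mem_ker.mpr (act_eq_one.mpr fun b hb => S.comm hb ha)
    exact S.odd_index ((h.trans (Subgroup.index_dvd_of_le hAK)).trans
      (Subgroup.relIndex_dvd_index_of_le Subgroup.le_normalizer))
  · obtain ⟨g, hg, he⟩ := S.transitive hnc a.2 (fun e => ha (Subtype.ext e)) b.2
      (fun e => hb (Subtype.ext e))
    exact ⟨⟨act A ⟨g, hg⟩, ⟨g, hg⟩, rfl⟩, Subtype.ext he⟩
  · obtain ⟨g, hgo, hodd, -⟩ := S.exists_lift hf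
    rw [← hgo]
    exact S.hyp.odd_prime (fun e => by
      rw [e, orderOf_one] at hgo
      exact hf (orderOf_eq_one_iff.mp hgo.symm)) hodd
  · obtain ⟨g, hgo, hodd, he⟩ := S.exists_lift hf
    rw [← hgo]
    have hg1 : (g : G) ≠ 1 := fun e => by
      rw [e, orderOf_one] at hgo
      exact hf (orderOf_eq_one_iff.mp hgo.symm)
    have hp := S.hyp.odd_prime hg1 hodd
    have hv1 : (v : G) ≠ 1 := fun e => hv (Subtype.ext e)
    refine (S.hyp.cent_primes (x := (v : G)) (Or.inl (S.orderOf_invol v.2 hv1)) hp ?_).resolve_left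
      fun e => by rw [e] at hodd; exact absurd hodd (by decide)
    refine Subgroup.orderOf_dvd_natCard _ (Subgroup.mem_centralizer_singleton_iff.mpr ?_)
    have h1 : act A g v = v := by rw [he]; exact hfv
    have h2 := congrArg Subtype.val h1
    rw [act_apply, mul_inv_eq_iff_eq_mul] at h2
    exact h2

theorem invol_mem_normalizer_iff [IsSimpleGroup G] {x : G} :
    (orderOf x = 2 ∧ x ∈ Subgroup.normalizer (A : Set G)) ↔ (x ∈ A ∧ x ≠ 1) := by
  constructor
  · rintro ⟨h, hx⟩
    exact ⟨S.two_mem hx (by rw [← sq, ← h, pow_orderOf_eq_one]),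
      fun e => by rw [e, orderOf_one] at h; omega⟩
  · rintro ⟨hx, h1⟩
    exact ⟨S.orderOf_invol hx h1, Subgroup.le_normalizer hx⟩

theorem strongly [IsSimpleGroup G] (hnc : ∃ a b : G, a * b ≠ b * a) :
    Cfsg.IsStronglyEmbedded (Subgroup.normalizer (A : Set G)) := by
  refine S.strongly_of le_rfl (fun a ha h1 => S.cent_le_normalizer hnc ha h1) fun h => ?_
  rcases (Subgroup.normalizer_eq_top_iff.mp h).eq_bot_or_eq_top with e | e
  · have := S.big
    simp [e] at this
  · obtain ⟨a, b, hab⟩ := hnc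
    exact hab (S.comm (e ▸ Subgroup.mem_top a) (e ▸ Subgroup.mem_top b))

end Setup

end CfsgLib.OneComposite
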