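import Mathlib
import Cfsg.Agent.Lib.OneComposite.Automizer
import Cfsg.Agent.Lib.Invol.StronglyEmbedded

/-!
Elements of `N(A)` inverted by an outside involution.
-/

set_option autoImplicit false
set_option linter.style.haveILetI false
set_option linter.unusedSectionVars false

namespace CfsgLib.OneComposite

variable {G : Type*} [Group G] [Finite G] {r : ℕ} {A : Subgroup G}

namespace Setup

variable (S : Setup G r A)
include S

theorem card_invol_normalizer [IsSimpleGroup G] :
    Nat.card {x : G // orderOf x = 2 ∧ x ∈ Subgroup.normalizer (A : Set G)} = Nat.card A - 1 := by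
  rw [Nat.card_congr (Equiv.subtypeEquivRight fun x => S.invol_mem_normalizer_iff (x := x))]
  calc Nat.card {x : G // x ∈ A ∧ x ≠ 1} = ((A : Set G) \ {1}).ncard := Nat.card_coe_set_eq _
    _ = Nat.card A - 1 := by
      rw [Set.ncard_diff_singleton_of_mem (one_mem A), ← Nat.card_coe_set_eq]
      rfl

theorem card_coset_invols [IsSimpleGroup G] (hnc : ∃ a b : G, a * b ≠ b * a) {g : G}
    (hg : g ∉ Subgroup.normalizer (A : Set G)) :
    Nat.card {i : G // orderOf i = 2 ∧ g⁻¹ * i ∈ Subgroup.normalizer (A : Set G)} =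
      Nat.card A - 1 := by
  set N := Subgroup.normalizer (A : Set G)
  rw [← S.card_invol_normalizer, ← Invol.strongly_card_swappers (S.strongly hnc)
    (QuotientGroup.mk (1 : G)) (QuotientGroup.mk g) (fun e => hg (by
      rw [QuotientGroup.eq, inv_one, one_mul] at e; exact e))]
  refine Nat.card_congr (Equiv.subtypeEquivRight fun i => and_congr_right fun _ => ?_)
  show _ ↔ (QuotientGroup.mk (i * 1) : G ⧸ N) = QuotientGroup.mk g
  rw [mul_one, eq_comm, QuotientGroup.eq]

theorem exists_invol_coset [IsSimpleGroup G] (hnc : ∃ a b : G, a * b ≠ b * a) {g : G}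
    (hg : g ∉ Subgroup.normalizer (A : Set G)) :
    ∃ t : G, t * t = 1 ∧ t ∉ Subgroup.normalizer (A : Set G) ∧
      g⁻¹ * t ∈ Subgroup.normalizer (A : Set G) := by
  have h := S.card_coset_invols hnc hg
  obtain ⟨⟨t, ht, hgt⟩⟩ : Nonempty {i : G // orderOf i = 2 ∧ g⁻¹ * i ∈ Subgroup.normalizer (A : Set G)} :=
    (Nat.card_pos_iff.mp (by have := S.big; omega)).1
  exact ⟨t, by rw [← sq, ← ht, pow_orderOf_eq_one], fun hN => hg (by
    simpa using mul_mem hN (inv_mem hgt)), hgt⟩

/-- An outside involution inverts `|A| - 1` elements of `N(A)`. -/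
theorem card_inverted [IsSimpleGroup G] (hnc : ∃ a b : G, a * b ≠ b * a) {t : G} (ht : t * t = 1)
    (htN : t ∉ Subgroup.normalizer (A : Set G)) :
    Nat.card {x : G // x ∈ Subgroup.normalizer (A : Set G) ∧ t * x * t = x⁻¹} = Nat.card A - 1 := by
  rw [← S.card_coset_invols hnc htN]
  have hti : t⁻¹ = t := inv_eq_of_mul_eq_one_right ht
  refine Nat.card_congr
    { toFun := fun x => ⟨t * x.1, CIT.orderOf_two ?_ ?_, by
        rw [inv_mul_cancel_left]; exact x.2.1⟩
      invFun := fun i => ⟨t * i.1, ?_, ?_⟩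
      left_inv := fun x => Subtype.ext (by show t * (t * x.1) = x.1; rw [← mul_assoc, ht, one_mul])
      right_inv := fun i => Subtype.ext (by show t * (t * i.1) = i.1; rw [← mul_assoc, ht, one_mul]) }
  · rw [← mul_assoc, x.2.2, inv_mul_cancel]
  · intro e
    rw [mul_eq_one_iff_inv_eq, hti] at e
    exact htN (e ▸ x.2.1)
  · obtain ⟨i, hi2, hiN⟩ := i
    show t * i ∈ _
    rwa [hti] at hiN
  · obtain ⟨i, hi2, hiN⟩ := i
    have hi : i * i = 1 := by rw [← sq, ← hi2, pow_orderOf_eq_one]
    show t * (t * i) * t = (t * i)⁻¹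
    rw [mul_inv_rev, inv_eq_of_mul_eq_one_right hi, hti, ← mul_assoc, ht, one_mul]

theorem odd_order_of_inter [IsSimpleGroup G] (hnc : ∃ a b : G, a * b ≠ b * a) {t z : G}
    (ht : t * t = 1) (htN : t ∉ Subgroup.normalizer (A : Set G))
    (hz : z ∈ Subgroup.normalizer (A : Set G)) (hzt : t * z * t ∈ Subgroup.normalizer (A : Set G)) :
    Odd (orderOf z) := by
  rw [← Nat.not_even_iff_odd, even_iff_two_dvd]
  intro h
  have hs : orderOf (z ^ (orderOf z / 2)) = 2 := orderOf_pow_orderOf_div (orderOf_pos z).ne' h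
  have hti : t⁻¹ = t := inv_eq_of_mul_eq_one_right ht
  refine htN (Invol.strongly_mem_of_conj_mem (S.strongly hnc) hs (pow_mem hz _) ?_)
  rw [← conj_pow, hti]
  exact pow_mem hzt _

end Setup

end CfsgLib.OneComposite
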