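import Mathlib
import Cfsg.Agent.Lib.OneComposite.Inverted
import Cfsg.Agent.Lib.CNSimple.CIT
import Cfsg.Agent.Lib.CIT.IsolatedTwo

/-!
The case where the automiser acts freely: the group would be a simple CN-group with non-trivial
odd part in an involution centraliser.
-/

set_option autoImplicit false
set_option linter.style.haveILetI false
set_option linter.unusedSectionVars false

namespace CfsgLib.OneComposite

variable {G : Type*} [Group G] [Finite G] {r : ℕ} {A : Subgroup G}

theorem isNilpotent_sup_of_commute {H K : Subgroup G} (hH : Group.IsNilpotent H)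
    (hK : Group.IsNilpotent K) (hc : ∀ h ∈ H, ∀ k ∈ K, Commute h k) :
    Group.IsNilpotent ↥(H ⊔ K : Subgroup G) := by
  haveI := hH
  haveI := hK
  let f : H × K →* G := MonoidHom.noncommCoprod H.subtype K.subtype (fun h k => hc h h.2 k k.2)
  have hf : f.range = H ⊔ K := by
    refine le_antisymm ?_ (sup_le (fun h hh => ⟨(⟨h, hh⟩, 1), show (h : G) * ((1 : K) : G) = h by simp⟩)
      (fun k hk => ⟨(1, ⟨k, hk⟩), show ((1 : H) : G) * k = k by simp⟩))
    rintro _ ⟨⟨h, k⟩, rfl⟩
    exact mul_mem (Subgroup.mem_sup_left h.2) (Subgroup.mem_sup_right k.2)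
  haveI : Group.IsNilpotent f.range :=
    Group.nilpotent_of_surjective f.rangeRestrict f.rangeRestrict_surjective
  exact hf ▸ (inferInstance : Group.IsNilpotent f.range)

theorem isNilpotent_of_injective' {X Y : Type*} [Group X] [Group Y] [Group.IsNilpotent Y]
    (f : X →* Y) (hf : Function.Injective f) : Group.IsNilpotent X :=
  haveI : Group.IsNilpotent f.range := inferInstance
  Group.nilpotent_of_mulEquiv (MonoidHom.ofInjective hf).symm

namespace Setup

variable (S : Setup G r A)
include S

theorem W_normalizes [IsSimpleGroup G] (hnc : ∃ a b : G, a * b ≠ b * a) {w : G}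
    (hw : w ∈ closureW A) : w ∈ Subgroup.normalizer (A : Set G) :=
  Subgroup.centralizer_le_normalizer _ (S.W_le_cent hnc hw)

theorem W_order {w : G} (hw : w ∈ closureW A) : w ^ r = 1 :=
  S.hyp.pow_eq_one_of_pgroup S.hyp.prime S.W_pgroup hw

theorem cent_le_cent_A [IsSimpleGroup G] (hnc : ∃ a b : G, a * b ≠ b * a)
    (hfree : ∀ f : (act A).range, f ≠ 1 → ∀ v : A, f • v = v → v = 1)
    {a : G} (ha : a ∈ A) (h1 : a ≠ 1) {g : G} (hg : g ∈ Subgroup.centralizer ({a} : Set G)) :
    g ∈ Subgroup.centralizer (A : Set G) := by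
  have hN := S.cent_le_normalizer hnc ha h1 hg
  by_contra hcon
  have hne : (⟨act A ⟨g, hN⟩, ⟨g, hN⟩, rfl⟩ : (act A).range) ≠ 1 := fun e =>
    hcon (act_eq_one.mp (congrArg Subtype.val e))
  refine h1 (congrArg Subtype.val (hfree _ hne ⟨a, ha⟩ (Subtype.ext ?_)))
  show g * a * g⁻¹ = a
  rw [Subgroup.mem_centralizer_singleton_iff.mp hg, mul_inv_cancel_right]

/-- An involution in the centraliser of an element of odd order puts it in a conjugate of `W`. -/
theorem exists_conj_W [IsSimpleGroup G] (hnc : ∃ a b : G, a * b ≠ b * a)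
    (hfree : ∀ f : (act A).range, f ≠ 1 → ∀ v : A, f • v = v → v = 1)
    {b y : G} (hb : orderOf b = 2) (hby : Commute b y) (hy : Odd (orderOf y)) :
    ∃ g : G, g * y * g⁻¹ ∈ closureW A ∧ g * b * g⁻¹ ∈ A := by
  obtain ⟨a, ha, h1⟩ := S.exists_ne
  obtain ⟨g, hg⟩ := isConj_iff.mp
    (Invol.strongly_isConj (S.strongly hnc) hb (S.orderOf_invol ha h1))
  refine ⟨g, S.mem_W_of_cent (S.cent_le_cent_A hnc hfree ha h1 ?_) ?_, hg ▸ ha⟩
  · rw [← hg]
    exact Subgroup.mem_centralizer_singleton_iff.mpr (by
      rw [show g * y * g⁻¹ * (g * b * g⁻¹) = g * (y * b) * g⁻¹ by group, ← hby.eq]; group)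
  · rwa [← (SemiconjBy.conj_mk g y).orderOf_eq]

theorem free_false [IsSimpleGroup G] (hnc : ∃ a b : G, a * b ≠ b * a)
    (hfree : ∀ f : (act A).range, f ≠ 1 → ∀ v : A, f • v = v → v = 1)
    (hcard : Nat.card (act A).range = Nat.card A - 1) (hp : (Nat.card A - 1).Prime) : False := by
  classical
  haveI := Fact.mk S.hyp.prime
  set N := Subgroup.normalizer (A : Set G) with hN
  have hodd : Odd r := S.hyp.prime.odd_of_ne_two S.hyp.ne_two
  -- `W` is non-trivial
  obtain ⟨w₀, hw₀, hw₀1⟩ : ∃ w ∈ closureW A, w ≠ 1 := by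
    obtain ⟨x, hx⟩ := S.hyp.ex
    obtain ⟨h1, h2⟩ := two_r_parts S.hyp.prime hx
    obtain ⟨g, hg, -⟩ := S.exists_conj_W hnc hfree h1 (Commute.pow_pow_self x r 2) (h2 ▸ hodd)
    refine ⟨_, hg, fun e => ?_⟩
    rw [conj_eq_one_iff] at e
    rw [e, orderOf_one] at h2
    exact S.hyp.prime.ne_one h2.symm
  -- an element of `W` moved into `N` by an outside involution is trivial
  have hout : ∀ t : G, t * t = 1 → t ∉ N → ∀ w ∈ closureW A, t * w * t ∈ N → w = 1 := by
    intro t ht htN w hw hwt
    have hti : t⁻¹ = t := inv_eq_of_mul_eq_one_right ht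
    have hu : ∀ u ∈ closureW A, t * u * t ∈ closureW A → u = 1 := by
      intro u huW htu
      by_contra hu1
      refine htN (Subgroup.mem_normalizer_iff_map_conj_eq.mpr (Subgroup.eq_of_le_of_card_ge ?_ ?_))
      · rintro _ ⟨a, ha, rfl⟩
        have h2 : t * a * t⁻¹ ∈ N := S.cent_W_le hnc huW hu1 (by
          refine Subgroup.mem_centralizer_singleton_iff.mpr ?_
          have hc : a * (t * u * t) = t * u * t * a := S.W_le_cent hnc htu a ha
          rw [hti]
          have := congrArg (fun e => t * e * t) hc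
          simpa [mul_assoc, ht, ← mul_assoc t t] using this)
        refine S.two_mem h2 ?_
        show t * a * t⁻¹ * (t * a * t⁻¹) = 1
        rw [show t * a * t⁻¹ * (t * a * t⁻¹) = t * (a * a) * t⁻¹ by group, S.invol ha, mul_one,
          mul_inv_cancel]
      · rw [Subgroup.card_map_of_injective (MulAut.conj t).injective]
    set w' := t * w * t with hw'
    have hback : t * w' * t = w := by
      rw [hw', show t * (t * w * t) * t = t * t * w * (t * t) by group, ht, one_mul, mul_one]
    have hwN : w ∈ N := S.W_normalizes hnc hw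
    have hn := S.normalizer_le
    have hcomm : Commute w w' := by
      have h1 : w * w' * w⁻¹ * w'⁻¹ ∈ closureW A := by
        rw [show w * w' * w⁻¹ * w'⁻¹ = w * (w' * w⁻¹ * w'⁻¹) by group]
        exact mul_mem hw ((Subgroup.mem_normalizer_iff.mp (hn hwt) _).mp (inv_mem hw))
      have h2 : t * (w * w' * w⁻¹ * w'⁻¹) * t ∈ closureW A := by
        have e : t * (w * w' * w⁻¹ * w'⁻¹) * t = w' * w * w'⁻¹ * w⁻¹ := by
          have hwi : w'⁻¹ = t * w⁻¹ * t := by rw [hw', mul_inv_rev, mul_inv_rev, hti, mul_assoc]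
          rw [hwi, hw']
          simp [mul_assoc, ← mul_assoc t t, ht]
        rw [e]
        exact mul_mem ((Subgroup.mem_normalizer_iff.mp (hn hwt) _).mp hw) (inv_mem hw)
      have := hu _ h1 h2
      rwa [mul_inv_eq_one, mul_inv_eq_iff_eq_mul] at this
    set d := w * w' with hd
    have hdt : Commute t d := by
      show t * d = d * t
      have : t * d * t = d := by
        rw [hd, show t * (w * w') * t = (t * w * t) * (t * w' * t) by
          simp [mul_assoc, ← mul_assoc t t, ht], hback, ← hw']
        exact hcomm.eq.symm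
      conv_rhs => rw [← this]
      rw [mul_assoc (t * d) t t, ht, mul_one]
    by_cases hd1 : d = 1
    · refine hu w hw ?_
      rw [hd, mul_eq_one_iff_inv_eq] at hd1
      rw [← hw', ← hd1]
      exact inv_mem hw
    have hdo : Odd (orderOf d) := by
      refine hodd.of_dvd_nat (orderOf_dvd_of_pow_eq_one ?_)
      rw [hd, hcomm.mul_pow, S.W_order hw, one_mul, hw', show t * w * t = t * w * t⁻¹ by rw [hti],
        conj_pow, S.W_order hw]
      group
    have ht2 : orderOf t = 2 := CIT.orderOf_two ht (fun e => htN (e ▸ one_mem N))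
    obtain ⟨g, hg, hgt⟩ := S.exists_conj_W hnc hfree ht2 hdt hdo
    have hd1' : g * d * g⁻¹ ≠ 1 := fun e => hd1 (conj_eq_one_iff.mp e)
    have hgw : g * w * g⁻¹ ∈ N := S.cent_W_le hnc hg hd1' (by
      refine Subgroup.mem_centralizer_singleton_iff.mpr ?_
      rw [show g * w * g⁻¹ * (g * d * g⁻¹) = g * (w * d) * g⁻¹ by group,
        show g * d * g⁻¹ * (g * w * g⁻¹) = g * (d * w) * g⁻¹ by group, hd, mul_assoc w w' w,
        hcomm.eq])
    have hmem : g * (t * w * t * w⁻¹) * g⁻¹ ∈ A := by
      have h1 := (Subgroup.mem_normalizer_iff.mp hgw _).mp hgt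
      have h2 : g * (t * w * t * w⁻¹) * g⁻¹ =
          g * t * g⁻¹ * (g * w * g⁻¹ * (g * t * g⁻¹) * (g * w * g⁻¹)⁻¹) := by group
      rw [h2]
      exact mul_mem hgt h1
    have hpow : (w' * w⁻¹) ^ r = 1 := by
      rw [(hcomm.symm.inv_right).mul_pow, inv_pow, S.W_order hw, inv_one, mul_one, hw',
        show t * w * t = t * w * t⁻¹ by rw [hti], conj_pow, S.W_order hw]
      group
    have hsq : (w' * w⁻¹) * (w' * w⁻¹) = 1 := by
      have := S.invol hmem
      rw [show g * (t * w * t * w⁻¹) * g⁻¹ * (g * (t * w * t * w⁻¹) * g⁻¹) =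
        g * ((t * w * t * w⁻¹) * (t * w * t * w⁻¹)) * g⁻¹ by group, conj_eq_one_iff, ← hw'] at this
      exact this
    have h0 : w' * w⁻¹ = 1 := by
      refine orderOf_eq_one_iff.mp (Nat.eq_one_of_dvd_coprimes (Nat.coprime_two_left.mpr hodd)
        (orderOf_dvd_of_pow_eq_one (by rwa [sq])) (orderOf_dvd_of_pow_eq_one hpow))
    refine hu w hw ?_
    rw [← hw', mul_inv_eq_one.mp h0]
    exact hw
  have hW : ∀ g : G, ∀ w ∈ closureW A, w ≠ 1 → g * w * g⁻¹ ∈ N → g ∈ N := by
    intro g w hw hw1 hgw
    by_contra hg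
    obtain ⟨t, ht, htN, hgt⟩ := S.exists_invol_coset hnc (g := g⁻¹) (fun h => hg (by simpa using inv_mem h))
    rw [inv_inv] at hgt
    refine hw1 (hout t ht htN w hw ?_)
    have := mul_mem (mul_mem (inv_mem hgt) hgw) hgt
    rwa [mul_inv_rev, inv_eq_of_mul_eq_one_right ht, show t * g⁻¹ * (g * w * g⁻¹) * (g * t) =
      t * w * t by group] at this
  -- the inverted elements
  obtain ⟨a₁, ha₁, ha₁1⟩ := S.exists_ne
  obtain ⟨t, ht2, htN⟩ := Invol.strongly_exists_invol_not_mem (S.strongly hnc)
  have ht : t * t = 1 := by rw [← sq, ← ht2, pow_orderOf_eq_one]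
  have hti : t⁻¹ = t := inv_eq_of_mul_eq_one_right ht
  let J := {x : G // x ∈ N ∧ t * x * t = x⁻¹}
  have hJ : Nat.card J = Nat.card A - 1 := S.card_inverted hnc ht htN
  let φ : J → (act A).range := fun x => ⟨act A ⟨x.1, x.2.1⟩, ⟨x.1, x.2.1⟩, rfl⟩
  have hφ : Function.Injective φ := by
    rintro ⟨x, hx, hxt⟩ ⟨y, hy, hyt⟩ h
    have hz : x * y⁻¹ ∈ Subgroup.centralizer (A : Set G) := by
      have h1 : act A (⟨x, hx⟩ * ⟨y, hy⟩⁻¹) = 1 := by
        rw [map_mul, map_inv, mul_inv_eq_one]
        exact congrArg Subtype.val h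
      exact act_eq_one.mp h1
    have hzN := Subgroup.centralizer_le_normalizer _ hz
    have hzt : t * (x * y⁻¹) * t ∈ N := by
      have e : t * (x * y⁻¹) * t = x⁻¹ * y := by
        calc t * (x * y⁻¹) * t = (t * x * t) * (t * y * t)⁻¹ := by
              rw [mul_inv_rev, mul_inv_rev, hti]
              simp [mul_assoc, ← mul_assoc t t, ht]
          _ = _ := by rw [hxt, hyt, inv_inv]
      rw [e]
      exact mul_mem (inv_mem hx) hy
    have := hout t ht htN _ (S.mem_W_of_cent hz (S.odd_order_of_inter hnc ht htN hzN hzt)) hzt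
    exact Subtype.ext (mul_inv_eq_one.mp this)
  by_cases hpr : Nat.card A - 1 = r
  · -- elements of order `r` outside
    have hbij : Function.Bijective φ :=
      hφ.bijective_of_nat_card_le (by rw [hJ, hcard])
    haveI : Nontrivial (act A).range := Finite.one_lt_card_iff_nontrivial.mp
      (hcard ▸ hp.one_lt)
    obtain ⟨f, hf⟩ := _root_.exists_ne (1 : (act A).range)
    obtain ⟨⟨y, hy, hyt⟩, hyf⟩ := hbij.2 f
    have hyA : y ∉ Subgroup.centralizer (A : Set G) := fun h => hf (by
      rw [← hyf]; exact Subtype.ext (act_eq_one.mpr h))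
    have hy1 : y ≠ 1 := fun e => hyA (e ▸ one_mem _)
    have hyo : orderOf y = r := by
      have hodd' : Odd (orderOf y) := S.odd_order_of_inter hnc ht htN hy (hyt ▸ inv_mem hy)
      have h1 : orderOf f ∣ orderOf y := by
        rw [← hyf, ← Subgroup.orderOf_coe (φ _)]
        exact (orderOf_map_dvd (act A) ⟨y, hy⟩).trans (Subgroup.orderOf_mk y hy).dvd
      have h2 : orderOf f = r := by
        refine ((Nat.dvd_prime S.hyp.prime).mp (hpr ▸ hcard ▸ orderOf_dvd_natCard f)).resolve_left
          fun e => hf (orderOf_eq_one_iff.mp e)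
      rw [h2] at h1
      exact ((Nat.prime_dvd_prime_iff_eq S.hyp.prime (S.hyp.odd_prime hy1 hodd')).mp h1).symm
    have hK : IsPGroup r (Subgroup.centralizer ({y} : Set G)) := by
      refine IsPGroup.iff_card.mpr ⟨_, Nat.eq_prime_pow_of_unique_prime_dvd Nat.card_pos.ne'
        fun {q} hq hd => ?_⟩
      refine (S.hyp.cent_primes (Or.inr hyo) hq hd).resolve_left fun e => ?_
      subst e
      haveI := Fact.mk hq
      obtain ⟨⟨b, hb⟩, hbo⟩ := exists_prime_orderOf_dvd_card' 2 hd
      rw [Subgroup.orderOf_mk] at hbo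
      obtain ⟨g, hg, -⟩ := S.exists_conj_W hnc hfree hbo
        (Subgroup.mem_centralizer_singleton_iff.mp hb) (hyo ▸ hodd)
      have hgN : g ∈ N := by
        have := hW g⁻¹ _ hg (fun e => hy1 (conj_eq_one_iff.mp e)) (by simpa [mul_assoc] using hy)
        simpa using inv_mem this
      refine hyA (S.W_le_cent hnc ?_)
      have := (Subgroup.mem_normalizer_iff.mp (S.normalizer_le (inv_mem hgN)) _).mp hg
      simpa [mul_assoc] using this
    -- a fixed point in `W`
    obtain ⟨x, hxW, hx1, hxy⟩ : ∃ x ∈ closureW A, x ≠ 1 ∧ Commute x y := by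
      set R := closureW A ⊔ Subgroup.zpowers y
      have hyn : Subgroup.zpowers y ≤ Subgroup.normalizer (closureW A : Set G) :=
        Subgroup.zpowers_le.mpr (S.normalizer_le hy)
      have hR : IsPGroup r R := S.W_pgroup.to_sup_of_normal_left'
        (Transfer.isPGroup_zpowers ⟨1, by rw [pow_one, hyo]⟩) hyn
      haveI : Group.IsNilpotent R := hR.isNilpotent
      haveI : ((closureW A).subgroupOf R).Normal :=
        Subgroup.normal_subgroupOf_iff_le_normalizer le_sup_left |>.mpr
          (sup_le Subgroup.le_normalizer hyn)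
      have hne := CfsgLib.Critical.inf_center_ne_bot ((closureW A).subgroupOf R) (fun e => by
        rw [Subgroup.subgroupOf_eq_bot, disjoint_iff, inf_eq_left.mpr le_sup_left] at e
        exact hw₀1 (Subgroup.mem_bot.mp (e ▸ hw₀)))
      obtain ⟨⟨x, hx⟩, hx1⟩ := Subgroup.ne_bot_iff_exists_ne_one.mp hne
      obtain ⟨hxW, hxc⟩ := Subgroup.mem_inf.mp hx
      refine ⟨(x : G), hxW, fun e => hx1 (Subtype.ext (Subtype.ext e)), ?_⟩
      exact (congrArg Subtype.val
        (Subgroup.mem_center_iff.mp hxc ⟨y, Subgroup.mem_sup_right (Subgroup.mem_zpowers y)⟩)).symm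
    set K := Subgroup.centralizer ({y} : Set G)
    have hxK : x ∈ K := Subgroup.mem_centralizer_singleton_iff.mpr hxy.eq
    have hx'K : t * x * t ∈ K := by
      refine Subgroup.mem_centralizer_singleton_iff.mpr ?_
      have h1 : (t * x * t) * (t * y * t) = (t * y * t) * (t * x * t) := by
        have h2 := congrArg (fun e => t * e * t) hxy.eq
        simpa [mul_assoc, ← mul_assoc t t, ht] using h2
      rw [hyt] at h1
      exact (Commute.inv_right_iff.mp h1).eq
    haveI : Group.IsNilpotent K := hK.isNilpotent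
    have hlt : (N.subgroupOf K) < ⊤ := lt_top_iff_ne_top.mpr fun e => hx1 (hout t ht htN x hxW
      (Subgroup.subgroupOf_eq_top.mp e hx'K))
    obtain ⟨u, hu, huX⟩ := SetLike.exists_of_lt
      (Group.normalizerCondition_of_isNilpotent (N.subgroupOf K) hlt)
    refine huX (hW (u : G) x hxW hx1 ?_)
    exact (Subgroup.mem_normalizer_iff.mp hu ⟨x, hxK⟩).mp (S.W_normalizes hnc hxW)
  · -- a CN-group
    have hCA : Group.IsNilpotent (Subgroup.centralizer (A : Set G)) := by
      have e : Subgroup.centralizer (A : Set G) = A ⊔ closureW A := by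
        refine le_antisymm (fun g hg => ?_) (sup_le (fun a ha b hb => S.comm hb ha) (S.W_le_cent hnc))
        obtain ⟨a, ha, w, hw, rfl⟩ := S.mem_sup_of_cent hg
        exact mul_mem (Subgroup.mem_sup_left ha) (Subgroup.mem_sup_right hw)
      haveI : Fact (Nat.Prime 2) := ⟨Nat.prime_two⟩
      rw [e]
      exact isNilpotent_sup_of_commute S.two.isNilpotent S.W_pgroup.isNilpotent
        fun a ha w hw => (S.W_le_cent hnc hw a ha)
    have hconj : ∀ (x g : G), Group.IsNilpotent (Subgroup.centralizer ({g * x * g⁻¹} : Set G)) →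
        Group.IsNilpotent (Subgroup.centralizer ({x} : Set G)) := by
      intro x g hn
      haveI := hn
      let f : Subgroup.centralizer ({x} : Set G) →* Subgroup.centralizer ({g * x * g⁻¹} : Set G) :=
        ((MulAut.conj g).toMonoidHom.comp (Subgroup.subtype _)).codRestrict _ fun c => by
          refine Subgroup.mem_centralizer_singleton_iff.mpr ?_
          show g * (c : G) * g⁻¹ * (g * x * g⁻¹) = g * x * g⁻¹ * (g * (c : G) * g⁻¹)
          rw [show g * (c : G) * g⁻¹ * (g * x * g⁻¹) = g * ((c : G) * x) * g⁻¹ by group,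
            Subgroup.mem_centralizer_singleton_iff.mp c.2]
          group
      exact isNilpotent_of_injective' f fun c d h => Subtype.ext ((MulAut.conj g).injective
        (congrArg Subtype.val h))
    have hinv : ∀ b : G, orderOf b = 2 →
        Group.IsNilpotent (Subgroup.centralizer ({b} : Set G)) := by
      intro b hb
      obtain ⟨g, hg⟩ := isConj_iff.mp
        (Invol.strongly_isConj (S.strongly hnc) hb (S.orderOf_invol ha₁ ha₁1))
      refine hconj b g ?_
      rw [hg]
      haveI := hCA
      exact isNilpotent_of_injective'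
        (Subgroup.inclusion fun c hc => S.cent_le_cent_A hnc hfree ha₁ ha₁1 hc)
        (Subgroup.inclusion_injective _)
    have hCN : Cfsg.IsCNGroup G := by
      intro x hx
      rcases S.hyp.orders x hx with hq | hq
      · by_cases h2 : orderOf x = 2
        · exact hinv x h2
        haveI := Fact.mk hq
        by_cases hxr : orderOf x = r
        · by_cases heven : 2 ∣ Nat.card (Subgroup.centralizer ({x} : Set G))
          · haveI : Fact (Nat.Prime 2) := ⟨Nat.prime_two⟩
            obtain ⟨⟨b, hb⟩, hbo⟩ := exists_prime_orderOf_dvd_card' 2 heven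
            rw [Subgroup.orderOf_mk] at hbo
            obtain ⟨g, hg, -⟩ := S.exists_conj_W hnc hfree hbo
              (Subgroup.mem_centralizer_singleton_iff.mp hb) (hxr ▸ hodd)
            refine hconj x g ?_
            haveI := hCA
            refine isNilpotent_of_injective' (Y := Subgroup.centralizer (A : Set G)) (Subgroup.inclusion fun c hc => ?_)
              (Subgroup.inclusion_injective _)
            have hg1 : g * x * g⁻¹ ≠ 1 := fun e => hx (conj_eq_one_iff.mp e)
            have hcN := S.cent_W_le hnc hg hg1 hc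
            by_contra hcA
            have hne : act A ⟨c, hcN⟩ ≠ 1 := fun e => hcA (act_eq_one.mp e)
            have hgo : orderOf (g * x * g⁻¹) = r := by
              rw [← (SemiconjBy.conj_mk g x).orderOf_eq, hxr]
            have hcc : c ^ (2 * r) = 1 := by
              by_cases hc1 : c = 1
              · rw [hc1, one_pow]
              rcases S.hyp.orders c hc1 with hcq | hcq
              · rcases S.hyp.cent_primes (Or.inr hgo) hcq
                  (Subgroup.orderOf_dvd_natCard _ hc) with e | e
                · rw [pow_mul, ← e, pow_orderOf_eq_one, one_pow]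
                · rw [mul_comm, pow_mul, ← e, pow_orderOf_eq_one, one_pow]
              · rw [← hcq, pow_orderOf_eq_one]
            let fc : (act A).range := ⟨act A ⟨c, hcN⟩, ⟨⟨c, hcN⟩, rfl⟩⟩
            have h1 : orderOf fc ∣ 2 * r :=
              orderOf_dvd_of_pow_eq_one (Subtype.ext (by
                show act A ⟨c, hcN⟩ ^ (2 * r) = 1
                rw [← map_pow, ← map_one (act A)]
                exact congrArg _ (Subtype.ext hcc)))
            have h2' : orderOf fc = Nat.card A - 1 :=
              ((Nat.dvd_prime hp).mp (hcard ▸ orderOf_dvd_natCard fc)).resolve_left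
                fun e => hne (congrArg Subtype.val (orderOf_eq_one_iff.mp e : fc = 1))
            rw [h2'] at h1
            rcases (Nat.Prime.dvd_mul hp).mp h1 with e | e
            · have := (Nat.prime_dvd_prime_iff_eq hp Nat.prime_two).mp e
              have := S.big
              omega
            · exact hpr ((Nat.prime_dvd_prime_iff_eq hp S.hyp.prime).mp e)
          · exact (S.hyp.pgroup_of_odd (Or.inr hxr)
              (Nat.not_even_iff_odd.mp fun h => heven (even_iff_two_dvd.mp h)) le_rfl).isNilpotent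
        · exact (S.hyp.cent_pgroup rfl hq h2 hxr).isNilpotent
      · haveI := hinv (x ^ r) (two_r_parts S.hyp.prime hq).1
        exact isNilpotent_of_injective' (Subgroup.inclusion fun c hc =>
          Subgroup.mem_centralizer_singleton_iff.mpr
            ((show Commute c x from Subgroup.mem_centralizer_singleton_iff.mp hc).pow_right r).eq)
          (Subgroup.inclusion_injective _)
    obtain ⟨x, hx⟩ := S.hyp.ex
    exact CIT.IsCIT.no_two_mul (G := G) (CNSimple.cit hnc hCN) S.hyp.prime S.hyp.ne_two x hx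

end Setup

end CfsgLib.OneComposite
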