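import Mathlib
import Cfsg.Agent.Lib.OneComposite.Inverted
import Cfsg.Agent.Lib.Transfer.Basic

/-!
The Frobenius case: the centraliser of an element of order `r` has at most three involutions.
-/

set_option autoImplicit false
set_option linter.style.haveILetI false
set_option linter.unusedSectionVars false

namespace CfsgLib.OneComposite

variable {G : Type*} [Group G] [Finite G] {r p : ℕ} {A : Subgroup G}

/-- The automiser is a Frobenius group of order `pr` and `C(A) = A`. -/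
structure Frob (G : Type*) [Group G] [Finite G] (r p : ℕ) (A : Subgroup G) : Prop where
  setup : Setup G r A
  nc : ∃ a b : G, a * b ≠ b * a
  prime : p.Prime
  ne : p ≠ r
  cardA : Nat.card A - 1 = p
  cardF : Nat.card (act A).range = p * r
  normalP : ∃ P : Subgroup (act A).range, P.Normal ∧ Nat.card P = p
  self_cent : ∀ g ∈ Subgroup.centralizer (A : Set G), g ∈ A

namespace Frob

variable (h : Frob G r p A) [IsSimpleGroup G]
include h

theorem rprime : r.Prime := h.setup.hyp.prime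

theorem rodd : Odd r := h.rprime.odd_of_ne_two h.setup.hyp.ne_two

theorem ne_two : p ≠ 2 := by
  intro e
  haveI := h.setup.isMulCommutative
  haveI : Fact (Nat.Prime 2) := ⟨Nat.prime_two⟩
  obtain ⟨n, hn⟩ := IsPGroup.iff_card.mp h.setup.two
  have h8 := h.setup.big
  have h1 := h.cardA
  rw [hn] at h8 h1
  omega

theorem orders {f : (act A).range} (hf : f ≠ 1) : orderOf f = p ∨ orderOf f = r := by
  have h1 : orderOf f ∣ p * r := h.cardF ▸ orderOf_dvd_natCard f
  obtain ⟨g, hgo, hodd, -⟩ := h.setup.exists_lift hf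
  have hpr : (orderOf f).Prime := hgo ▸ h.setup.hyp.odd_prime (fun e => by
    rw [e, orderOf_one] at hgo
    exact hf (orderOf_eq_one_iff.mp hgo.symm)) hodd
  exact (hpr.dvd_mul.mp h1).imp (fun e => (Nat.prime_dvd_prime_iff_eq hpr h.prime).mp e)
    (fun e => (Nat.prime_dvd_prime_iff_eq hpr h.rprime).mp e)

/-- The normal subgroup of order `p`. -/
noncomputable def P : Subgroup (act A).range := h.normalP.choose

theorem P_normal : h.P.Normal := h.normalP.choose_spec.1

theorem P_card : Nat.card h.P = p := h.normalP.choose_spec.2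

theorem mem_P {f : (act A).range} (hf : f ^ p = 1) : f ∈ h.P := by
  haveI := h.P_normal
  have hidx : h.P.index = r := by
    have := h.P.card_mul_index
    rw [h.P_card, h.cardF] at this
    exact Nat.eq_of_mul_eq_mul_left h.prime.pos this
  have h1 := h.P.pow_index_mem f
  rw [hidx] at h1
  obtain ⟨m, hm⟩ := exists_pow_eq_self_of_coprime (x := f) (n := r)
    (((Nat.coprime_primes h.rprime h.prime).mpr (Ne.symm h.ne)).coprime_dvd_right
      (orderOf_dvd_of_pow_eq_one hf))
  exact hm ▸ pow_mem h1 m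

theorem pow_of_mem_P {f : (act A).range} (hf : f ∈ h.P) : f ^ p = 1 := by
  rw [← h.P_card]
  exact orderOf_dvd_iff_pow_eq_one.mp (Subgroup.orderOf_dvd_natCard _ hf)

theorem not_commute {f g : (act A).range} (hf : orderOf f = p) (hg : orderOf g = r)
    (hc : Commute f g) : False := by
  have ho := hc.orderOf_mul_eq_mul_orderOf_of_coprime
    (by rw [hf, hg]; exact (Nat.coprime_primes h.prime h.rprime).mpr h.ne)
  rw [hf, hg] at ho
  rcases h.orders (f := f * g) (fun e => by
    rw [e, orderOf_one] at ho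
    exact h.prime.ne_one (Nat.eq_one_of_mul_eq_one_right ho.symm)) with e | e
  · rw [ho] at e
    have := h.rprime.one_lt
    have := h.prime.pos
    nlinarith
  · rw [ho] at e
    have := h.prime.one_lt
    have := h.rprime.pos
    nlinarith

theorem eq_one_of_pow {f : (act A).range} (h1 : f ^ p = 1) (h2 : f ^ r = 1) : f = 1 :=
  orderOf_eq_one_iff.mp (Nat.eq_one_of_dvd_coprimes ((Nat.coprime_primes h.prime h.rprime).mpr h.ne)
    (orderOf_dvd_of_pow_eq_one h1) (orderOf_dvd_of_pow_eq_one h2))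

theorem cent_le {a : G} (ha : a ∈ A) (h1 : a ≠ 1) :
    Subgroup.centralizer ({a} : Set G) ≤ Subgroup.normalizer (A : Set G) :=
  h.setup.cent_le_normalizer h.nc ha h1

theorem eq_of_act_eq_one {g : Subgroup.normalizer (A : Set G)} (hg : act A g = 1)
    (hodd : Odd (orderOf (g : G))) : (g : G) = 1 := by
  have hgA := h.self_cent _ (act_eq_one.mp hg)
  by_contra h1
  rw [h.setup.orderOf_invol hgA h1] at hodd
  exact absurd hodd (by decide)

section

variable {a y : G} (ha : a ∈ A) (ha1 : a ≠ 1) (hy : orderOf y = r) (hay : Commute a y)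
include ha ha1 hy hay

theorem y_mem : y ∈ Subgroup.normalizer (A : Set G) :=
  h.cent_le ha ha1 (Subgroup.mem_centralizer_singleton_iff.mpr hay.eq.symm)

/-- The image of `y`. -/
noncomputable def fy : (act A).range :=
  ⟨act A ⟨y, h.y_mem ha ha1 hy hay⟩, ⟨_, rfl⟩⟩

theorem fy_order : orderOf (h.fy ha ha1 hy hay) = r := by
  haveI := Fact.mk h.rprime
  refine orderOf_eq_prime (Subtype.ext ?_) fun e => ?_
  · show act A ⟨y, _⟩ ^ r = 1
    rw [← map_pow, ← map_one (act A)]
    exact congrArg _ (Subtype.ext (by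
      show y ^ r = 1
      rw [← hy, pow_orderOf_eq_one]))
  · have h1 := h.eq_of_act_eq_one (g := ⟨y, h.y_mem ha ha1 hy hay⟩) (congrArg Subtype.val e)
      (hy ▸ h.rodd)
    change y = 1 at h1
    rw [h1, orderOf_one] at hy
    exact h.rprime.ne_one hy.symm

open scoped IsMulCommutative in
/-- `y` fixes only `a`. -/
theorem fixed_eq {b : G} (hb : b ∈ A) (hb1 : b ≠ 1) (hby : Commute b y) : b = a := by
  classical
  haveI := h.setup.isMulCommutative
  have hF := h.setup.frame h.nc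
  set f := h.fy ha ha1 hy hay
  let va : A := ⟨a, ha⟩
  have hva : va ≠ 1 := fun e => ha1 (congrArg Subtype.val e)
  have hfix : ∀ c : A, Commute (c : G) y → f • c = c := fun c hc => Subtype.ext (by
    show y * (c : G) * y⁻¹ = c
    rw [← hc.eq, mul_inv_cancel_right])
  -- the orbit of `P`
  have hfree : ∀ u ∈ h.P, u • va = va → u = 1 := by
    intro u hu huv
    refine h.eq_one_of_pow (h.pow_of_mem_P hu) ?_
    by_cases hu1 : u = 1
    · rw [hu1, one_pow]
    · rw [← hF.fixed u va hu1 hva huv, pow_orderOf_eq_one]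
  have hne : ∀ u : h.P, (u : (act A).range) • va ≠ 1 := fun u e =>
    hva (smul_left_cancel (u : (act A).range) (e.trans (smul_one _).symm))
  have hinj : Function.Injective
      fun u : h.P => (⟨(u : (act A).range) • va, hne u⟩ : {v : A // v ≠ 1}) := by
    intro u w e
    have e' : (u : (act A).range) • va = (w : (act A).range) • va := congrArg Subtype.val e
    have := hfree _ (mul_mem (inv_mem w.2) u.2) (by rw [mul_smul, e', inv_smul_smul])
    exact Subtype.ext (inv_mul_eq_one.mp this).symm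
  have hcard : Nat.card {v : A // v ≠ 1} = p := by
    haveI := Fintype.ofFinite A
    rw [Nat.card_eq_fintype_card, Fintype.card_subtype_compl, Fintype.card_subtype_eq,
      ← Nat.card_eq_fintype_card, h.cardA]
  obtain ⟨⟨u, hu⟩, he⟩ := (hinj.bijective_of_nat_card_le (by rw [hcard, h.P_card])).2
    ⟨⟨b, hb⟩, fun e => hb1 (congrArg Subtype.val e)⟩
  have he' : u • va = ⟨b, hb⟩ := congrArg Subtype.val he
  have h1 : u⁻¹ * (f * u * f⁻¹) = 1 := by
    refine hfree _ (mul_mem (inv_mem hu) (h.P_normal.conj_mem u hu f)) ?_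
    have hfa : f⁻¹ • va = va := inv_smul_eq_iff.mpr (hfix va hay).symm
    rw [mul_smul, mul_smul, mul_smul, hfa, he', hfix _ hby, ← he', inv_smul_smul]
  rw [inv_mul_eq_one, eq_mul_inv_iff_mul_eq] at h1
  by_cases hu1 : u = 1
  · rw [hu1, one_smul] at he'
    exact (congrArg Subtype.val he').symm
  · exfalso
    exact h.not_commute (((Nat.dvd_prime h.prime).mp (orderOf_dvd_of_pow_eq_one
      (h.pow_of_mem_P hu))).resolve_left fun e => hu1 (orderOf_eq_one_iff.mp e))
      (h.fy_order ha ha1 hy hay) h1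

theorem cent_N {g : G} (hg : g ∈ Subgroup.normalizer (A : Set G)) (hgy : Commute g y) :
    ∃ i : ℕ, g = y ^ i ∨ g = a * y ^ i := by
  classical
  haveI := h.P_normal
  set f := h.fy ha ha1 hy hay with hf
  let c : (act A).range := ⟨act A ⟨g, hg⟩, ⟨_, rfl⟩⟩
  have hcf : Commute c f := Subtype.ext (by
    show act A ⟨g, hg⟩ * act A ⟨y, _⟩ = act A ⟨y, _⟩ * act A ⟨g, hg⟩
    rw [← map_mul, ← map_mul]
    exact congrArg _ (Subtype.ext hgy.eq))
  have hq : Nat.card ((act A).range ⧸ h.P) = r := by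
    have := h.P.card_mul_index
    rw [h.P_card, h.cardF] at this
    exact Nat.eq_of_mul_eq_mul_left h.prime.pos this
  haveI := Fact.mk h.rprime
  have hfr : f ^ r = 1 := by rw [← h.fy_order ha ha1 hy hay, pow_orderOf_eq_one]
  have hne : (f : (act A).range ⧸ h.P) ≠ 1 := fun e => by
    have := h.eq_one_of_pow (h.pow_of_mem_P ((QuotientGroup.eq_one_iff _).mp e)) hfr
    have h2 := h.fy_order ha ha1 hy hay
    rw [← hf, this, orderOf_one] at h2
    exact h.rprime.ne_one h2.symm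
  obtain ⟨i, hi⟩ := mem_powers_iff_mem_zpowers.mpr
    (mem_zpowers_of_prime_card hq hne (g' := (c : (act A).range ⧸ h.P)))
  have hmem : c * (f ^ i)⁻¹ ∈ h.P := by
    rw [← QuotientGroup.eq_one_iff, QuotientGroup.mk_mul, QuotientGroup.mk_inv,
      QuotientGroup.mk_pow, mul_inv_eq_one]
    exact hi.symm
  set d := c * (f ^ i)⁻¹
  have hdf : Commute d f := hcf.mul_left ((Commute.refl f).pow_left i).inv_left
  have hd : d = 1 := by
    by_contra hd1
    exact h.not_commute (((Nat.dvd_prime h.prime).mp (orderOf_dvd_of_pow_eq_one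
      (h.pow_of_mem_P hmem))).resolve_left fun e => hd1 (orderOf_eq_one_iff.mp e))
      (h.fy_order ha ha1 hy hay) hdf
  have hgA : g * (y ^ i)⁻¹ ∈ A := h.self_cent _ (act_eq_one (g := ⟨g, hg⟩ *
    (⟨y, h.y_mem ha ha1 hy hay⟩ ^ i)⁻¹) |>.mp (by
      rw [map_mul, map_inv, map_pow]
      exact congrArg Subtype.val hd))
  refine ⟨i, ?_⟩
  by_cases h1 : g * (y ^ i)⁻¹ = 1
  · exact Or.inl (mul_inv_eq_one.mp h1)
  · have := h.fixed_eq ha ha1 hy hay hgA h1 (hgy.mul_left ((Commute.refl y).pow_left i).inv_left)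
    exact Or.inr (eq_mul_of_mul_inv_eq this)

/-- The involutions of `C(y)` in `N(A)`. -/
theorem invol_N {b : G} (hb : orderOf b = 2) (hbN : b ∈ Subgroup.normalizer (A : Set G))
    (hby : Commute b y) : b = a := by
  obtain ⟨hbA, hb1⟩ := h.setup.invol_mem_normalizer_iff.mp ⟨hb, hbN⟩
  exact h.fixed_eq ha ha1 hy hay hbA hb1 hby

theorem card_two_sylow (T : Sylow 2 (Subgroup.centralizer ({y} : Set G))) :
    Nat.card T = 2 := by
  haveI : Fact (Nat.Prime 2) := ⟨Nat.prime_two⟩
  have haK : a ∈ (Subgroup.centralizer ({y} : Set G)) := Subgroup.mem_centralizer_singleton_iff.mpr hay.eq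
  have hp : IsPGroup 2 (Subgroup.zpowers (⟨a, haK⟩ : (Subgroup.centralizer ({y} : Set G)))) :=
    Transfer.isPGroup_zpowers ⟨1, by rw [pow_one, Subgroup.orderOf_mk, h.setup.orderOf_invol ha ha1]⟩
  obtain ⟨T', hT'⟩ := hp.exists_le_sylow
  refine (Nat.card_congr (T.equiv T').toEquiv).trans ?_
  have ha' : (⟨a, haK⟩ : (Subgroup.centralizer ({y} : Set G))) ∈ (T' : Subgroup (Subgroup.centralizer ({y} : Set G))) := hT' (Subgroup.mem_zpowers _)
  have hsq : ∀ x ∈ (T' : Subgroup (Subgroup.centralizer ({y} : Set G))), (x : G) * x = 1 := fun x hx =>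
    h.setup.hyp.mul_self_of_two (T'.2.map (Subgroup.centralizer ({y} : Set G)).subtype) (Subgroup.mem_map_of_mem (Subgroup.centralizer ({y} : Set G)).subtype hx)
  have hall : (T' : Subgroup (Subgroup.centralizer ({y} : Set G))) = Subgroup.zpowers (⟨a, haK⟩ : (Subgroup.centralizer ({y} : Set G))) := by
    refine le_antisymm (fun x hx => ?_) hT'
    by_cases hx1 : x = 1
    · rw [hx1]; exact one_mem _
    have hxi : (x : G)⁻¹ = x := inv_eq_of_mul_eq_one_right (hsq x hx)
    have hai : a⁻¹ = a := inv_eq_of_mul_eq_one_right (h.setup.invol ha)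
    have hcomm : (x : G) * a = a * x := by
      have := inv_eq_of_mul_eq_one_right (hsq _ (mul_mem hx ha'))
      rw [Subgroup.coe_mul, mul_inv_rev, hxi] at this
      change a⁻¹ * (x : G) = x * a at this
      rw [hai] at this
      exact this.symm
    have hx2 : orderOf (x : G) = 2 := CIT.orderOf_two (hsq x hx) fun e => hx1 (Subtype.ext e)
    have := h.invol_N ha ha1 hy hay hx2
      (h.cent_le ha ha1 (Subgroup.mem_centralizer_singleton_iff.mpr hcomm))
      (Subgroup.mem_centralizer_singleton_iff.mp x.2)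
    rw [show x = ⟨a, haK⟩ from Subtype.ext this]
    exact Subgroup.mem_zpowers _
  show Nat.card (T' : Subgroup (Subgroup.centralizer ({y} : Set G))) = 2
  rw [hall, Nat.card_zpowers, Subgroup.orderOf_mk, h.setup.orderOf_invol ha ha1]

theorem invol_unique {b b' : G} (hb : b * b = 1) (hb1 : b ≠ 1) (hb' : b' * b' = 1) (hb'1 : b' ≠ 1)
    (hby : Commute b y) (hb'y : Commute b' y) (hbb : Commute b b') : b = b' := by
  haveI : Fact (Nat.Prime 2) := ⟨Nat.prime_two⟩
  set K := Subgroup.centralizer ({y} : Set G)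
  let u : K := ⟨b, Subgroup.mem_centralizer_singleton_iff.mpr hby.eq⟩
  let v : K := ⟨b', Subgroup.mem_centralizer_singleton_iff.mpr hb'y.eq⟩
  let V : Subgroup K :=
    { carrier := {1, u, v, u * v}
      one_mem' := Or.inl rfl
      mul_mem' := by
        have hu : u * u = 1 := Subtype.ext hb
        have hv : v * v = 1 := Subtype.ext hb'
        have hc : v * u = u * v := Subtype.ext hbb.eq.symm
        have h1 : v * (u * v) = u := by rw [← mul_assoc, hc, mul_assoc, hv, mul_one]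
        rintro x z (rfl | rfl | rfl | rfl) (rfl | rfl | rfl | rfl) <;>
          simp [mul_assoc, hu, hv, hc, h1, ← mul_assoc u u]
      inv_mem' := by
        have hu : u⁻¹ = u := inv_eq_of_mul_eq_one_right (Subtype.ext hb)
        have hv : v⁻¹ = v := inv_eq_of_mul_eq_one_right (Subtype.ext hb')
        have hc : v * u = u * v := Subtype.ext hbb.eq.symm
        rintro x (rfl | rfl | rfl | rfl) <;> simp [hu, hv, hc] }
  have hV : IsPGroup 2 V := by
    rintro ⟨x, hx⟩
    refine ⟨1, Subtype.ext ?_⟩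
    have hc : v * u = u * v := Subtype.ext hbb.eq.symm
    rw [pow_one, sq]
    show x * x = 1
    rcases hx with rfl | rfl | rfl | rfl
    · rw [one_mul]
    · exact Subtype.ext hb
    · exact Subtype.ext hb'
    · rw [(show Commute v u from hc).mul_mul_mul_comm,
        show u * u = 1 from Subtype.ext hb, show v * v = 1 from Subtype.ext hb', one_mul]
  obtain ⟨T, hT⟩ := hV.exists_le_sylow
  have hT2 := h.card_two_sylow ha ha1 hy hay T
  obtain ⟨_, hz⟩ := (Nat.card_eq_two_iff' (1 : T)).mp hT2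
  exact congrArg (fun w : T => ((w : K) : G)) ((hz.2 ⟨u, hT (Or.inr (Or.inl rfl))⟩
    (fun e => hb1 (congrArg (fun w : T => ((w : K) : G)) e))).trans
    (hz.2 ⟨v, hT (Or.inr (Or.inr (Or.inl rfl)))⟩
      (fun e => hb'1 (congrArg (fun w : T => ((w : K) : G)) e))).symm)

theorem exists_complement : ∃ R1 : Subgroup G, R1 ≤ Subgroup.centralizer ({y} : Set G) ∧
    IsPGroup r R1 ∧ Nat.card (Subgroup.centralizer ({y} : Set G)) = Nat.card R1 * 2 ∧
    (∀ g ∈ Subgroup.centralizer ({y} : Set G), Odd (orderOf g) → g ∈ R1) ∧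
    ∀ g ∈ Subgroup.centralizer ({y} : Set G), ∀ x ∈ R1, g * x * g⁻¹ ∈ R1 := by
  haveI : Fact (Nat.Prime 2) := ⟨Nat.prime_two⟩
  set K := Subgroup.centralizer ({y} : Set G)
  obtain ⟨T⟩ : Nonempty (Sylow 2 K) := inferInstance
  have hT := h.card_two_sylow ha ha1 hy hay T
  have hNC : Subgroup.normalizer ((T : Subgroup K) : Set K) ≤
      Subgroup.centralizer ((T : Subgroup K) : Set K) := by
    intro g hg x hx
    by_cases hx1 : x = 1
    · rw [hx1, one_mul, mul_one]
    have h2 : g * x * g⁻¹ ∈ (T : Subgroup K) := (Subgroup.mem_normalizer_iff.mp hg x).mp hx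
    have h3 : g * x * g⁻¹ ≠ 1 := fun e => hx1 (conj_eq_one_iff.mp e)
    obtain ⟨_, hz⟩ := (Nat.card_eq_two_iff' (1 : T)).mp hT
    have := congrArg Subtype.val ((hz.2 ⟨_, h2⟩ fun e => h3 (congrArg Subtype.val e)).trans
      (hz.2 ⟨x, hx⟩ fun e => hx1 (congrArg Subtype.val e)).symm)
    rw [mul_inv_eq_iff_eq_mul] at this
    exact this.symm
  obtain ⟨N, hN, hc⟩ := (Transfer.hasNormalPComplement_iff_forall_sylow T).mp
    (Transfer.hasNormalPComplement_of_normalizer_le_centralizer T hNC)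
  haveI := hN
  have hcard : Nat.card N * 2 = Nat.card K := by
    have := hc.card_mul
    rwa [hT] at this
  have hidx : N.index = 2 := by
    have := N.card_mul_index
    rw [← hcard] at this
    exact Nat.eq_of_mul_eq_mul_left Nat.card_pos this
  have hodd : Odd (Nat.card N) := Nat.not_even_iff_odd.mp fun he => by
    have := (Transfer.coprime_card_of_isComplement' hc).symm
    exact absurd ((Nat.prime_two.coprime_iff_not_dvd.mp this) (even_iff_two_dvd.mp he)) id
  refine ⟨N.map K.subtype, Subgroup.map_subtype_le _,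
    h.setup.hyp.pgroup_of_odd (Or.inr hy)
      (by rwa [Subgroup.card_map_of_injective K.subtype_injective]) (Subgroup.map_subtype_le _),
    by rw [Subgroup.card_map_of_injective K.subtype_injective, hcard], fun g hg ho => ?_,
    fun g hg x hx => ?_⟩
  · refine ⟨⟨g, hg⟩, ?_, rfl⟩
    obtain ⟨j, hj⟩ := ho
    have h2 : (⟨g, hg⟩ : K) ^ 2 ∈ N := hidx ▸ N.pow_index_mem _
    have h3 : (⟨g, hg⟩ : K) = ((⟨g, hg⟩ : K) ^ 2) ^ (j + 1) := Subtype.ext (by
      show g = (g ^ 2) ^ (j + 1)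
      rw [← pow_mul, show 2 * (j + 1) = orderOf g + 1 by omega, pow_succ, pow_orderOf_eq_one,
        one_mul])
    rw [h3]
    exact pow_mem h2 _
  · obtain ⟨w, hw, rfl⟩ := hx
    exact ⟨⟨g, hg⟩ * w * ⟨g, hg⟩⁻¹, hN.conj_mem w hw _, rfl⟩

theorem exists_conj_invol {b : G} (hb : orderOf b = 2) (hby : Commute b y) :
    ∃ g : G, Commute g y ∧ g * a * g⁻¹ = b := by
  haveI : Fact (Nat.Prime 2) := ⟨Nat.prime_two⟩
  set K := Subgroup.centralizer ({y} : Set G)
  let u : K := ⟨b, Subgroup.mem_centralizer_singleton_iff.mpr hby.eq⟩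
  let v : K := ⟨a, Subgroup.mem_centralizer_singleton_iff.mpr hay.eq⟩
  have h2 : ∀ w : K, orderOf (w : G) = 2 → IsPGroup 2 (Subgroup.zpowers w) := fun w hw =>
    Transfer.isPGroup_zpowers ⟨1, by rw [pow_one, ← Subgroup.orderOf_coe, hw]⟩
  obtain ⟨T, hT⟩ := (h2 v (h.setup.orderOf_invol ha ha1)).exists_le_sylow
  obtain ⟨T', hT'⟩ := (h2 u hb).exists_le_sylow
  obtain ⟨g, hg⟩ := MulAction.exists_smul_eq K T T'
  refine ⟨g, (Subgroup.mem_centralizer_singleton_iff.mp g.2), ?_⟩
  have hmem : g * v * g⁻¹ ∈ (T' : Subgroup K) := by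
    rw [← hg, Sylow.coe_subgroup_smul, Subgroup.pointwise_smul_def]
    exact ⟨v, hT (Subgroup.mem_zpowers _), rfl⟩
  obtain ⟨_, hz⟩ := (Nat.card_eq_two_iff' (1 : T')).mp (h.card_two_sylow ha ha1 hy hay T')
  exact congrArg (fun w : T' => ((w : K) : G))
    ((hz.2 ⟨_, hmem⟩ fun e => ha1 (congrArg Subtype.val
      (conj_eq_one_iff.mp (congrArg Subtype.val e) : v = 1))).trans
    (hz.2 ⟨u, hT' (Subgroup.mem_zpowers _)⟩ fun e => by
      have : b = 1 := congrArg (fun w : T' => ((w : K) : G)) e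
      rw [this, orderOf_one] at hb
      omega).symm)

theorem card_cent_eq : Nat.card (Subgroup.centralizer ({y} : Set G)) =
    Nat.card {b : G // orderOf b = 2 ∧ Commute b y} * (2 * r) := by
  classical
  set K := Subgroup.centralizer ({y} : Set G)
  have h2 : orderOf a = 2 := h.setup.orderOf_invol ha ha1
  have ho : orderOf (a * y) = 2 * r := by
    rw [hay.orderOf_mul_eq_mul_orderOf_of_coprime (by
      rw [h2, hy]; exact Nat.coprime_two_left.mpr h.rodd), h2, hy]
  have hinter : K ⊓ Subgroup.centralizer ({a} : Set G) = Subgroup.zpowers (a * y) := by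
    refine le_antisymm (fun g hg => ?_) (Subgroup.zpowers_le.mpr (Subgroup.mem_inf.mpr
      ⟨Subgroup.mem_centralizer_singleton_iff.mpr (hay.mul_left (Commute.refl y)).eq,
        Subgroup.mem_centralizer_singleton_iff.mpr ((Commute.refl a).mul_left hay.symm).eq⟩))
    obtain ⟨hgK, hga⟩ := Subgroup.mem_inf.mp hg
    obtain ⟨k, hk⟩ := h.rodd
    have hyz : y ∈ Subgroup.zpowers (a * y) := by
      have : (a * y) ^ (r + 1) = y := by
        rw [hay.mul_pow, pow_succ y, ← hy, pow_orderOf_eq_one, one_mul, hy,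
          show r + 1 = 2 * (k + 1) by omega, pow_mul, sq, h.setup.invol ha, one_pow, one_mul]
      have h' := pow_mem (Subgroup.mem_zpowers (a * y)) (r + 1)
      rwa [this] at h'
    have haz : a ∈ Subgroup.zpowers (a * y) := by
      have := mul_mem (Subgroup.mem_zpowers (a * y)) (inv_mem hyz)
      rwa [mul_inv_cancel_right] at this
    obtain ⟨i, e | e⟩ := h.cent_N ha ha1 hy hay (h.cent_le ha ha1 hga)
      (Subgroup.mem_centralizer_singleton_iff.mp hgK)
    · exact e ▸ pow_mem hyz i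
    · exact e ▸ mul_mem haz (pow_mem hyz i)
  have hai : a⁻¹ = a := inv_eq_of_mul_eq_one_right (h.setup.invol ha)
  have haK : a ∈ K := Subgroup.mem_centralizer_singleton_iff.mpr hay.eq
  let X := MulAction.orbit (ConjAct K) (⟨a, haK⟩ : K)
  have hX : Nat.card {b : G // orderOf b = 2 ∧ Commute b y} = Nat.card X := by
    refine Nat.card_congr
      { toFun := fun b => ⟨⟨b.1, Subgroup.mem_centralizer_singleton_iff.mpr b.2.2.eq⟩, ?_⟩
        invFun := fun b => ⟨((b.1 : K) : G), ?_, ?_⟩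
        left_inv := fun b => rfl
        right_inv := fun b => rfl }
    · obtain ⟨g, hg, hge⟩ := h.exists_conj_invol ha ha1 hy hay b.2.1 b.2.2
      exact ⟨ConjAct.toConjAct ⟨g, Subgroup.mem_centralizer_singleton_iff.mpr hg.eq⟩,
        Subtype.ext hge⟩
    · obtain ⟨g, hg⟩ := b.2
      rw [← hg, ← h2]
      exact ((SemiconjBy.conj_mk ((ConjAct.ofConjAct g : K) : G) a).orderOf_eq).symm
    · exact Subgroup.mem_centralizer_singleton_iff.mp b.1.2
  rw [hX, ← ho, ← Nat.card_zpowers, ← hinter, ← Nat.card_prod]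
  refine Nat.card_congr ((MulAction.orbitProdStabilizerEquivGroup (ConjAct K) (⟨a, haK⟩ : K)).trans
    ConjAct.ofConjAct.toEquiv).symm |>.trans ?_
  refine Nat.card_congr (Equiv.prodCongr (Equiv.refl _)
    { toFun := fun g => ⟨((ConjAct.ofConjAct g.1 : K) : G), (ConjAct.ofConjAct g.1).2, ?_⟩
      invFun := fun g => ⟨ConjAct.toConjAct ⟨g.1, g.2.1⟩, ?_⟩
      left_inv := fun g => rfl
      right_inv := fun g => rfl })
  · have := congrArg Subtype.val (MulAction.mem_stabilizer_iff.mp g.2)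
    refine Subgroup.mem_centralizer_singleton_iff.mpr (mul_inv_eq_iff_eq_mul.mp ?_)
    exact this
  · refine MulAction.mem_stabilizer_iff.mpr (Subtype.ext ?_)
    show g.1 * a * g.1⁻¹ = a
    rw [Subgroup.mem_centralizer_singleton_iff.mp g.2.2, mul_inv_cancel_right]

theorem exists_kernel_element {t : G} (ht : t * t = 1) (hty : Commute t y)
    (htN : t ∉ Subgroup.normalizer (A : Set G)) :
    ∃ π ∈ Subgroup.normalizer (A : Set G), orderOf π = p ∧ t * π * t ∈ Subgroup.zpowers π ∧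
      y * π * y⁻¹ ∈ Subgroup.zpowers π := by
  classical
  haveI := Fact.mk h.prime
  set N := Subgroup.normalizer (A : Set G)
  have hti : t⁻¹ = t := inv_eq_of_mul_eq_one_right ht
  let D : Subgroup G := N ⊓ N.comap (MulAut.conj t).toMonoidHom
  have hD : ∀ x : G, x ∈ D ↔ x ∈ N ∧ t * x * t ∈ N := fun x => by
    rw [Subgroup.mem_inf, Subgroup.mem_comap]
    show _ ∧ t * x * t⁻¹ ∈ N ↔ _
    rw [hti]
  let φ : D →* (act A).range := (act A).rangeRestrict.comp (Subgroup.inclusion inf_le_left)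
  have hφ : Function.Injective φ := by
    rw [injective_iff_map_eq_one]
    rintro ⟨x, hx⟩ hx1
    refine Subtype.ext (h.eq_of_act_eq_one (g := ⟨x, ((hD x).mp hx).1⟩) (congrArg Subtype.val hx1) ?_)
    exact h.setup.odd_order_of_inter h.nc ht htN ((hD x).mp hx).1 ((hD x).mp hx).2
  have hyN := h.y_mem ha ha1 hy hay
  have hyD : y ∈ D := (hD y).mpr ⟨hyN, by
    rw [hty.eq, mul_assoc, ht, mul_one]; exact hyN⟩
  have hpD : p ∣ Nat.card D := by
    by_contra hnd
    have hdr : Nat.card D ∣ r := by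
      have h1 : Nat.card D ∣ p * r := h.cardF ▸ Subgroup.card_dvd_of_injective φ hφ
      exact ((h.prime.coprime_iff_not_dvd.mpr hnd).symm).dvd_of_dvd_mul_left h1
    have hDe : Subgroup.zpowers y = D := Subgroup.eq_of_le_of_card_ge (Subgroup.zpowers_le.mpr hyD)
      (by rw [Nat.card_zpowers, hy]; exact Nat.le_of_dvd h.rprime.pos hdr)
    have hsub : Subsingleton {x : G // x ∈ N ∧ t * x * t = x⁻¹} := by
      refine ⟨fun x z => ?_⟩
      have key : ∀ w : G, w ∈ N → t * w * t = w⁻¹ → w = 1 := by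
        intro w hw hwt
        have hwD : w ∈ D := (hD w).mpr ⟨hw, hwt ▸ inv_mem hw⟩
        rw [← hDe] at hwD
        obtain ⟨i, rfl⟩ := Subgroup.mem_zpowers_iff.mp hwD
        rw [(hty.zpow_right i).eq, mul_assoc, ht, mul_one, eq_inv_iff_mul_eq_one, ← sq] at hwt
        exact orderOf_eq_one_iff.mp (Nat.eq_one_of_dvd_coprimes (Nat.coprime_two_left.mpr h.rodd)
          (orderOf_dvd_of_pow_eq_one hwt) (hy ▸ orderOf_dvd_of_mem_zpowers (Subgroup.zpow_mem _ (Subgroup.mem_zpowers y) i)))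
      exact Subtype.ext ((key _ x.2.1 x.2.2).trans (key _ z.2.1 z.2.2).symm)
    have := h.setup.card_inverted h.nc ht htN
    rw [h.cardA, Nat.card_eq_one_iff_unique.mpr ⟨hsub, ⟨⟨1, one_mem _, by
      rw [mul_one, ht, inv_one]⟩⟩⟩] at this
    exact h.prime.ne_one this.symm
  obtain ⟨⟨π, hπD⟩, hπ⟩ := exists_prime_orderOf_dvd_card' p hpD
  rw [Subgroup.orderOf_mk] at hπ
  obtain ⟨hπN, hπt⟩ := (hD π).mp hπD
  have hP : Subgroup.zpowers (φ ⟨π, hπD⟩) = h.P := by
    have ho : orderOf (φ ⟨π, hπD⟩) = p := by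
      rw [orderOf_injective φ hφ, Subgroup.orderOf_mk, hπ]
    exact Subgroup.eq_of_le_of_card_ge
      (Subgroup.zpowers_le.mpr (h.mem_P (by rw [← ho, pow_orderOf_eq_one])))
      (by rw [Nat.card_zpowers, ho, h.P_card])
  have key : ∀ z (hz : z ∈ D), z ^ p = 1 → z ∈ Subgroup.zpowers π := by
    intro z hz hzp
    have hm : φ ⟨z, hz⟩ ∈ h.P := h.mem_P (by
      rw [← map_pow, ← map_one φ]; exact congrArg φ (Subtype.ext hzp))
    rw [← hP] at hm
    obtain ⟨i, hi⟩ := Subgroup.mem_zpowers_iff.mp hm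
    rw [← map_zpow] at hi
    exact ⟨i, congrArg Subtype.val (hφ hi)⟩
  refine ⟨π, hπN, hπ, key _ ((hD _).mpr ⟨hπt, ?_⟩) ?_,
    key _ (mul_mem (mul_mem hyD hπD) (inv_mem hyD)) ?_⟩
  · rwa [show t * (t * π * t) * t = (t * t) * π * (t * t) by group, ht, one_mul, mul_one]
  · rw [show t * π * t = t * π * t⁻¹ by rw [hti], conj_pow, ← hπ, pow_orderOf_eq_one, mul_one,
      mul_inv_cancel]
  · rw [conj_pow, ← hπ, pow_orderOf_eq_one, mul_one, mul_inv_cancel]

theorem kernel_conj {π π' : G} (hπN : π ∈ Subgroup.normalizer (A : Set G)) (hπ : orderOf π = p)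
    (hπ'N : π' ∈ Subgroup.normalizer (A : Set G)) (hπ' : orderOf π' = p)
    (hyπ : y * π * y⁻¹ ∈ Subgroup.zpowers π) (hyπ' : y * π' * y⁻¹ ∈ Subgroup.zpowers π') :
    π' ∈ Subgroup.zpowers π ∨ a * π' * a⁻¹ ∈ Subgroup.zpowers π := by
  classical
  haveI := Fact.mk h.prime
  set N := Subgroup.normalizer (A : Set G)
  let P0 := (act A).rangeRestrict
  have hπp : π ^ p = 1 := hπ ▸ pow_orderOf_eq_one π
  have hπ'p : π' ^ p = 1 := hπ' ▸ pow_orderOf_eq_one π'
  -- elements acting trivially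
  have hfaith : ∀ (g : G) (hg : g ∈ N), g ^ p = 1 → P0 ⟨g, hg⟩ = 1 → g = 1 := fun g hg hgp h1 =>
    h.eq_of_act_eq_one (g := ⟨g, hg⟩) (congrArg Subtype.val h1)
      ((h.prime.odd_of_ne_two h.ne_two).of_dvd_nat (orderOf_dvd_of_pow_eq_one hgp))
  have hfix : ∀ c ∈ A, Commute c π → c = 1 := by
    intro c hc hcπ
    by_contra hc1
    rcases h.setup.hyp.cent_primes (x := c) (Or.inl (h.setup.orderOf_invol hc hc1)) h.prime
      (hπ ▸ Subgroup.orderOf_dvd_natCard _
        (Subgroup.mem_centralizer_singleton_iff.mpr hcπ.eq.symm)) with e | e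
    · exact h.ne_two e
    · exact h.ne e
  -- the same image
  obtain ⟨j, hj⟩ : ∃ j : ℤ, P0 ⟨π, hπN⟩ ^ j = P0 ⟨π', hπ'N⟩ := by
    have e : Subgroup.zpowers (P0 ⟨π, hπN⟩) = h.P := by
      refine Subgroup.eq_of_le_of_card_ge (Subgroup.zpowers_le.mpr (h.mem_P ?_)) ?_
      · rw [← map_pow, ← map_one P0]; exact congrArg P0 (Subtype.ext hπp)
      · rw [Nat.card_zpowers, h.P_card, orderOf_eq_prime
          (by rw [← map_pow, ← map_one P0]; exact congrArg P0 (Subtype.ext hπp))
          (fun e => by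
            have h1 := hfaith π hπN hπp e
            rw [h1, orderOf_one] at hπ
            exact h.prime.ne_one hπ.symm)]
    refine Subgroup.mem_zpowers_iff.mp (e ▸ h.mem_P ?_)
    rw [← map_pow, ← map_one P0]; exact congrArg P0 (Subtype.ext hπ'p)
  set σ := π ^ j with hσ
  have hσN : σ ∈ N := zpow_mem hπN j
  have hσ1 : σ ≠ 1 := by
    intro e
    have h1 : P0 ⟨π', hπ'N⟩ = 1 := by
      rw [← hj, ← map_zpow, ← map_one P0]; exact congrArg P0 (Subtype.ext e)
    have h2 := hfaith π' hπ'N hπ'p h1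
    rw [h2, orderOf_one] at hπ'
    exact h.prime.ne_one hπ'.symm
  have hσfix : ∀ c ∈ A, Commute c σ → c = 1 := by
    intro c hc hcσ
    refine hfix c hc ?_
    have hgen : π ∈ Subgroup.zpowers σ := by
      have e : Subgroup.zpowers σ = Subgroup.zpowers π := Subgroup.eq_of_le_of_card_ge
        (Subgroup.zpowers_le.mpr (zpow_mem (Subgroup.mem_zpowers π) j))
        (by
          rw [Nat.card_zpowers, Nat.card_zpowers, hπ, orderOf_eq_prime (x := σ) (by
            rw [hσ, ← zpow_natCast, ← zpow_mul, mul_comm, zpow_mul, zpow_natCast, hπp, one_zpow]) hσ1])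
      rw [e]; exact Subgroup.mem_zpowers π
    obtain ⟨n, hn⟩ := Subgroup.mem_zpowers_iff.mp hgen
    exact hn ▸ hcσ.zpow_right n
  -- every element of the coset is conjugate to `σ`
  have hd : σ⁻¹ * π' ∈ A := h.self_cent _ (act_eq_one (g := ⟨σ, hσN⟩⁻¹ * ⟨π', hπ'N⟩) |>.mp (by
    rw [map_mul, map_inv, inv_mul_eq_one]
    have := congrArg Subtype.val hj
    rw [← map_zpow] at this
    exact this))
  let τ : A → A := fun c => ⟨σ⁻¹ * c * σ * (c : G)⁻¹, mul_mem (by
    have := (Subgroup.mem_normalizer_iff.mp (inv_mem hσN) _).mp c.2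
    rwa [inv_inv] at this) (inv_mem c.2)⟩
  have hτ : Function.Injective τ := by
    intro c e hce
    have h1 : σ⁻¹ * (c : G) * σ * (c : G)⁻¹ = σ⁻¹ * (e : G) * σ * (e : G)⁻¹ := congrArg Subtype.val hce
    refine Subtype.ext (inv_mul_eq_one.mp (hσfix _ (mul_mem (inv_mem e.2) c.2) ?_)).symm
    show (e : G)⁻¹ * c * σ = σ * ((e : G)⁻¹ * c)
    have h2 : (c : G)⁻¹ * (e : G) = (e : G) * (c : G)⁻¹ := h.setup.comm (inv_mem c.2) e.2
    have h3 := congrArg (fun w => (e : G)⁻¹ * σ * w * c) h1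
    rw [show (e : G)⁻¹ * σ * (σ⁻¹ * c * σ * (c : G)⁻¹) * c = (e : G)⁻¹ * c * σ by group] at h3
    rw [h3, show (e : G)⁻¹ * σ * (σ⁻¹ * e * σ * (e : G)⁻¹) * c = σ * (e : G)⁻¹ * c by group,
      mul_assoc]
  obtain ⟨⟨c, hc⟩, hce⟩ := (Finite.injective_iff_surjective.mp hτ) ⟨_, hd⟩
  have hπ'eq : π' = c * σ * c⁻¹ := by
    have := congrArg Subtype.val hce
    change σ⁻¹ * c * σ * c⁻¹ = σ⁻¹ * π' at this
    rw [show σ⁻¹ * c * σ * c⁻¹ = σ⁻¹ * (c * σ * c⁻¹) by group] at this
    exact (mul_left_cancel this).symm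
  -- `y` fixes `c`
  have hyN := h.y_mem ha ha1 hy hay
  obtain ⟨k, hk⟩ := Subgroup.mem_zpowers_iff.mp hyπ
  obtain ⟨l, hl⟩ := Subgroup.mem_zpowers_iff.mp hyπ'
  have hyσ : y * σ * y⁻¹ = σ ^ k := by
    rw [hσ, ← conj_zpow, ← hk, ← zpow_mul, ← zpow_mul, mul_comm]
  set e := y * c * y⁻¹ with he
  have heA : e ∈ A := (Subgroup.mem_normalizer_iff.mp hyN c).mp hc
  have h1 : e * σ ^ k * e⁻¹ = c * σ ^ l * c⁻¹ :=
    calc e * σ ^ k * e⁻¹ = y * (c * σ * c⁻¹) * y⁻¹ := by rw [he, ← hyσ]; group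
      _ = y * π' * y⁻¹ := by rw [hπ'eq]
      _ = π' ^ l := hl.symm
      _ = c * σ ^ l * c⁻¹ := by rw [hπ'eq, conj_zpow]
  have h2 : σ ^ k = σ ^ l := by
    have hx : P0 ⟨σ ^ k, zpow_mem hσN k⟩ = P0 ⟨σ ^ l, zpow_mem hσN l⟩ := by
      have hA1 : ∀ (b : G) (hb : b ∈ A), P0 ⟨b, Subgroup.le_normalizer hb⟩ = 1 := fun b hb =>
        Subtype.ext (act_eq_one.mpr fun x hx => h.setup.comm hx hb)
      have := congrArg P0 (Subtype.ext h1 :
        (⟨e, Subgroup.le_normalizer heA⟩ * ⟨σ ^ k, zpow_mem hσN k⟩ *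
          ⟨e, Subgroup.le_normalizer heA⟩⁻¹ : N) =
        ⟨c, Subgroup.le_normalizer hc⟩ * ⟨σ ^ l, zpow_mem hσN l⟩ * ⟨c, Subgroup.le_normalizer hc⟩⁻¹)
      rwa [map_mul, map_mul, map_inv, map_mul, map_mul, map_inv, hA1 e heA, hA1 c hc, one_mul,
        inv_one, mul_one, one_mul, mul_one] at this
    have hp : (σ ^ (k - l)) ^ p = 1 := by
      rw [hσ, ← zpow_natCast, ← zpow_mul, ← zpow_mul,
        show j * ((k - l) * (p : ℤ)) = (p : ℤ) * (j * (k - l)) by ring, zpow_mul, zpow_natCast, hπp,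
        one_zpow]
    have h3 := hfaith _ (zpow_mem hσN (k - l)) hp (by
      rw [show (⟨σ ^ (k - l), zpow_mem hσN (k - l)⟩ : N) =
        ⟨σ ^ k, zpow_mem hσN k⟩ * ⟨σ ^ l, zpow_mem hσN l⟩⁻¹ from Subtype.ext (zpow_sub σ k l),
        map_mul, map_inv, hx, mul_inv_cancel])
    rwa [zpow_sub, mul_inv_eq_one] at h3
  have hσk : σ ^ k ≠ 1 := fun e' => hσ1 (by
    rw [← hyσ, conj_eq_one_iff] at e'
    exact e')
  have hcy : e = c := by
    rw [← h2] at h1
    refine (inv_mul_eq_one.mp ?_).symm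
    refine hσfix (c⁻¹ * e) (mul_mem (inv_mem hc) heA) ?_
    have hcomm : Commute (c⁻¹ * e) (σ ^ k) := by
      show c⁻¹ * e * σ ^ k = σ ^ k * (c⁻¹ * e)
      have h3 := congrArg (fun w => c⁻¹ * w * e) h1
      simpa [mul_assoc] using h3
    have hgen : σ ∈ Subgroup.zpowers (σ ^ k) := by
      have hpow : σ ^ p = 1 := by
        rw [hσ, ← zpow_natCast, ← zpow_mul, mul_comm, zpow_mul, zpow_natCast, hπp, one_zpow]
      have e2 : Subgroup.zpowers (σ ^ k) = Subgroup.zpowers σ := Subgroup.eq_of_le_of_card_ge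
        (Subgroup.zpowers_le.mpr (zpow_mem (Subgroup.mem_zpowers σ) k))
        (by rw [Nat.card_zpowers, Nat.card_zpowers, orderOf_eq_prime hpow hσ1,
          orderOf_eq_prime (x := σ ^ k) (by
            rw [← zpow_natCast, ← zpow_mul, mul_comm, zpow_mul, zpow_natCast, hpow, one_zpow]) hσk])
      rw [e2]; exact Subgroup.mem_zpowers σ
    obtain ⟨n, hn⟩ := Subgroup.mem_zpowers_iff.mp hgen
    exact hn ▸ hcomm.zpow_right n
  have hσπ : σ ∈ Subgroup.zpowers π := zpow_mem (Subgroup.mem_zpowers π) j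
  by_cases hc1 : c = 1
  · left
    rw [hπ'eq, hc1, one_mul, inv_one, mul_one]
    exact hσπ
  · right
    have hca := h.fixed_eq ha ha1 hy hay hc hc1 (by
      show c * y = y * c
      rw [he] at hcy
      exact (mul_inv_eq_iff_eq_mul.mp hcy).symm)
    rw [hπ'eq, hca]
    have haa : a⁻¹ = a := inv_eq_of_mul_eq_one_right (h.setup.invol ha)
    rwa [show a * (a * σ * a⁻¹) * a⁻¹ = (a * a) * σ * (a⁻¹ * a⁻¹) by group, haa, h.setup.invol ha,
      one_mul, mul_one]

theorem unique_on_kernel {π t t' : G} (hπ : orderOf π = p) (ht : t * t = 1) (ht1 : t ≠ 1)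
    (ht' : t' * t' = 1) (ht'1 : t' ≠ 1) (hty : Commute t y) (ht'y : Commute t' y)
    (htπ : t * π * t ∈ Subgroup.zpowers π) (ht'π : t' * π * t' ∈ Subgroup.zpowers π) : t = t' := by
  haveI := Fact.mk h.prime
  have hti : t⁻¹ = t := inv_eq_of_mul_eq_one_right ht
  have ht'i : t'⁻¹ = t' := inv_eq_of_mul_eq_one_right ht'
  obtain ⟨i, hi⟩ := Subgroup.mem_zpowers_iff.mp htπ
  obtain ⟨j, hj⟩ := Subgroup.mem_zpowers_iff.mp ht'π
  have hA : ∀ n : ℤ, t * π ^ n * t = π ^ (i * n) := fun n => by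
    calc t * π ^ n * t = t * π ^ n * t⁻¹ := by rw [hti]
      _ = (t * π * t⁻¹) ^ n := (conj_zpow).symm
      _ = π ^ (i * n) := by rw [hti, ← hi, zpow_mul]
  have hB : ∀ n : ℤ, t' * π ^ n * t' = π ^ (j * n) := fun n => by
    calc t' * π ^ n * t' = t' * π ^ n * t'⁻¹ := by rw [ht'i]
      _ = (t' * π * t'⁻¹) ^ n := (conj_zpow).symm
      _ = π ^ (j * n) := by rw [ht'i, ← hj, zpow_mul]
  set q := t * t' * t * t' with hq
  have hii : π ^ (i * i) = π := by
    rw [← hA, hi, show t * (t * π * t) * t = t * t * π * (t * t) by group, ht, one_mul, mul_one]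
  have hjj : π ^ (j * j) = π := by
    rw [← hB, hj, show t' * (t' * π * t') * t' = t' * t' * π * (t' * t') by group, ht', one_mul, mul_one]
  have hqπ : Commute q π := by
    show q * π = π * q
    have e : q * π * q⁻¹ = π := by
      rw [hq, show t * t' * t * t' * π * (t * t' * t * t')⁻¹ =
        t * (t' * (t * (t' * π * t'⁻¹) * t⁻¹) * t'⁻¹) * t⁻¹ by group, hti, ht'i, ← hj, hA, hB, hA,
        show i * (j * (i * j)) = i * i * (j * j) by ring, zpow_mul, hii, hjj]
    exact mul_inv_eq_iff_eq_mul.mp e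
  have hqy : Commute q y := ((hty.mul_left ht'y).mul_left hty).mul_left ht'y
  have hq1 : q = 1 := by
    by_contra hq1
    obtain ⟨s, hs, hsd⟩ := Nat.exists_prime_and_dvd (fun e => hq1 (orderOf_eq_one_iff.mp e))
    have h1 := h.setup.hyp.cent_primes (Or.inr hy) hs (hsd.trans (Subgroup.orderOf_dvd_natCard _
      (Subgroup.mem_centralizer_singleton_iff.mpr hqy.eq)))
    have h2 := h.setup.hyp.cent_pgroup hπ h.prime h.ne_two h.ne
    obtain ⟨k, hk⟩ := IsPGroup.iff_card.mp h2
    have h3 := hsd.trans (Subgroup.orderOf_dvd_natCard _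
      (Subgroup.mem_centralizer_singleton_iff.mpr hqπ.eq))
    rw [hk] at h3
    have h4 := (Nat.prime_dvd_prime_iff_eq hs h.prime).mp (hs.dvd_of_dvd_pow h3)
    rcases h1 with e | e
    · exact h.ne_two (h4 ▸ e)
    · exact h.ne (h4 ▸ e)
  refine h.invol_unique ha ha1 hy hay ht ht1 ht' ht'1 hty ht'y ?_
  show t * t' = t' * t
  have h1 : t * t' = (t * t')⁻¹ := eq_inv_of_mul_eq_one_left (by rw [← mul_assoc]; exact hq1)
  rwa [mul_inv_rev, hti, ht'i] at h1

/-- `C(y)` has at most three involutions. -/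
theorem card_invol_le : Nat.card {b : G // orderOf b = 2 ∧ Commute b y} ≤ 3 := by
  classical
  have hmul : ∀ b : G, orderOf b = 2 → b * b = 1 := fun b hb => by rw [← sq, ← hb, pow_orderOf_eq_one]
  have hne1 : ∀ b : G, orderOf b = 2 → b ≠ 1 := fun b hb e => by rw [e, orderOf_one] at hb; omega
  set N := Subgroup.normalizer (A : Set G)
  let T := {b : G // orderOf b = 2 ∧ Commute b y}
  have hout : ∀ b : T, b.1 ≠ a → b.1 ∉ N := fun b hb hN => hb (h.invol_N ha ha1 hy hay b.2.1 hN b.2.2)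
  haveI := Fintype.ofFinite T
  by_cases hex : ∃ b : T, b.1 ≠ a
  swap
  · push Not at hex
    haveI : Subsingleton T := ⟨fun x z => Subtype.ext ((hex x).trans (hex z).symm)⟩
    exact (Finite.card_le_one_iff_subsingleton.mpr inferInstance).trans (by norm_num)
  obtain ⟨b₀, hb₀⟩ := hex
  obtain ⟨π₀, hπ₀N, hπ₀, -, hyπ₀⟩ :=
    h.exists_kernel_element ha ha1 hy hay (hmul _ b₀.2.1) b₀.2.2 (hout b₀ hb₀)
  choose π hπN hπ htπ hyπ using fun (b : T) (hb : b.1 ≠ a) =>
    h.exists_kernel_element ha ha1 hy hay (hmul _ b.2.1) b.2.2 (hout b hb)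
  let f : T → Option Bool := fun b =>
    if hb : b.1 = a then none else some (decide (π b hb ∈ Subgroup.zpowers π₀))
  have hf : Function.Injective f := by
    have hgen : ∀ x z : G, orderOf x = p → orderOf z = p → x ∈ Subgroup.zpowers z →
        Subgroup.zpowers x = Subgroup.zpowers z := fun x z hx hz hxz =>
      Subgroup.eq_of_le_of_card_ge (Subgroup.zpowers_le.mpr hxz)
        (by rw [Nat.card_zpowers, Nat.card_zpowers, hx, hz])
    intro b c hbc
    simp only [f] at hbc
    split_ifs at hbc with hb hc hc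
    · exact Subtype.ext (hb.trans hc.symm)
    · simp only [Option.some.injEq, decide_eq_decide] at hbc
      have heq : Subgroup.zpowers (π b hb) = Subgroup.zpowers (π c hc) := by
        by_cases hm : π b hb ∈ Subgroup.zpowers π₀
        · rw [hgen _ _ (hπ b hb) hπ₀ hm, hgen _ _ (hπ c hc) hπ₀ (hbc.mp hm)]
        · have h1 := (h.kernel_conj ha ha1 hy hay hπ₀N hπ₀ (hπN b hb) (hπ b hb) hyπ₀
            (hyπ b hb)).resolve_left hm
          have h2 := (h.kernel_conj ha ha1 hy hay hπ₀N hπ₀ (hπN c hc) (hπ c hc) hyπ₀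
            (hyπ c hc)).resolve_left fun hm' => hm (hbc.mpr hm')
          have ho : ∀ x : G, orderOf x = p → orderOf (a * x * a⁻¹) = p := fun x hx =>
            ((SemiconjBy.conj_mk a x).orderOf_eq).symm.trans hx
          have e1 := (hgen _ _ (ho _ (hπ b hb)) hπ₀ h1).trans
            (hgen _ _ (ho _ (hπ c hc)) hπ₀ h2).symm
          have hm1 : a * π b hb * a⁻¹ ∈ Subgroup.zpowers (a * π c hc * a⁻¹) :=
            e1 ▸ Subgroup.mem_zpowers _
          obtain ⟨n, hn⟩ := Subgroup.mem_zpowers_iff.mp hm1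
          rw [conj_zpow] at hn
          exact hgen _ _ (hπ b hb) (hπ c hc) ⟨n, mul_left_cancel (mul_right_cancel hn)⟩
      refine Subtype.ext (h.unique_on_kernel ha ha1 hy hay (hπ b hb) (hmul _ b.2.1) (hne1 _ b.2.1)
        (hmul _ c.2.1) (hne1 _ c.2.1) b.2.2 c.2.2 (htπ b hb) ?_)
      have hmem : π b hb ∈ Subgroup.zpowers (π c hc) := heq ▸ Subgroup.mem_zpowers _
      rw [heq]
      obtain ⟨n, hn⟩ := Subgroup.mem_zpowers_iff.mp hmem
      have hci : c.1⁻¹ = c.1 := inv_eq_of_mul_eq_one_right (hmul _ c.2.1)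
      rw [← hn, show c.1 * π c hc ^ n * c.1 = c.1 * π c hc ^ n * c.1⁻¹ by rw [hci], ← conj_zpow, hci]
      exact zpow_mem (htπ c hc) n
  refine (Nat.card_le_card_of_injective f hf).trans ?_
  simp

end

end Frob

end CfsgLib.OneComposite
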