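import Mathlib
import Cfsg.Agent.Lib.OneComposite.FrobCent
import Cfsg.Agent.Lib.Transfer.Focal
import Cfsg.Agent.Lib.Transfer.Thompson

/-!
The Frobenius case is impossible: the element of order `r` is not in the derived group.
-/

set_option autoImplicit false
set_option linter.style.haveILetI false
set_option linter.unusedSectionVars false

namespace CfsgLib.OneComposite

variable {G : Type*} [Group G] [Finite G] {r p : ℕ} {A : Subgroup G}

open scoped commutatorElement in
theorem commutator_top [IsSimpleGroup G] (hnc : ∃ a b : G, a * b ≠ b * a) : commutator G = ⊤ := by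
  refine ((inferInstance : (commutator G).Normal).eq_bot_or_eq_top).resolve_left fun e => ?_
  obtain ⟨a, b, hab⟩ := hnc
  have h : ⁅a, b⁆ ∈ commutator G := by
    rw [commutator_eq_closure]
    exact Subgroup.subset_closure ⟨a, b, rfl⟩
  rw [e, Subgroup.mem_bot, commutatorElement_eq_one_iff_mul_comm] at h
  exact hab h

/-- An element of order `r` whose conjugates in a Sylow subgroup agree modulo its derived group. -/
theorem false_of_conj_eq [IsSimpleGroup G] (hnc : ∃ a b : G, a * b ≠ b * a) [Fact r.Prime]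
    (R : Sylow r G) {y : G} (hy : orderOf y = r) (hyR : y ∈ (R : Subgroup G))
    (hy' : (⟨y, hyR⟩ : (R : Subgroup G)) ∉ commutator (R : Subgroup G))
    (key : ∀ (g : G) (h : g⁻¹ * y * g ∈ (R : Subgroup G)),
      (Abelianization.of (⟨_, h⟩ : (R : Subgroup G))) = Abelianization.of ⟨y, hyR⟩) : False := by
  refine Transfer.notMem_commutator_of_controlled (p := r) (Abelianization.of (G := (R : Subgroup G)))
    (g := y) hyR ⟨1, by rw [pow_one, ← hy, pow_orderOf_eq_one]⟩ (fun e => hy' ?_)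
    ((Fact.out : r.Prime).coprime_iff_not_dvd.mpr R.not_dvd_index) (fun k a h => ?_)
    (commutator_top hnc ▸ Subgroup.mem_top y)
  · rwa [← MonoidHom.mem_ker, Abelianization.ker_of] at e
  by_cases hk : r ∣ k
  · obtain ⟨c, rfl⟩ := hk
    have h1 : (⟨_, h⟩ : (R : Subgroup G)) = 1 := Subtype.ext (by
      show a⁻¹ * y ^ (r * c) * a = 1
      rw [pow_mul, ← hy, pow_orderOf_eq_one, one_pow, mul_one, inv_mul_cancel])
    have h2 : (⟨y, hyR⟩ : (R : Subgroup G)) ^ (r * c) = 1 := Subtype.ext (by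
      show y ^ (r * c) = 1
      rw [pow_mul, ← hy, pow_orderOf_eq_one, one_pow])
    rw [h1, ← map_pow, h2]
  · obtain ⟨m, hm⟩ := exists_pow_eq_self_of_coprime (x := y) (n := k)
      (by rw [hy]; exact ((Fact.out : r.Prime).coprime_iff_not_dvd.mpr hk).symm)
    have hc : ∀ (z : G) (n : ℕ), (a⁻¹ * z * a) ^ n = a⁻¹ * z ^ n * a := fun z n => by
      conv_lhs => rw [show a⁻¹ * z * a = a⁻¹ * z * a⁻¹⁻¹ by rw [inv_inv]]
      rw [conj_pow, inv_inv]
    have h1 : a⁻¹ * y * a ∈ (R : Subgroup G) := by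
      rw [← hm, ← hc]
      exact pow_mem h m
    have h2 : (⟨_, h⟩ : (R : Subgroup G)) = ⟨_, h1⟩ ^ k := Subtype.ext (hc y k).symm
    rw [h2, map_pow, key a h1]

theorem three_not_dvd (R1 : Subgroup G) [Fact (Nat.Prime 3)] (R : Sylow 3 G) (hRR1 : (R : Subgroup G) = R1)
    [MulAction (Subgroup.normalizer ((R : Subgroup G) : Set G)) R1]
    (hact : ∀ (u : Subgroup.normalizer ((R : Subgroup G) : Set G)) (x : R1),
      ((u • x : R1) : G) = u * (x : G) * (u : G)⁻¹)
    {y : G} (hyR1 : y ∈ R1) [IsMulCommutative R1]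
    (hcard : Nat.card (MulAction.orbit (Subgroup.normalizer ((R : Subgroup G) : Set G))
      (⟨y, hyR1⟩ : R1)) = 3) : False := by
  have hle : (R : Subgroup G).subgroupOf (Subgroup.normalizer ((R : Subgroup G) : Set G)) ≤ MulAction.stabilizer (Subgroup.normalizer ((R : Subgroup G) : Set G)) (⟨y, hyR1⟩ : R1) := by
    intro v hv
    refine MulAction.mem_stabilizer_iff.mpr (Subtype.ext ?_)
    rw [hact]
    have hc := congrArg Subtype.val
      (mul_comm' (⟨(v : G), hRR1 ▸ (Subgroup.mem_subgroupOf.mp hv)⟩ : R1) ⟨y, hyR1⟩)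
    show (v : G) * y * (v : G)⁻¹ = y
    rw [show (v : G) * y = y * (v : G) from hc, mul_inv_cancel_right]
  have h1 : (MulAction.stabilizer (Subgroup.normalizer ((R : Subgroup G) : Set G)) (⟨y, hyR1⟩ : R1)).index = 3 := by
    rw [MulAction.index_stabilizer, ← Nat.card_coe_set_eq, hcard]
  have h2 := Subgroup.index_dvd_of_le hle
  rw [h1] at h2
  exact R.not_dvd_index (h2.trans (Subgroup.relIndex_dvd_index_of_le Subgroup.le_normalizer))


namespace Frob

variable (h : Frob G r p A) [IsSimpleGroup G]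
include h

/-- An element commuting with `a` and of order `r` is conjugate in `C(a)` to a power of `y`. -/
theorem conj_pow_in_cent {a y u : G} (ha : a ∈ A) (ha1 : a ≠ 1) (hy : orderOf y = r)
    (hay : Commute a y) (hK : Nat.card (Subgroup.centralizer ({a} : Set G)) ∣ Nat.card A * r)
    (hu : orderOf u = r) (hau : Commute a u) :
    ∃ g : G, Commute g a ∧ g * u * g⁻¹ ∈ Subgroup.zpowers y := by
  haveI := Fact.mk h.rprime
  set C := Subgroup.centralizer ({a} : Set G)
  let y' : C := ⟨y, Subgroup.mem_centralizer_singleton_iff.mpr hay.eq.symm⟩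
  let u' : C := ⟨u, Subgroup.mem_centralizer_singleton_iff.mpr hau.eq.symm⟩
  have hnd : ¬ r ∣ (Subgroup.zpowers y').index := by
    intro hd
    have h1 := (Subgroup.zpowers y').card_mul_index
    rw [Nat.card_zpowers, Subgroup.orderOf_mk, hy] at h1
    have h2 : r * r ∣ Nat.card A * r := (h1 ▸ Nat.mul_dvd_mul_left r hd).trans hK
    have h3 : r ∣ Nat.card A := Nat.dvd_of_mul_dvd_mul_right h.rprime.pos h2
    obtain ⟨n, hn⟩ := IsPGroup.iff_card.mp h.setup.two
    rw [hn] at h3
    exact h.setup.hyp.ne_two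
      ((Nat.prime_dvd_prime_iff_eq h.rprime Nat.prime_two).mp (h.rprime.dvd_of_dvd_pow h3))
  let T : Sylow r C := (Transfer.isPGroup_zpowers (x := y') ⟨1, by
    rw [pow_one, Subgroup.orderOf_mk, hy]⟩).toSylow hnd
  obtain ⟨T', hT'⟩ := (Transfer.isPGroup_zpowers (x := u') ⟨1, by
    rw [pow_one, Subgroup.orderOf_mk, hu]⟩ : IsPGroup r (Subgroup.zpowers u')).exists_le_sylow
  obtain ⟨g, hg⟩ := MulAction.exists_smul_eq C T' T
  refine ⟨g, Subgroup.mem_centralizer_singleton_iff.mp g.2, ?_⟩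
  have hmem : g * u' * g⁻¹ ∈ (T : Subgroup C) := by
    rw [← hg, Sylow.coe_subgroup_smul, Subgroup.pointwise_smul_def]
    exact ⟨u', hT' (Subgroup.mem_zpowers _), rfl⟩
  obtain ⟨i, hi⟩ := Subgroup.mem_zpowers_iff.mp hmem
  exact ⟨i, congrArg Subtype.val hi⟩

open scoped IsMulCommutative in
theorem frob_false (hstab : haveI := h.setup.isMulCommutative
    ∀ v : A, v ≠ 1 → Nat.card (MulAction.stabilizer (act A).range v) = r) : False := by
  classical
  haveI := h.setup.isMulCommutative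
  haveI : Fact (Nat.Prime 2) := ⟨Nat.prime_two⟩
  haveI := Fact.mk h.rprime
  obtain ⟨a, ha, ha1⟩ := h.setup.exists_ne
  have h2a : orderOf a = 2 := h.setup.orderOf_invol ha ha1
  have hai : a⁻¹ = a := inv_eq_of_mul_eq_one_right (h.setup.invol ha)
  let va : A := ⟨a, ha⟩
  have hva : va ≠ 1 := fun e => ha1 (congrArg Subtype.val e)
  -- `y`
  obtain ⟨y, hy, hay⟩ : ∃ y : G, orderOf y = r ∧ Commute a y := by
    obtain ⟨f, hf⟩ := exists_prime_orderOf_dvd_card' r (hstab va hva).symm.dvd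
    have hf1 : (f : (act A).range) ≠ 1 := fun e => by
      rw [← Subgroup.orderOf_coe, e, orderOf_one] at hf
      exact h.rprime.ne_one hf.symm
    obtain ⟨g, hgo, -, hg⟩ := h.setup.exists_lift hf1
    refine ⟨g, by rw [hgo, Subgroup.orderOf_coe, hf], ?_⟩
    have h1 : act A g va = va := by rw [hg]; exact f.2
    have h2 := congrArg Subtype.val h1
    rw [act_apply, mul_inv_eq_iff_eq_mul] at h2
    exact h2.symm
  -- the centraliser of `a`
  have hCa : Nat.card (Subgroup.centralizer ({a} : Set G)) ∣ Nat.card A * r := by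
    set C := Subgroup.centralizer ({a} : Set G)
    let φ : C →* (act A).range :=
      (act A).rangeRestrict.comp (Subgroup.inclusion (h.cent_le ha ha1))
    have hker : φ.ker ≤ A.subgroupOf C := fun g hg =>
      h.self_cent _ (act_eq_one.mp (congrArg Subtype.val (MonoidHom.mem_ker.mp hg)))
    have hrange : φ.range ≤ MulAction.stabilizer (act A).range va := by
      rintro _ ⟨g, rfl⟩
      refine MulAction.mem_stabilizer_iff.mpr (Subtype.ext ?_)
      show (g : G) * a * (g : G)⁻¹ = a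
      rw [Subgroup.mem_centralizer_singleton_iff.mp g.2, mul_inv_cancel_right]
    rw [← φ.ker.card_mul_index, Subgroup.index_ker]
    refine Nat.mul_dvd_mul ?_ (hstab va hva ▸ Subgroup.card_dvd_of_le hrange)
    exact (Subgroup.card_dvd_of_le hker).trans
      (Subgroup.card_comap_dvd_of_injective A C.subtype C.subtype_injective)
  have hCa_pow : ∀ u : G, orderOf u = r → Commute a u →
      ∃ g : G, g * u * g⁻¹ ∈ Subgroup.zpowers y :=
    fun u hu hau => (h.conj_pow_in_cent ha ha1 hy hay hCa hu hau).imp fun _ hg => hg.2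
  obtain ⟨R1, hR1le, hR1p, hR1card, hR1odd, hR1n⟩ := h.exists_complement ha ha1 hy hay
  have hyR1 : y ∈ R1 := hR1odd y (Subgroup.mem_centralizer_singleton_iff.mpr rfl) (hy ▸ h.rodd)
  have haK : a ∈ Subgroup.centralizer ({y} : Set G) :=
    Subgroup.mem_centralizer_singleton_iff.mpr hay.eq
  have hR1comm : ∀ x ∈ R1, Commute x y := fun x hx =>
    Subgroup.mem_centralizer_singleton_iff.mp (hR1le hx)
  -- conjugates of `y` among the powers of `y`
  have hpow : ∀ g : G, g * y * g⁻¹ ∈ Subgroup.zpowers y → g * y * g⁻¹ = y := by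
    intro g hg
    obtain ⟨i, hi⟩ := Subgroup.mem_zpowers_iff.mp hg
    have hb : Commute (g * a * g⁻¹) y := by
      have h1 : Commute (g * a * g⁻¹) (g * y * g⁻¹) := hay.map (MulAut.conj g).toMonoidHom
      obtain ⟨n, hn⟩ : ∃ n : ℤ, (g * y * g⁻¹) ^ n = y := by
        have e : Subgroup.zpowers (g * y * g⁻¹) = Subgroup.zpowers y :=
          Subgroup.eq_of_le_of_card_ge (Subgroup.zpowers_le.mpr hg)
            (by rw [Nat.card_zpowers, Nat.card_zpowers, ← (SemiconjBy.conj_mk g y).orderOf_eq])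
        exact Subgroup.mem_zpowers_iff.mp (e ▸ Subgroup.mem_zpowers y)
      exact hn ▸ h1.zpow_right n
    obtain ⟨c, hc, hce⟩ := h.exists_conj_invol ha ha1 hy hay
      (by rw [← h2a]; exact ((SemiconjBy.conj_mk g a).orderOf_eq).symm) hb
    set u := c⁻¹ * g with hu
    have hua : u * a * u⁻¹ = a := by
      have h3 := congrArg (fun e => c⁻¹ * e * c) hce
      rw [hu]
      simp [mul_assoc] at h3 ⊢
      exact h3.symm
    have huy : u * y * u⁻¹ = g * y * g⁻¹ := by
      rw [hu, show c⁻¹ * g * y * (c⁻¹ * g)⁻¹ = c⁻¹ * (g * y * g⁻¹) * c by group, ← hi,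
        mul_assoc, ← (hc.zpow_right i).eq, inv_mul_cancel_left]
    have huN : u ∈ Subgroup.normalizer (A : Set G) :=
      h.cent_le ha ha1 (Subgroup.mem_centralizer_singleton_iff.mpr (mul_inv_eq_iff_eq_mul.mp hua))
    let fu : (act A).range := ⟨act A ⟨u, huN⟩, ⟨_, rfl⟩⟩
    set f := h.fy ha ha1 hy hay
    haveI := h.P_normal
    have e1 : fu * f * fu⁻¹ = f ^ i := Subtype.ext (by
      show act A ⟨u, huN⟩ * act A ⟨y, _⟩ * (act A ⟨u, huN⟩)⁻¹ = act A ⟨y, _⟩ ^ i
      rw [← map_inv, ← map_mul, ← map_mul, ← map_zpow]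
      exact congrArg _ (Subtype.ext (huy.trans hi.symm)))
    have hfr : f ^ r = 1 := by rw [← h.fy_order ha ha1 hy hay, pow_orderOf_eq_one]
    have hq : Nat.card ((act A).range ⧸ h.P) = r := by
      have := h.P.card_mul_index
      rw [h.P_card, h.cardF] at this
      exact Nat.eq_of_mul_eq_mul_left h.prime.pos this
    haveI : IsCyclic ((act A).range ⧸ h.P) := isCyclic_of_prime_card hq
    have hmem : f ^ i * f⁻¹ ∈ h.P := by
      rw [← QuotientGroup.eq_one_iff, ← e1]
      letI := IsCyclic.commGroup (α := (act A).range ⧸ h.P)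
      simp only [QuotientGroup.mk_mul, QuotientGroup.mk_inv]
      rw [mul_inv_cancel_comm, mul_inv_cancel]
    have h1 : f ^ i * f⁻¹ = 1 := h.eq_one_of_pow (h.pow_of_mem_P hmem) (by
      rw [← zpow_sub_one, ← zpow_natCast, ← zpow_mul, mul_comm, zpow_mul, zpow_natCast, hfr, one_zpow])
    rw [← zpow_sub_one] at h1
    have h2 : (orderOf f : ℤ) ∣ i - 1 := orderOf_dvd_iff_zpow_eq_one.mpr h1
    rw [h.fy_order ha ha1 hy hay, ← hy] at h2
    have h3 := orderOf_dvd_iff_zpow_eq_one.mp h2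
    rw [zpow_sub_one, mul_inv_eq_one, hi] at h3
    exact h3
  have hy1 : y ≠ 1 := fun e => by rw [e, orderOf_one] at hy; exact h.rprime.ne_one hy.symm
  obtain ⟨R, hR⟩ := hR1p.exists_le_sylow
  have hyR : y ∈ (R : Subgroup G) := hR hyR1
  have hRK : ∀ x ∈ (R : Subgroup G), Commute x y → x ∈ R1 := fun x hx hxy => by
    refine hR1odd x (Subgroup.mem_centralizer_singleton_iff.mpr hxy.eq) ?_
    obtain ⟨k, hk⟩ := R.2 ⟨x, hx⟩
    exact (h.rodd.pow).of_dvd_nat (orderOf_dvd_of_pow_eq_one (congrArg Subtype.val hk))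
  haveI : Group.IsNilpotent (R : Subgroup G) := R.2.isNilpotent
  have hinv := h.card_invol_le ha ha1 hy hay
  have hcent := h.card_cent_eq ha ha1 hy hay
  rw [hR1card] at hcent
  have hR1r : Nat.card R1 = Nat.card {b : G // orderOf b = 2 ∧ Commute b y} * r :=
    Nat.eq_of_mul_eq_mul_right two_pos (by rw [hcent]; ring)
  obtain ⟨k, hk⟩ := IsPGroup.iff_card.mp hR1p
  have hcases : Nat.card R1 = r ∨ (r = 3 ∧ Nat.card R1 = 9) := by
    set n := Nat.card {b : G // orderOf b = 2 ∧ Commute b y}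
    have hn : n ∣ r ^ k := hk ▸ hR1r ▸ dvd_mul_right n r
    obtain ⟨j, -, hj⟩ := (Nat.dvd_prime_pow h.rprime).mp hn
    rcases j with _ | _ | j
    · left; rw [hR1r, hj, pow_zero, one_mul]
    · right
      rw [zero_add, pow_one] at hj
      have h3 : r = 3 := by
        have := h.rprime.two_le
        have := h.setup.hyp.ne_two
        omega
      exact ⟨h3, by rw [hR1r, hj, h3]⟩
    · exfalso
      have h3 : 3 ≤ r := by
        have := h.rprime.two_le
        have := h.setup.hyp.ne_two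
        omega
      have : r * r ≤ r ^ (j + 1 + 1) := by
        rw [← sq]; exact Nat.pow_le_pow_right h.rprime.pos (by omega)
      nlinarith
  rcases hcases with hc1 | ⟨rfl, hc9⟩
  · -- `⟨y⟩` is a Sylow subgroup
    have hR1 : R1 = Subgroup.zpowers y := (Subgroup.eq_of_le_of_card_ge
      (Subgroup.zpowers_le.mpr hyR1) (by rw [Nat.card_zpowers, hy, hc1])).symm
    have hRy : (R : Subgroup G) = Subgroup.zpowers y := by
      refine le_antisymm ?_ (Subgroup.zpowers_le.mpr hyR)
      by_contra hle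
      obtain ⟨u, hu, huX⟩ := SetLike.exists_of_lt (Group.normalizerCondition_of_isNilpotent
        ((Subgroup.zpowers y).subgroupOf (R : Subgroup G))
        (lt_top_iff_ne_top.mpr fun e => hle (Subgroup.subgroupOf_eq_top.mp e)))
      refine huX (show (u : G) ∈ Subgroup.zpowers y from hR1 ▸ hRK u u.2 ?_)
      have := hpow u ((Subgroup.mem_normalizer_iff.mp hu ⟨y, hyR⟩).mp (Subgroup.mem_zpowers y))
      exact mul_inv_eq_iff_eq_mul.mp this
    refine false_of_conj_eq h.nc R hy hyR (fun hmem => hy1 ?_) fun g hg => ?_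
    · haveI : IsMulCommutative (R : Subgroup G) := .of_comm fun u w => Subtype.ext (by
        obtain ⟨i, hi⟩ := Subgroup.mem_zpowers_iff.mp (hRy.le u.2)
        obtain ⟨j, hj⟩ := Subgroup.mem_zpowers_iff.mp (hRy.le w.2)
        show (u : G) * w = w * u
        rw [← hi, ← hj, ← zpow_add, ← zpow_add, add_comm])
      rw [commutator_def, Subgroup.commutator_eq_bot_iff_le_centralizer.mpr
        (fun u _ w _ => mul_comm' w u), Subgroup.mem_bot] at hmem
      exact congrArg Subtype.val hmem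
    · have := hpow g⁻¹ (by rw [inv_inv]; exact hRy ▸ hg)
      rw [inv_inv] at this
      exact congrArg _ (Subtype.ext this)
  -- `r = 3`
  have h9 : ∀ x ∈ R1, x ^ 3 = 1 := fun x hx =>
    h.setup.hyp.pow_eq_one_of_pgroup h.rprime hR1p hx
  haveI : IsMulCommutative R1 := IsPGroup.isMulCommutative_of_card_eq_prime_sq (p := 3) (by rw [hc9]; norm_num)
  obtain ⟨s, hsR1, hs, has⟩ : ∃ s ∈ R1, s ∉ Subgroup.zpowers y ∧ a * s * a = s⁻¹ := by
    obtain ⟨c, hc, hcy⟩ : ∃ c ∈ R1, c ∉ Subgroup.zpowers y := by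
      by_contra hcon
      push Not at hcon
      have := Subgroup.card_le_of_le (show R1 ≤ Subgroup.zpowers y from hcon)
      rw [Nat.card_zpowers, hy, hc9] at this
      omega
    have hac : a * c * a ∈ R1 := by
      have := hR1n a haK c hc
      rwa [hai] at this
    refine ⟨a * c * a * c⁻¹, mul_mem hac (inv_mem hc), fun hmem => ?_, ?_⟩
    · obtain ⟨i, hi⟩ := Subgroup.mem_zpowers_iff.mp hmem
      have hsa : a * (a * c * a * c⁻¹) * a = (a * c * a * c⁻¹)⁻¹ := by
        simp only [mul_inv_rev, inv_inv, hai, ← mul_assoc, h.setup.invol ha, one_mul]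
      rw [← hi, (hay.zpow_right i).eq, mul_assoc, h.setup.invol ha, mul_one,
        eq_inv_iff_mul_eq_one, ← sq] at hsa
      have hy3 : y ^ i = 1 := orderOf_eq_one_iff.mp (Nat.eq_one_of_dvd_coprimes
        (Nat.coprime_two_left.mpr h.rodd) (orderOf_dvd_of_pow_eq_one hsa)
        (hy ▸ orderOf_dvd_of_mem_zpowers (Subgroup.zpow_mem _ (Subgroup.mem_zpowers y) i)))
      rw [hy3, eq_comm, mul_inv_eq_one] at hi
      have hca : Commute c a := by
        show c * a = a * c
        conv_lhs => rw [← hi]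
        rw [mul_assoc (a * c), h.setup.invol ha, mul_one]
      obtain ⟨n, hn | hn⟩ := h.cent_N ha ha1 hy hay
        (h.cent_le ha ha1 (Subgroup.mem_centralizer_singleton_iff.mpr hca.eq)) (hR1comm c hc)
      · exact hcy (hn ▸ pow_mem (Subgroup.mem_zpowers y) n)
      · have haR : a ∈ R1 := by
          have e : a = c * (y ^ n)⁻¹ := by rw [hn, mul_inv_cancel_right]
          rw [e]; exact mul_mem hc (inv_mem (pow_mem hyR1 n))
        have := orderOf_dvd_of_pow_eq_one (h9 a haR)
        rw [h2a] at this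
        omega
    · simp only [mul_inv_rev, inv_inv, hai, ← mul_assoc, h.setup.invol ha, one_mul]
  have hcomm1 : ∀ x ∈ R1, ∀ z ∈ R1, Commute x z := fun x hx z hz =>
    congrArg Subtype.val (mul_comm' (⟨x, hx⟩ : R1) ⟨z, hz⟩)
  have hsy : Commute y s := hcomm1 y hyR1 s hsR1
  have hs1 : s ≠ 1 := fun e => hs (e ▸ one_mem _)
  have hs3 : s ^ 3 = 1 := h9 s hsR1
  have hy3 : y ^ 3 = 1 := h9 y hyR1
  have hso : orderOf s = 3 := orderOf_eq_prime hs3 hs1
  have hsns : ∀ g : G, g⁻¹ * s * g ∉ Subgroup.zpowers y := by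
    intro g hg
    obtain ⟨i, hi⟩ := Subgroup.mem_zpowers_iff.mp hg
    -- an inverting involution would invert `y`
    have e : (g⁻¹ * a * g) * y ^ i * (g⁻¹ * a * g) = y ^ (-i) := by
      rw [zpow_neg, hi, show g⁻¹ * a * g * (g⁻¹ * s * g) * (g⁻¹ * a * g) =
        g⁻¹ * (a * s * a) * g by group, has]
      group
    obtain ⟨m, hm⟩ : ∃ m : ℤ, (y ^ i) ^ m = y := by
      have e2 : Subgroup.zpowers (y ^ i) = Subgroup.zpowers y := by
        refine Subgroup.eq_of_le_of_card_ge (Subgroup.zpowers_le.mpr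
          (zpow_mem (Subgroup.mem_zpowers y) i)) ?_
        rw [Nat.card_zpowers, Nat.card_zpowers, hy, hi, orderOf_eq_prime (x := g⁻¹ * s * g) (p := 3)
          (by rw [show g⁻¹ * s * g = g⁻¹ * s * g⁻¹⁻¹ by rw [inv_inv], conj_pow, hs3]; group)
          (fun e => hs1 (by
            rw [show g⁻¹ * s * g = g⁻¹ * s * g⁻¹⁻¹ by rw [inv_inv], conj_eq_one_iff] at e
            exact e))]
      exact Subgroup.mem_zpowers_iff.mp (e2 ▸ Subgroup.mem_zpowers y)
    set b := g⁻¹ * a * g
    have hbi : b⁻¹ = b := inv_eq_of_mul_eq_one_right (by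
      show g⁻¹ * a * g * (g⁻¹ * a * g) = 1
      rw [show g⁻¹ * a * g * (g⁻¹ * a * g) = g⁻¹ * (a * a) * g by group, h.setup.invol ha]
      group)
    have hby : b * y * b⁻¹ = y⁻¹ := by
      conv_lhs => rw [← hm, ← conj_zpow, hbi, e, ← zpow_mul, show -i * m = -(i * m) by ring, zpow_neg, zpow_mul, hm]
    have := hpow b (hby ▸ inv_mem (Subgroup.mem_zpowers y))
    rw [hby, eq_comm, eq_inv_iff_mul_eq_one] at this
    have := orderOf_dvd_of_pow_eq_one (by rwa [sq] : y ^ 2 = 1)
    rw [hy] at this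
    omega
  -- the nine elements
  have helem : ∀ x ∈ R1, ∃ i j : Fin 3, x = y ^ (i : ℕ) * s ^ (j : ℕ) := by
    let F : Fin 3 × Fin 3 → R1 := fun q => ⟨y ^ (q.1 : ℕ) * s ^ (q.2 : ℕ),
      mul_mem (pow_mem hyR1 _) (pow_mem hsR1 _)⟩
    have hF : Function.Injective F := by
      rintro ⟨i, j⟩ ⟨i', j'⟩ e
      have e' : y ^ (i : ℕ) * s ^ (j : ℕ) = y ^ (i' : ℕ) * s ^ (j' : ℕ) := congrArg Subtype.val e
      rw [← zpow_natCast, ← zpow_natCast, ← zpow_natCast, ← zpow_natCast,
        ← eq_inv_mul_iff_mul_eq, ← mul_assoc, ← zpow_neg, ← zpow_add, ← mul_inv_eq_iff_eq_mul,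
        ← zpow_neg, ← zpow_add] at e'
      have hj : (3 : ℤ) ∣ ((j : ℕ) : ℤ) + -((j' : ℕ) : ℤ) := by
        by_contra hnd
        refine hs ?_
        obtain ⟨m, n, hmn⟩ : IsCoprime (3 : ℤ) (((j : ℕ) : ℤ) + -((j' : ℕ) : ℤ)) :=
          (Int.prime_three.coprime_iff_not_dvd).mpr hnd
        have : s = (s ^ (((j : ℕ) : ℤ) + -((j' : ℕ) : ℤ))) ^ n := by
          rw [← zpow_mul, show (((j : ℕ) : ℤ) + -((j' : ℕ) : ℤ)) * n = 1 + 3 * (-m) by linarith,
            zpow_add, zpow_mul s 3, show s ^ (3 : ℤ) = 1 from by exact_mod_cast hs3, one_zpow,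
            mul_one, zpow_one]
        rw [this, e', ← zpow_mul]
        exact zpow_mem (Subgroup.mem_zpowers y) _
      have hjj : j = j' := Fin.ext (by omega)
      subst hjj
      rw [add_neg_cancel, zpow_zero, eq_comm] at e'
      have hd := orderOf_dvd_iff_zpow_eq_one.mpr e'
      rw [hy] at hd
      push_cast at hd
      have hii : i = i' := Fin.ext (by omega)
      rw [hii]
    intro x hx
    obtain ⟨q, hq⟩ := (hF.bijective_of_nat_card_le (by
      rw [Nat.card_prod, Nat.card_fin, hc9])).2 ⟨x, hx⟩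
    exact ⟨q.1, q.2, (congrArg Subtype.val hq).symm⟩
  -- the conjugates of `y` in `R1`
  let IsConjY : G → Prop := fun x => ∃ g : G, g * y * g⁻¹ = x
  have hnoinv : ∀ x, IsConjY x → IsConjY x⁻¹ → False := by
    rintro x ⟨g, rfl⟩ ⟨g', hg'⟩
    have e : (g⁻¹ * g') * y * (g⁻¹ * g')⁻¹ = y⁻¹ := by
      rw [show (g⁻¹ * g') * y * (g⁻¹ * g')⁻¹ = g⁻¹ * (g' * y * g'⁻¹) * g by group, hg']
      group
    have := hpow _ (e ▸ inv_mem (Subgroup.mem_zpowers y))
    rw [e, inv_eq_iff_mul_eq_one] at this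
    have := orderOf_dvd_of_pow_eq_one (by rwa [sq] : y ^ 2 = 1)
    rw [hy] at this
    omega
  have hTa : ∀ x ∈ R1, IsConjY x → IsConjY (a * x * a) := by
    rintro x - ⟨g, rfl⟩
    exact ⟨a * g, by rw [mul_inv_rev, hai]; group⟩
  have hys : ∀ i j : ℕ, a * (y ^ i * s ^ j) * a = y ^ i * (s⁻¹) ^ j := fun i j => by
    rw [← has, show a * s * a = a * s * a⁻¹ by rw [hai], conj_pow, hai, ← mul_assoc a,
      (hay.pow_right i).eq]
    simp only [← mul_assoc]
  have hsi : s⁻¹ = s ^ 2 := inv_eq_of_mul_eq_one_right (by rw [← pow_succ', hs3])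
  have hyi : y⁻¹ = y ^ 2 := inv_eq_of_mul_eq_one_right (by rw [← pow_succ', hy3])
  have hT : ∀ x ∈ R1, IsConjY x → x = y ∨
      ((x = y * s ∨ x = y * s⁻¹) ∧ IsConjY (y * s) ∧ IsConjY (y * s⁻¹)) ∨
      ((x = y⁻¹ * s ∨ x = y⁻¹ * s⁻¹) ∧ IsConjY (y⁻¹ * s) ∧ IsConjY (y⁻¹ * s⁻¹)) := by
    intro x hx hxY
    obtain ⟨i, j, rfl⟩ := helem x hx
    have hax := hTa _ hx hxY
    rw [hys] at hax
    have hss : s ^ 2 ^ 1 = s⁻¹ := by rw [pow_one, hsi]
    have hs22 : (s⁻¹) ^ 2 = s := by rw [inv_pow, ← hsi, inv_inv]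
    fin_cases i <;> fin_cases j <;>
      simp only [Fin.isValue, pow_zero, pow_one, one_mul, mul_one, Fin.zero_eta, Fin.mk_one,
        Fin.reduceFinMk, Fin.val_zero, Fin.val_one, Fin.val_two] at hxY hax ⊢ <;>
      (try rw [← hsi] at hxY ⊢) <;> (try rw [hs22] at hax) <;>
      (try rw [← hyi] at hxY hax ⊢)
    · exfalso
      obtain ⟨g, hg⟩ := hxY
      exact hy1 (conj_eq_one_iff.mp hg)
    · exfalso
      obtain ⟨g, hg⟩ := hxY
      exact hsns g (by rw [← hg]; simp [mul_assoc, Subgroup.mem_zpowers])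
    · exfalso
      obtain ⟨g, hg⟩ := hax
      exact hsns g (by rw [← hg]; simp [mul_assoc, Subgroup.mem_zpowers])
    · exact Or.inl (by first | trivial | rfl)
    · exact Or.inr (Or.inl ⟨Or.inl (by first | trivial | rfl), hxY, hax⟩)
    · exact Or.inr (Or.inl ⟨Or.inr (by first | trivial | rfl), hax, hxY⟩)
    · exact (hnoinv y ⟨1, by simp⟩ hxY).elim
    · exact Or.inr (Or.inr ⟨Or.inl (by first | trivial | rfl), hxY, hax⟩)
    · exact Or.inr (Or.inr ⟨Or.inr (by first | trivial | rfl), hax, hxY⟩)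
  have hexcl : (IsConjY (y * s) ∧ IsConjY (y * s⁻¹)) → ¬ (IsConjY (y⁻¹ * s) ∧ IsConjY (y⁻¹ * s⁻¹)) := by
    rintro ⟨h1, -⟩ ⟨-, h2⟩
    refine hnoinv _ h1 ?_
    rw [mul_inv_rev, (hsy.inv_inv).eq.symm]
    exact h2
  have hin : ∀ (u : G), u ∈ (R : Subgroup G) → u * y * u⁻¹ ∈ R1 := by
    intro u hu
    refine hRK _ (mul_mem (mul_mem hu hyR) (inv_mem hu)) ?_
    -- exponent three
    have hu' : u⁻¹ ∈ (R : Subgroup G) := inv_mem hu
    have e3 : ∀ x ∈ (R : Subgroup G), x * x * x = 1 := fun x hx => by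
      rw [← sq, ← pow_succ]
      exact h.setup.hyp.pow_eq_one_of_pgroup h.rprime R.2 hx
    set v := u * y * u⁻¹
    set w := u * v * u⁻¹
    have hu3 : u * u * u = 1 := e3 u hu
    have e1 : y * v * w = 1 := by
      have := e3 (y * u) (mul_mem hyR hu)
      have e : y * u * (y * u) * (y * u) = y * v * w * (u * u * u) := by simp only [v, w]; group
      rwa [e, hu3, mul_one] at this
    have e2 : w * v * y = 1 := by
      have h2 := e3 (u⁻¹ * y) (mul_mem hu' hyR)
      have h3 := congrArg (fun z => u * u * u * z) h2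
      simp only [hu3, one_mul] at h3
      have e : u * u * u * (u⁻¹ * y * (u⁻¹ * y) * (u⁻¹ * y)) = w * v * y := by simp only [v, w]; group
      rw [← e, hu3, one_mul]
      exact h3
    have hw1 : w = (y * v)⁻¹ := eq_inv_of_mul_eq_one_right e1
    rw [mul_assoc, hw1, inv_mul_eq_one] at e2
    exact e2.symm
  have hindex : ∀ (X : Subgroup G) [MulAction X R1], (∀ (u : X) (x : R1), ((u • x : R1) : G) = u * (x : G) * (u : G)⁻¹) →
      ∀ (O : Set R1), O = MulAction.orbit X (⟨y, hyR1⟩ : R1) → (⟨y, hyR1⟩ : R1) ∈ O ∧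
      Nat.card O ∣ Nat.card X ∧ ∀ x ∈ O, IsConjY (x : G) := by
    intro X _ hact O hO
    subst hO
    refine ⟨MulAction.mem_orbit_self _, ⟨Nat.card (MulAction.stabilizer X (⟨y, hyR1⟩ : R1)), ?_⟩, ?_⟩
    · rw [← Nat.card_prod]
      exact (Nat.card_congr (MulAction.orbitProdStabilizerEquivGroup X (⟨y, hyR1⟩ : R1))).symm
    · rintro _ ⟨u, rfl⟩
      exact ⟨u, (hact u ⟨y, hyR1⟩).symm⟩
  by_cases hRR1 : (R : Subgroup G) = R1
  · -- abelian Sylow subgroup
    have hRcomm : IsMulCommutative (R : Subgroup G) := .of_comm fun x z => Subtype.ext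
      (hcomm1 x (hRR1 ▸ x.2) z (hRR1 ▸ z.2))
    set N := Subgroup.normalizer ((R : Subgroup G) : Set G)
    refine false_of_conj_eq h.nc R hy hyR (fun hmem => hy1 ?_) fun g hg => ?_
    · haveI := hRcomm
      rw [commutator_def, Subgroup.commutator_eq_bot_iff_le_centralizer.mpr
        (fun u _ w _ => mul_comm' w u), Subgroup.mem_bot] at hmem
      exact congrArg Subtype.val hmem
    refine congrArg _ (Subtype.ext ?_)
    show g⁻¹ * y * g = y
    obtain ⟨n, hn, hne⟩ := Transfer.exists_normalizer_conj_of_isMulCommutative R hRcomm hyR g⁻¹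
      (by rw [inv_inv]; exact hg)
    rw [inv_inv] at hne
    rw [← hne]
    by_contra hny
    have hcj : ∀ v ∈ N, v * y * v⁻¹ ∈ R1 := fun v hv => hRR1 ▸ (Subgroup.mem_normalizer_iff.mp hv y).mp hyR
    -- the orbit under the normaliser has three points
    have haN : a ∈ N := Subgroup.mem_normalizer_iff.mpr fun x => by
      rw [hRR1]
      refine ⟨fun hx => hR1n a haK x hx, fun hx => ?_⟩
      have := hR1n a haK _ hx
      rwa [hai, show a * (a * x * a) * a = (a * a) * x * (a * a) by group, h.setup.invol ha, one_mul,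
        mul_one] at this
    let act' : MulAction N R1 :=
      { smul := fun v x => ⟨(v : G) * x * (v : G)⁻¹, hRR1 ▸
          (Subgroup.mem_normalizer_iff.mp v.2 x).mp (hRR1.symm ▸ x.2)⟩
        one_smul := fun x => Subtype.ext (by show (1 : G) * x * (1 : G)⁻¹ = x; group)
        mul_smul := fun v w x => Subtype.ext (by
          show ((v : G) * w) * x * ((v : G) * w)⁻¹ = (v : G) * ((w : G) * x * (w : G)⁻¹) * (v : G)⁻¹
          group) }
    letI := act'
    obtain ⟨hyO, hdvd, hOY⟩ := hindex N (fun u x => rfl) _ rfl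
    set O := MulAction.orbit N (⟨y, hyR1⟩ : R1)
    have hO3 : Nat.card O = 3 := by
      have hmem : (⟨n * y * n⁻¹, hcj n hn⟩ : R1) ∈ O := ⟨⟨n, hn⟩, rfl⟩
      have haO : ∀ x ∈ O, (⟨a * (x : G) * a⁻¹, hR1n a haK x x.2⟩ : R1) ∈ O := by
        rintro _ ⟨v, rfl⟩
        refine ⟨⟨a, haN⟩ * v, Subtype.ext ?_⟩
        show a * (v : G) * y * (a * (v : G))⁻¹ = a * ((v : G) * y * (v : G)⁻¹) * a⁻¹
        group
      have hamem := haO _ hmem
      rcases hT _ (hcj n hn) ⟨n, rfl⟩ with e | ⟨e, h1, h2⟩ | ⟨e, h1, h2⟩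
      · exact absurd e hny
      · have hO : O = {⟨y, hyR1⟩, ⟨y * s, mul_mem hyR1 hsR1⟩, ⟨y * s⁻¹, mul_mem hyR1 (inv_mem hsR1)⟩} := by
          refine Set.Subset.antisymm (fun x hx => ?_) ?_
          · rcases hT x x.2 (hOY x hx) with e' | ⟨e' | e', -⟩ | ⟨-, h3, h4⟩
            · exact Or.inl (Subtype.ext e')
            · exact Or.inr (Or.inl (Subtype.ext e'))
            · exact Or.inr (Or.inr (Subtype.ext e'))
            · exact absurd ⟨h3, h4⟩ (hexcl ⟨h1, h2⟩)
          · have hflip : a * (y * s) * a⁻¹ = y * s⁻¹ ∧ a * (y * s⁻¹) * a⁻¹ = y * s := by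
              have h1' := hys 1 1
              rw [pow_one, pow_one, pow_one] at h1'
              refine ⟨by rw [hai, h1'], ?_⟩
              rw [hai, ← h1', show a * (a * (y * s) * a) * a = (a * a) * (y * s) * (a * a) by group,
                h.setup.invol ha, one_mul, mul_one]
            rintro x (rfl | rfl | rfl)
            · exact hyO
            · rcases e with e | e
              · exact (Subtype.ext e : (⟨n * y * n⁻¹, hcj n hn⟩ : R1) = ⟨y * s, _⟩) ▸ hmem
              · convert hamem using 1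
                exact Subtype.ext (by show y * s = a * (n * y * n⁻¹) * a⁻¹; rw [e, hflip.2])
            · rcases e with e | e
              · convert hamem using 1
                exact Subtype.ext (by show y * s⁻¹ = a * (n * y * n⁻¹) * a⁻¹; rw [e, hflip.1])
              · exact (Subtype.ext e : (⟨n * y * n⁻¹, hcj n hn⟩ : R1) = ⟨y * s⁻¹, _⟩) ▸ hmem
        rw [hO, Nat.card_coe_set_eq, Set.ncard_eq_three]
        refine ⟨_, _, _, fun e => hs1 ?_, fun e => hs1 ?_, fun e => ?_, rfl⟩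
        · exact mul_eq_left.mp (congrArg Subtype.val e).symm
        · exact inv_eq_one.mp (mul_eq_left.mp (congrArg Subtype.val e).symm)
        · have := mul_left_cancel (congrArg Subtype.val e)
          rw [eq_inv_iff_mul_eq_one, ← sq] at this
          have := orderOf_dvd_of_pow_eq_one this
          rw [hso] at this
          omega
      · exfalso
        -- `n` would invert `y` modulo `s`
        have haO2 : IsConjY (y⁻¹ * s) := h1
        obtain ⟨g', hg'⟩ := haO2
        have hsub : O ⊆ {⟨y, hyR1⟩, ⟨y⁻¹ * s, mul_mem (inv_mem hyR1) hsR1⟩,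
            ⟨y⁻¹ * s⁻¹, mul_mem (inv_mem hyR1) (inv_mem hsR1)⟩} := by
          intro x hx
          rcases hT x x.2 (hOY x hx) with e' | ⟨-, h3, h4⟩ | ⟨e' | e', -⟩
          · exact Or.inl (Subtype.ext e')
          · exact absurd ⟨h1, h2⟩ (hexcl ⟨h3, h4⟩)
          · exact Or.inr (Or.inl (Subtype.ext e'))
          · exact Or.inr (Or.inr (Subtype.ext e'))
        have hflip : a * (y⁻¹ * s) * a⁻¹ = y⁻¹ * s⁻¹ ∧ a * (y⁻¹ * s⁻¹) * a⁻¹ = y⁻¹ * s := by
          have h1' := hys 2 1
          rw [← hyi, pow_one, pow_one] at h1'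
          refine ⟨by rw [hai, h1'], ?_⟩
          rw [hai, ← h1', show a * (a * (y⁻¹ * s) * a) * a = (a * a) * (y⁻¹ * s) * (a * a) by group,
            h.setup.invol ha, one_mul, mul_one]
        have heq : O = {⟨y, hyR1⟩, ⟨y⁻¹ * s, mul_mem (inv_mem hyR1) hsR1⟩,
            ⟨y⁻¹ * s⁻¹, mul_mem (inv_mem hyR1) (inv_mem hsR1)⟩} := by
          refine Set.Subset.antisymm hsub ?_
          rintro x (rfl | rfl | rfl)
          · exact hyO
          · rcases e with e | e
            · exact (Subtype.ext e : (⟨n * y * n⁻¹, hcj n hn⟩ : R1) = ⟨y⁻¹ * s, _⟩) ▸ hmem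
            · convert hamem using 1
              exact Subtype.ext (by show y⁻¹ * s = a * (n * y * n⁻¹) * a⁻¹; rw [e, hflip.2])
          · rcases e with e | e
            · convert hamem using 1
              exact Subtype.ext (by show y⁻¹ * s⁻¹ = a * (n * y * n⁻¹) * a⁻¹; rw [e, hflip.1])
            · exact (Subtype.ext e : (⟨n * y * n⁻¹, hcj n hn⟩ : R1) = ⟨y⁻¹ * s⁻¹, _⟩) ▸ hmem
        have hcard : Nat.card O = 3 := by
          rw [heq, Nat.card_coe_set_eq, Set.ncard_eq_three]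
          refine ⟨_, _, _, fun e' => hs ?_, fun e' => hs ?_, fun e' => ?_, rfl⟩
          · have h5 : y = y⁻¹ * s := congrArg Subtype.val e'
            rw [eq_inv_mul_iff_mul_eq] at h5
            exact h5 ▸ mul_mem (Subgroup.mem_zpowers y) (Subgroup.mem_zpowers y)
          · have h5 : y = y⁻¹ * s⁻¹ := congrArg Subtype.val e'
            rw [eq_inv_mul_iff_mul_eq] at h5
            have h6 : s⁻¹ ∈ Subgroup.zpowers y :=
              h5 ▸ mul_mem (Subgroup.mem_zpowers y) (Subgroup.mem_zpowers y)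
            simpa using inv_mem h6
          · have := mul_left_cancel (congrArg Subtype.val e')
            rw [eq_inv_iff_mul_eq_one, ← sq] at this
            have := orderOf_dvd_of_pow_eq_one this
            rw [hso] at this
            omega
        exact three_not_dvd R1 R hRR1 (fun u x => rfl) hyR1 hcard
    exact three_not_dvd R1 R hRR1 (fun u x => rfl) hyR1 hO3
  -- `R` is not abelian
  obtain ⟨u, hu, huR1⟩ : ∃ u ∈ (R : Subgroup G), u ∉ R1 := SetLike.exists_of_lt (lt_of_le_of_ne hR (Ne.symm hRR1))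
  have hu3 : u * (u * u) = 1 := by
    rw [← sq, ← pow_succ']
    exact h.setup.hyp.pow_eq_one_of_pgroup h.rprime R.2 hu
  have hmove : u * y * u⁻¹ ≠ y := fun e => huR1 (hRK u hu (mul_inv_eq_iff_eq_mul.mp e))
  have hY : IsConjY (y * s) ∧ IsConjY (y * s⁻¹) := by
    rcases hT _ (hin u hu) ⟨u, rfl⟩ with e | ⟨-, h1, h2⟩ | ⟨e, h1, h2⟩
    · exact absurd e hmove
    · exact ⟨h1, h2⟩
    exfalso
    have hu2 : u * u ∈ (R : Subgroup G) := mul_mem hu hu
    have hmove2 : u * u * y * (u * u)⁻¹ ≠ y := by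
      intro e'
      refine hmove ?_
      have : u * (u * u * y * (u * u)⁻¹) * u⁻¹ = u * y * u⁻¹ := congrArg (fun z => u * z * u⁻¹) e'
      rw [show u * (u * u * y * (u * u)⁻¹) * u⁻¹ = (u * (u * u)) * y * (u * (u * u))⁻¹ by group, hu3] at this
      simpa using this.symm
    have hne : u * y * u⁻¹ ≠ u * u * y * (u * u)⁻¹ := fun e' => hmove (by
      have : u⁻¹ * (u * y * u⁻¹) * u = u⁻¹ * (u * u * y * (u * u)⁻¹) * u :=
        congrArg (fun z => u⁻¹ * z * u) e'
      rw [show u⁻¹ * (u * y * u⁻¹) * u = y by group,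
        show u⁻¹ * (u * u * y * (u * u)⁻¹) * u = u * y * u⁻¹ by group] at this
      exact this.symm)
    have hfix : ∀ z, (z = y⁻¹ * s ∨ z = y⁻¹ * s⁻¹) → ∀ z', (z' = y⁻¹ * s ∨ z' = y⁻¹ * s⁻¹) →
        z ≠ z' → y * z * z' = y⁻¹ := by
      have hp2 : y * (y⁻¹ * s) * (y⁻¹ * s⁻¹) = y⁻¹ := by
        rw [mul_inv_cancel_left, ← mul_assoc, (hsy.inv_left).eq.symm, mul_inv_cancel_right]
      have hp3 : y * (y⁻¹ * s⁻¹) * (y⁻¹ * s) = y⁻¹ := by
        rw [mul_inv_cancel_left, ← mul_assoc, (hsy.inv_inv).eq.symm, inv_mul_cancel_right]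
      rintro z (rfl | rfl) z' (rfl | rfl) hzz
      exacts [absurd rfl hzz, hp2, hp3, absurd rfl hzz]
    have hz' : u * u * y * (u * u)⁻¹ = y⁻¹ * s ∨ u * u * y * (u * u)⁻¹ = y⁻¹ * s⁻¹ := by
      rcases hT _ (hin _ hu2) ⟨_, rfl⟩ with e' | ⟨-, h3, h4⟩ | ⟨e', -⟩
      · exact absurd e' hmove2
      · exact absurd ⟨h1, h2⟩ (hexcl ⟨h3, h4⟩)
      · exact e'
    set v := u * y * u⁻¹ with hv
    set w := u * u * y * (u * u)⁻¹ with hw
    have hprod : y * v * w = y⁻¹ := hfix v e w hz' hne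
    have hconj : u * (y * v * w) * u⁻¹ = v * w * y := by
      rw [hv, hw, show u * (y * (u * y * u⁻¹) * (u * u * y * (u * u)⁻¹)) * u⁻¹ =
        (u * y * u⁻¹) * (u * u * y * (u * u)⁻¹) * ((u * (u * u)) * y * (u * (u * u))⁻¹) by group,
        hu3]
      group
    have hvw : v * w * y = y * v * w := by
      rw [mul_assoc y v w]
      exact ((hcomm1 _ (mul_mem (hin u hu) (hin _ hu2)) _ hyR1).eq)
    rw [hvw, hprod] at hconj
    refine hmove ?_
    have := congrArg (fun z => z⁻¹) hconj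
    simpa [mul_assoc, hv] using this
  have hTR : ∀ x ∈ R1, IsConjY x → x = y ∨ x = y * s ∨ x = y * s⁻¹ := by
    intro x hx hxY
    rcases hT x hx hxY with e | ⟨e, -⟩ | ⟨-, h1, h2⟩
    · exact Or.inl e
    · exact Or.inr e
    · exact absurd ⟨h1, h2⟩ (hexcl hY)
  have hcentral : ∀ v ∈ (R : Subgroup G), Commute v s := by
    intro v hv
    have h1 : v * y * v⁻¹ ∈ Subgroup.zpowers s ∨ ∃ j : ℤ, v * y * v⁻¹ = y * s ^ j := by
      rcases hTR _ (hin v hv) ⟨v, rfl⟩ with e | e | e
      · exact Or.inr ⟨0, by rw [e, zpow_zero, mul_one]⟩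
      · exact Or.inr ⟨1, by rw [e, zpow_one]⟩
      · exact Or.inr ⟨-1, by rw [e, zpow_neg, zpow_one]⟩
    have hyzs : ∀ w ∈ (R : Subgroup G), ∃ j : ℤ, w * y * w⁻¹ = y * s ^ j := fun w hw => by
      rcases hTR _ (hin w hw) ⟨w, rfl⟩ with e | e | e
      · exact ⟨0, by rw [e, zpow_zero, mul_one]⟩
      · exact ⟨1, by rw [e, zpow_one]⟩
      · exact ⟨-1, by rw [e, zpow_neg, zpow_one]⟩
    obtain ⟨g, hg⟩ := hY.1
    -- `u` moves `y` to `y s^j` with `s^j` a generator
    obtain ⟨j, hj⟩ := hyzs u hu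
    obtain ⟨i, hi⟩ := hyzs v hv
    obtain ⟨l, hl⟩ := hyzs (v * u) (mul_mem hv hu)
    have hgen : s ∈ Subgroup.zpowers (s ^ j) := by
      have hj1 : s ^ j ≠ 1 := fun e => hmove (by rw [hj, e, mul_one])
      have e2 : Subgroup.zpowers (s ^ j) = Subgroup.zpowers s := Subgroup.eq_of_le_of_card_ge
        (Subgroup.zpowers_le.mpr (zpow_mem (Subgroup.mem_zpowers s) j))
        (by rw [Nat.card_zpowers, Nat.card_zpowers, hso, orderOf_eq_prime (x := s ^ j) (p := 3) (by
          rw [← zpow_natCast, ← zpow_mul, mul_comm, zpow_mul, zpow_natCast, hs3, one_zpow]) hj1])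
      rw [e2]; exact Subgroup.mem_zpowers s
    have hvs : v * s * v⁻¹ ∈ Subgroup.zpowers s := by
      have h2 : v * (s ^ j) * v⁻¹ = s ^ (l - i) := by
        have : v * u * y * (v * u)⁻¹ = v * y * v⁻¹ * (v * s ^ j * v⁻¹) := by
          rw [show v * u * y * (v * u)⁻¹ = v * (u * y * u⁻¹) * v⁻¹ by group, hj]; group
        rw [hl, hi, mul_assoc] at this
        rw [zpow_sub, (Commute.refl s).zpow_zpow l i |>.inv_right.eq]
        rw [mul_left_cancel this, inv_mul_cancel_left]
      obtain ⟨n, hn⟩ := Subgroup.mem_zpowers_iff.mp hgen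
      rw [show v * s * v⁻¹ = (s ^ (l - i)) ^ n by rw [← h2, conj_zpow, hn]]
      exact zpow_mem (zpow_mem (Subgroup.mem_zpowers s) _) n
    obtain ⟨m, hm⟩ := Subgroup.mem_zpowers_iff.mp hvs
    have hv3 : v ^ 3 = 1 := h.setup.hyp.pow_eq_one_of_pgroup h.rprime R.2 hv
    have hit : ∀ n : ℕ, v ^ n * s * (v ^ n)⁻¹ = s ^ (m ^ n) := by
      intro n
      induction n with
      | zero => simp
      | succ n ih =>
        rw [pow_succ' v, mul_inv_rev, show v * v ^ n * s * ((v ^ n)⁻¹ * v⁻¹) = v * (v ^ n * s * (v ^ n)⁻¹) * v⁻¹ by group,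
          ih, ← conj_zpow, ← hm, ← zpow_mul, pow_succ']
    have h3 := hit 3
    rw [hv3, one_mul, inv_one, mul_one] at h3
    have hd : (orderOf s : ℤ) ∣ m ^ 3 - 1 := orderOf_dvd_iff_zpow_eq_one.mpr (by
      rw [zpow_sub_one, ← h3, mul_inv_cancel])
    rw [hso] at hd
    push_cast at hd
    have hm1 : (3 : ℤ) ∣ m - 1 := by
      refine Int.prime_three.dvd_of_dvd_pow (n := 3) ?_
      rw [show (m - 1) ^ 3 = (m ^ 3 - 1) + 3 * (m - m ^ 2) by ring]
      exact dvd_add hd (dvd_mul_right 3 _)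
    obtain ⟨c, hc⟩ := hm1
    rw [show m = 1 + 3 * c by linarith, zpow_add, zpow_mul, show s ^ (3 : ℤ) = 1 by exact_mod_cast hs3,
      one_zpow, mul_one, zpow_one] at hm
    exact mul_inv_eq_iff_eq_mul.mp hm.symm
  have hnormR1 : ∀ v ∈ (R : Subgroup G), ∀ x ∈ R1, v * x * v⁻¹ ∈ R1 := by
    intro v hv x hx
    obtain ⟨i, j, rfl⟩ := helem x hx
    rw [show v * (y ^ (i : ℕ) * s ^ (j : ℕ)) * v⁻¹ =
      (v * y ^ (i : ℕ) * v⁻¹) * (v * s ^ (j : ℕ) * v⁻¹) by group, ← conj_pow, ← conj_pow]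
    refine mul_mem (pow_mem (hin v hv) _) (pow_mem ?_ _)
    rw [(hcentral v hv).eq, mul_inv_cancel_right]
    exact hsR1
  -- the centraliser of `s`
  have hCs : ∀ g : G, Commute g s → g ∈ (R : Subgroup G) := by
    have hso' : orderOf s = 3 := hso
    have hp : IsPGroup 3 (Subgroup.centralizer ({s} : Set G)) := by
      refine IsPGroup.iff_card.mpr ⟨_, Nat.eq_prime_pow_of_unique_prime_dvd Nat.card_pos.ne'
        fun {q} hq hd => (h.setup.hyp.cent_primes (Or.inr hso') hq hd).resolve_left fun e => ?_⟩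
      subst e
      obtain ⟨⟨b, hb⟩, hbo⟩ := exists_prime_orderOf_dvd_card' 2 hd
      rw [Subgroup.orderOf_mk] at hbo
      obtain ⟨g, hg⟩ := isConj_iff.mp (Invol.strongly_isConj (h.setup.strongly h.nc) hbo h2a)
      have hcm : Commute a (g * s * g⁻¹) := hg ▸
        (show Commute b s from Subgroup.mem_centralizer_singleton_iff.mp hb).map (MulAut.conj g).toMonoidHom
      obtain ⟨g', hg'⟩ := hCa_pow _ (((SemiconjBy.conj_mk g s).orderOf_eq).symm.trans hso') hcm
      refine hsns (g' * g)⁻¹ ?_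
      rwa [inv_inv, show g' * g * s * (g' * g)⁻¹ = g' * (g * s * g⁻¹) * g'⁻¹ by group]
    have heq : (R : Subgroup G) = Subgroup.centralizer ({s} : Set G) :=
      (R.3 hp fun v hv => Subgroup.mem_centralizer_singleton_iff.mpr (hcentral v hv).eq).symm
    exact fun g hg => heq ▸ Subgroup.mem_centralizer_singleton_iff.mpr hg.eq
  have hall : ∀ g : G, g * y * g⁻¹ ∈ (R : Subgroup G) → g * y * g⁻¹ ∈ R1 := by
    intro g hg
    set x := g * y * g⁻¹ with hx
    have hcm : Commute (g⁻¹ * s * g) y := by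
      have h1 : Commute (g⁻¹ * s * g⁻¹⁻¹) (g⁻¹ * x * g⁻¹⁻¹) :=
        (hcentral x hg).symm.map (MulAut.conj g⁻¹).toMonoidHom
      rw [inv_inv, show g⁻¹ * x * g = y by rw [hx]; group] at h1
      exact h1
    have ho : orderOf (g⁻¹ * s * g) = 3 := by
      rw [← hso]
      have := (SemiconjBy.conj_mk g⁻¹ s).orderOf_eq
      rw [inv_inv] at this
      exact this.symm
    have hs' : g⁻¹ * s * g ∈ R1 := hR1odd _ (Subgroup.mem_centralizer_singleton_iff.mpr hcm.eq)
      (by rw [ho]; decide)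
    -- it is `s` or `s⁻¹`
    have hcases : g⁻¹ * s * g = s ∨ g⁻¹ * s * g = s⁻¹ := by
      obtain ⟨i, j, hij⟩ := helem _ hs'
      have hnY : ∀ z, IsConjY z → g⁻¹ * s * g ≠ z ∧ g⁻¹ * s * g ≠ z⁻¹ := by
        rintro _ ⟨k, rfl⟩
        refine ⟨fun e => hsns (g * k) ?_, fun e => hsns (g * k) ?_⟩
        · rw [show (g * k)⁻¹ * s * (g * k) = k⁻¹ * (g⁻¹ * s * g) * k by group, e]
          simp [mul_assoc]
        · rw [show (g * k)⁻¹ * s * (g * k) = k⁻¹ * (g⁻¹ * s * g) * k by group, e]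
          simp [mul_assoc]
      have hne1 : g⁻¹ * s * g ≠ 1 := fun e => by rw [e, orderOf_one] at ho; omega
      have hy0 := hnY y ⟨1, by simp⟩
      have hy1' := hnY _ hY.1
      have hy2' := hnY _ hY.2
      rw [hij] at hne1 hy0 hy1' hy2'
      rw [mul_inv_rev, (hsy.inv_inv).eq.symm] at hy1'
      rw [mul_inv_rev, inv_inv, (hsy.inv_left).eq.symm] at hy2'
      rw [hij]
      fin_cases i <;> fin_cases j <;>
        simp only [Fin.isValue, pow_zero, pow_one, one_mul, mul_one, Fin.zero_eta, Fin.mk_one,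
          Fin.reduceFinMk, Fin.val_zero, Fin.val_one, Fin.val_two, ← hsi, ← hyi] at hne1 hy0 hy1' hy2' ⊢
      · exact absurd rfl hne1
      · exact Or.inl trivial
      · exact Or.inr trivial
      · exact absurd rfl hy0.1
      · exact absurd rfl hy1'.1
      · exact absurd rfl hy2'.1
      · exact absurd rfl hy0.2
      · exact absurd rfl hy2'.2
      · exact absurd rfl hy1'.2
    set a' := g * a * g⁻¹ with ha'
    have hinvs : a' * s * a' = s⁻¹ := by
      rcases hcases with e | e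
      · have e2 : s = g * s * g⁻¹ := by
          conv_rhs => rw [← e]
          group
        rw [ha']
        conv_lhs => rw [e2]
        rw [show g * a * g⁻¹ * (g * s * g⁻¹) * (g * a * g⁻¹) = g * (a * s * a) * g⁻¹ by group, has]
        conv_rhs => rw [e2]
        group
      · have e2 : s = g * s⁻¹ * g⁻¹ := by
          conv_rhs => rw [← e]
          group
        rw [ha']
        conv_lhs => rw [e2]
        rw [show g * a * g⁻¹ * (g * s⁻¹ * g⁻¹) * (g * a * g⁻¹) = g * (a * s⁻¹ * a) * g⁻¹ by group,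
          show a * s⁻¹ * a = (a * s * a)⁻¹ by rw [mul_inv_rev, mul_inv_rev, hai, mul_assoc], has]
        conv_rhs => rw [e2]
        group
    have ha'a' : a' * a' = 1 := by
      rw [ha', show g * a * g⁻¹ * (g * a * g⁻¹) = g * (a * a) * g⁻¹ by group, h.setup.invol ha]; group
    have ha'i : a'⁻¹ = a' := inv_eq_of_mul_eq_one_right ha'a'
    set b := a * a' with hb
    have hbs : Commute b s := by
      have e : b * s * b⁻¹ = s := by
        rw [hb, show a * a' * s * (a * a')⁻¹ = a * (a' * s * a'⁻¹) * a⁻¹ by group, ha'i, hai, hinvs,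
          show a * s⁻¹ * a = (a * s * a)⁻¹ by rw [mul_inv_rev, mul_inv_rev, hai, mul_assoc], has, inv_inv]
      exact mul_inv_eq_iff_eq_mul.mp e
    have hbR : b ∈ (R : Subgroup G) := hCs b hbs
    have hb3 : b ^ 3 = 1 := h.setup.hyp.pow_eq_one_of_pgroup h.rprime R.2 hbR
    have hab : a * b * a = b⁻¹ := by
      rw [hb, mul_inv_rev, ha'i, hai, ← mul_assoc, h.setup.invol ha, one_mul]
    have hbb : b⁻¹ = b ^ 2 := inv_eq_of_mul_eq_one_right (by rw [← pow_succ', hb3])
    have hconj : b * a * b⁻¹ = a' := by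
      calc b * a * b⁻¹ = b * (a * (a * b * a)) := by rw [hab, mul_assoc]
        _ = b * b * a := by rw [show b * (a * (a * b * a)) = b * ((a * a) * b) * a by group, h.setup.invol ha, one_mul]
        _ = b⁻¹ * a := by rw [hbb, sq]
        _ = a' := by rw [hb, mul_inv_rev, ha'i, hai, mul_assoc, h.setup.invol ha, mul_one]
    set z := b⁻¹ * x * b with hz
    have hzR : z ∈ (R : Subgroup G) := mul_mem (mul_mem (inv_mem hbR) hg) hbR
    have haz : Commute a z := by
      have h1 : Commute a' x := hay.map (MulAut.conj g).toMonoidHom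
      have h2 : Commute (b⁻¹ * a' * b⁻¹⁻¹) (b⁻¹ * x * b⁻¹⁻¹) := h1.map (MulAut.conj b⁻¹).toMonoidHom
      rw [inv_inv, show b⁻¹ * a' * b = a by rw [← hconj]; group] at h2
      exact h2
    have hzy : z ∈ Subgroup.zpowers y := by
      set C := Subgroup.centralizer ({a} : Set G)
      set I := (R : Subgroup G) ⊓ C
      have hyI : y ∈ I := Subgroup.mem_inf.mpr
        ⟨hyR, Subgroup.mem_centralizer_singleton_iff.mpr hay.eq.symm⟩
      obtain ⟨e, he⟩ := IsPGroup.iff_card.mp (R.2.to_le (inf_le_left : I ≤ R))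
      have hdvd : Nat.card I ∣ 3 := by
        have h1 : Nat.card I ∣ Nat.card A * 3 := (Subgroup.card_dvd_of_le inf_le_right).trans hCa
        obtain ⟨n, hn⟩ := IsPGroup.iff_card.mp h.setup.two
        rw [hn, he] at h1
        rw [he]
        exact (Nat.Coprime.pow e n (by norm_num : Nat.Coprime 3 2)).dvd_of_dvd_mul_left h1
      have hI : Subgroup.zpowers y = I := Subgroup.eq_of_le_of_card_ge (Subgroup.zpowers_le.mpr hyI)
        (by rw [Nat.card_zpowers, hy]; exact Nat.le_of_dvd (by norm_num) hdvd)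
      exact hI ▸ Subgroup.mem_inf.mpr ⟨hzR, Subgroup.mem_centralizer_singleton_iff.mpr haz.eq.symm⟩
    have : x = b * z * b⁻¹ := by rw [hz]; group
    rw [this]
    exact hnormR1 b hbR z (Subgroup.zpowers_le.mpr hyR1 hzy)
  -- the derived group of `R`
  let R1' : Subgroup (R : Subgroup G) := Subgroup.zpowers ⟨s, hR hsR1⟩
  haveI : R1'.Normal := ⟨fun x hx v => by
    obtain ⟨i, rfl⟩ := Subgroup.mem_zpowers_iff.mp hx
    rw [← conj_zpow, show v * ⟨s, hR hsR1⟩ * v⁻¹ = (⟨s, hR hsR1⟩ : (R : Subgroup G)) from Subtype.ext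
      (by show (v : G) * s * (v : G)⁻¹ = s; rw [(hcentral v v.2).eq, mul_inv_cancel_right])]
    exact zpow_mem (Subgroup.mem_zpowers _) i⟩
  have hyx : ∀ x ∈ R1, IsConjY x → ∃ j : ℤ, x = y * s ^ j := fun x hx hxY => by
    rcases hTR x hx hxY with e | e | e
    · exact ⟨0, by rw [e, zpow_zero, mul_one]⟩
    · exact ⟨1, by rw [e, zpow_one]⟩
    · exact ⟨-1, by rw [e, zpow_neg, zpow_one]⟩
  have hRcard : Nat.card ((R : Subgroup G) ⧸ R1') = 3 ^ 2 := by
    have h27 : Nat.card (R : Subgroup G) = 27 := by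
      let act' : MulAction (R : Subgroup G) R1 :=
        { smul := fun v x => ⟨(v : G) * x * (v : G)⁻¹, hnormR1 v v.2 x x.2⟩
          one_smul := fun x => Subtype.ext (by show (1 : G) * x * (1 : G)⁻¹ = x; group)
          mul_smul := fun v w x => Subtype.ext (by
            show ((v : G) * w) * x * ((v : G) * w)⁻¹ = (v : G) * ((w : G) * x * (w : G)⁻¹) * (v : G)⁻¹
            group) }
      letI := act'
      have hst : Nat.card (MulAction.stabilizer (R : Subgroup G) (⟨y, hyR1⟩ : R1)) = 9 := by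
        rw [← hc9]
        refine Nat.card_congr
          { toFun := fun v => ⟨(v.1 : G), hRK _ v.1.2 (mul_inv_eq_iff_eq_mul.mp
              (congrArg Subtype.val (MulAction.mem_stabilizer_iff.mp v.2)))⟩
            invFun := fun x => ⟨⟨x.1, hR x.2⟩, MulAction.mem_stabilizer_iff.mpr (Subtype.ext (by
              show (x : G) * y * (x : G)⁻¹ = y
              rw [(hR1comm x x.2).eq, mul_inv_cancel_right]))⟩
            left_inv := fun v => rfl
            right_inv := fun x => rfl }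
      obtain ⟨-, hdvd, hOY⟩ := hindex (R : Subgroup G) (fun v x => rfl) _ rfl
      set O := MulAction.orbit (R : Subgroup G) (⟨y, hyR1⟩ : R1) with hOdef
      have hle : Nat.card O ≤ 3 := by
        rw [Nat.card_coe_set_eq]
        refine (Set.ncard_le_ncard (t := {⟨y, hyR1⟩, ⟨y * s, mul_mem hyR1 hsR1⟩,
          ⟨y * s⁻¹, mul_mem hyR1 (inv_mem hsR1)⟩}) (fun x hx => ?_) (Set.toFinite _)).trans ?_
        · rcases hTR x x.2 (hOY x hx) with e | e | e
          · exact Or.inl (Subtype.ext e)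
          · exact Or.inr (Or.inl (Subtype.ext e))
          · exact Or.inr (Or.inr (Subtype.ext e))
        · refine (Set.ncard_insert_le _ _).trans ?_
          refine Nat.add_le_add_right ((Set.ncard_insert_le _ _).trans ?_) 1
          rw [Set.ncard_singleton]
      have hge : 2 ≤ Nat.card O := by
        have h1 : (⟨u * y * u⁻¹, hin u hu⟩ : R1) ∈ O := ⟨⟨u, hu⟩, rfl⟩
        haveI : Nontrivial O := ⟨⟨_, MulAction.mem_orbit_self _⟩, ⟨_, h1⟩, fun e => hmove
          (congrArg (fun z : O => ((z : R1) : G)) e).symm⟩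
        exact Finite.one_lt_card
      obtain ⟨n, hn⟩ := IsPGroup.iff_card.mp R.2
      rw [hn] at hdvd
      obtain ⟨m, -, hm⟩ := (Nat.dvd_prime_pow Nat.prime_three).mp hdvd
      have hO3 : Nat.card O = 3 := by
        rcases m with _ | _ | m
        · omega
        · simpa using hm
        · have : 9 ≤ 3 ^ (m + 1 + 1) :=
            le_trans (by norm_num) (Nat.pow_le_pow_right (by norm_num : 1 ≤ 3) (show 2 ≤ m + 1 + 1 by omega))
          omega
      rw [← Nat.card_congr (MulAction.orbitProdStabilizerEquivGroup (R : Subgroup G) (⟨y, hyR1⟩ : R1)),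
        Nat.card_prod, hO3, hst]
    have := R1'.card_eq_card_quotient_mul_card_subgroup
    rw [h27, Nat.card_zpowers, Subgroup.orderOf_mk, hso] at this
    omega
  haveI : IsMulCommutative ((R : Subgroup G) ⧸ R1') :=
    IsPGroup.isMulCommutative_of_card_eq_prime_sq (p := 3) hRcard
  have hder : commutator (R : Subgroup G) ≤ R1' :=
    (Subgroup.Normal.quotient_commutative_iff_commutator_le).mp inferInstance
  refine false_of_conj_eq h.nc R hy hyR (fun hmem => ?_) fun g hg => ?_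
  · obtain ⟨i, hi⟩ := Subgroup.mem_zpowers_iff.mp (hder hmem)
    refine hs ?_
    have e : s ^ i = y := congrArg Subtype.val hi
    have hgen : Subgroup.zpowers y = Subgroup.zpowers s := Subgroup.eq_of_le_of_card_ge
      (Subgroup.zpowers_le.mpr (e ▸ zpow_mem (Subgroup.mem_zpowers s) i))
      (by rw [Nat.card_zpowers, Nat.card_zpowers, hso, hy])
    exact hgen ▸ Subgroup.mem_zpowers s
  · have h1 := hall g⁻¹ (by rw [inv_inv]; exact hg)
    rw [inv_inv] at h1
    obtain ⟨j, hj⟩ := hyx _ h1 ⟨g⁻¹, by rw [inv_inv]⟩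
    -- `s` is a commutator
    obtain ⟨l, hl⟩ := hyx _ (hin u hu) ⟨u, rfl⟩
    have hsl : (⟨s, hR hsR1⟩ : (R : Subgroup G)) ^ l ∈ commutator (R : Subgroup G) := by
      have hmem := Subgroup.commutator_mem_commutator (Subgroup.mem_top (⟨y, hyR⟩⁻¹ : (R : Subgroup G)))
        (Subgroup.mem_top (⟨u, hu⟩ : (R : Subgroup G)))
      rw [← commutator_def] at hmem
      convert hmem using 1
      refine Subtype.ext ?_
      show s ^ l = y⁻¹ * u * (y⁻¹)⁻¹ * u⁻¹
      rw [inv_inv, show y⁻¹ * u * y * u⁻¹ = y⁻¹ * (u * y * u⁻¹) by group, hl, inv_mul_cancel_left]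
    have hl3 : ¬ (3 : ℤ) ∣ l := by
      rintro ⟨c, rfl⟩
      refine hmove ?_
      rw [hl, zpow_mul, show s ^ (3 : ℤ) = 1 by exact_mod_cast hs3, one_zpow, mul_one]
    obtain ⟨m, n, hmn⟩ := (Int.prime_three.coprime_iff_not_dvd).mpr hl3
    have hsc : (⟨s, hR hsR1⟩ : (R : Subgroup G)) ∈ commutator (R : Subgroup G) := by
      have h2 := zpow_mem hsl n
      convert h2 using 1
      refine Subtype.ext ?_
      show s = (s ^ l) ^ n
      rw [← zpow_mul, show l * n = 1 + 3 * (-m) by linarith, zpow_add, zpow_mul,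
        show s ^ (3 : ℤ) = 1 by exact_mod_cast hs3, one_zpow, mul_one, zpow_one]
    rw [show (⟨_, hg⟩ : (R : Subgroup G)) = ⟨y, hyR⟩ * ⟨s, hR hsR1⟩ ^ j from Subtype.ext hj, map_mul]
    have h0 : Abelianization.of ((⟨s, hR hsR1⟩ : (R : Subgroup G)) ^ j) = 1 := by
      rw [← MonoidHom.mem_ker, Abelianization.ker_of]
      exact zpow_mem hsc j
    rw [h0, mul_one]

end Frob

end CfsgLib.OneComposite
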