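import Mathlib
import Cfsg.Agent.Lib.OneComposite.Automizer

/-!
When the automiser is a Frobenius group of order `pr`, the odd part `W` is trivial.
-/

set_option autoImplicit false
set_option linter.style.haveILetI false
set_option linter.unusedSectionVars false

namespace CfsgLib.OneComposite

open Finset

variable {G : Type*} [Group G] [Finite G] {r : ℕ} {A : Subgroup G}

namespace Setup

variable (S : Setup G r A)
include S

theorem actV_eq_one [IsSimpleGroup G] (hnc : ∃ a b : G, a * b ≠ b * a) {g : G}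
    (hg : g ∈ Subgroup.centralizer (A : Set G))
    (hgW : g ∈ Subgroup.normalizer (closureW A : Set G)) :
    actV (closureW A) ⟨g, hgW⟩ = 1 := by
  obtain ⟨a, ha, w, hw, rfl⟩ := S.mem_sup_of_cent hg
  refine MulEquiv.ext fun v => ?_
  induction v using QuotientGroup.induction_on with
  | H x =>
    show actV (closureW A) ⟨a * w, hgW⟩ (Abelianization.of x) = Abelianization.of x
    rw [actV_of]
    have e : (⟨a * w * (x : G) * (a * w)⁻¹, (Subgroup.mem_normalizer_iff.mp hgW _).mp x.2⟩ :
        closureW A) = ⟨w, hw⟩ * x * ⟨w, hw⟩⁻¹ := Subtype.ext (by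
      show a * w * (x : G) * (a * w)⁻¹ = w * x * w⁻¹
      have hc : a * (w * x * w⁻¹) = w * x * w⁻¹ * a :=
        (S.le_cent_W hnc ha _ (mul_mem (mul_mem hw x.2) (inv_mem hw))).symm
      rw [show a * w * (x : G) * (a * w)⁻¹ = a * (w * x * w⁻¹) * a⁻¹ by group, hc,
        mul_inv_cancel_right])
    exact (congrArg Abelianization.of e).trans (by simp [mul_comm])

open scoped IsMulCommutative in
theorem W_eq_bot [IsSimpleGroup G] (hnc : ∃ a b : G, a * b ≠ b * a)
    (P : Subgroup (act A).range) (hP : P.Normal) {p : ℕ} (hp : p.Prime) (hpr : p ≠ r) (hp2 : p ≠ 2)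
    (hPcard : Nat.card P = p) (hr : r ∣ Nat.card (act A).range) : closureW A = ⊥ := by
  classical
  by_contra hW1
  haveI := Fact.mk S.hyp.prime
  haveI := Fact.mk hp
  haveI := S.isMulCommutative
  set W := closureW A
  haveI : Finite (MulAut (Abelianization W)) :=
    Finite.of_injective (fun e : MulAut (Abelianization W) => (e : Abelianization W → Abelianization W))
      fun e f h => DFunLike.coe_injective h
  haveI : Nontrivial W := (Subgroup.nontrivial_iff_ne_bot W).mpr hW1
  haveI : Group.IsNilpotent W := S.W_pgroup.isNilpotent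
  obtain ⟨v₀, hv₀⟩ : ∃ v : Abelianization W, v ≠ 1 := by
    obtain ⟨x, -, hx⟩ := SetLike.exists_of_lt (Group.IsSolvable.commutator_lt_top_of_nontrivial W)
    exact ⟨Abelianization.of x, fun e => hx (by
      rwa [← MonoidHom.mem_ker, Abelianization.ker_of] at e)⟩
  have hVr : ∀ v : Abelianization W, v ^ r = 1 := by
    intro v
    induction v using QuotientGroup.induction_on with
    | H x =>
      show (Abelianization.of x) ^ r = 1
      rw [← map_pow, ← map_one (Abelianization.of (G := W))]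
      exact congrArg _ (Subtype.ext (S.hyp.pow_eq_one_of_pgroup S.hyp.prime S.W_pgroup x.2))
  have hVp : ∀ v : Abelianization W, v ^ p = 1 → v = 1 := fun v hv =>
    orderOf_eq_one_iff.mp (Nat.eq_one_of_dvd_coprimes ((Nat.coprime_primes hp S.hyp.prime).mpr hpr)
      (orderOf_dvd_of_pow_eq_one hv) (orderOf_dvd_of_pow_eq_one (hVr v)))
  -- the elements
  obtain ⟨⟨π, hπP⟩, hπ⟩ := exists_prime_orderOf_dvd_card' p hPcard.symm.dvd
  rw [Subgroup.orderOf_mk] at hπ
  obtain ⟨ρ, hρ⟩ := exists_prime_orderOf_dvd_card' r hr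
  have hπ1 : π ≠ 1 := fun e => by rw [e, orderOf_one] at hπ; exact hp.ne_one hπ.symm
  have hρ1 : ρ ≠ 1 := fun e => by rw [e, orderOf_one] at hρ; exact S.hyp.prime.ne_one hρ.symm
  obtain ⟨x, hxo, -, hx⟩ := S.exists_lift hπ1
  obtain ⟨z, hzo, -, hz⟩ := S.exists_lift hρ1
  rw [hπ] at hxo
  rw [hρ] at hzo
  obtain ⟨k, hk⟩ : ∃ k : ℕ, π ^ k = ρ * π * ρ⁻¹ := by
    have h1 : ρ * π * ρ⁻¹ ∈ Subgroup.zpowers π := by
      have e : Subgroup.zpowers π = P := Subgroup.eq_of_le_of_card_ge
        (Subgroup.zpowers_le.mpr hπP) (by rw [Nat.card_zpowers, hπ, hPcard])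
      rw [e]; exact hP.conj_mem π hπP ρ
    rw [mem_zpowers_iff_mem_range_orderOf, Finset.mem_image] at h1
    exact h1.imp fun _ h => h.2
  let toN : Subgroup.normalizer (A : Set G) →* Subgroup.normalizer (W : Set G) :=
    Subgroup.inclusion S.normalizer_le
  let Ψ : Subgroup.normalizer (A : Set G) →* MulAut (Abelianization W) := (actV W).comp toN
  set X := Ψ x
  set Z := Ψ z
  have hker : ∀ g : Subgroup.normalizer (A : Set G), act A g = 1 → Ψ g = 1 := fun g hg =>
    S.actV_eq_one hnc (act_eq_one.mp hg) (S.normalizer_le g.2)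
  have hZX : Z * X * Z⁻¹ = X ^ k := by
    have h1 : act A ((x ^ k)⁻¹ * (z * x * z⁻¹)) = 1 := by
      rw [map_mul, map_inv, map_pow, map_mul, map_mul, map_inv, hx, hz, inv_mul_eq_one]
      exact congrArg Subtype.val hk
    have h2 := hker _ h1
    rw [map_mul, map_inv, map_pow, map_mul, map_mul, map_inv, inv_mul_eq_one] at h2
    exact h2.symm
  have hnorm : ∀ (g : Subgroup.normalizer (A : Set G)) (s : ℕ), s.Prime → s ≠ 2 →
      orderOf (g : G) = s → ∀ v : Abelianization W, ∏ i ∈ range s, Ψ g ^ i • v = 1 :=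
    fun g s hs hs2 hg v => norm_eq (toN g) (show (g : G) ^ s = 1 from hg ▸ pow_orderOf_eq_one _)
      (fun w hw => S.hyp.mul_pow_eq_one S.W_pgroup (toN g) hs hs2 hg hw) v
  have hfreeX : ∀ v : Abelianization W, X • v = v → v = 1 := by
    intro v hv
    refine hVp v ?_
    have h := hnorm x p hp hp2 hxo v
    have hi : ∀ i : ℕ, X ^ i • v = v := by
      intro i
      induction i with
      | zero => rw [pow_zero, one_smul]
      | succ i ih => rw [pow_succ', mul_smul, ih, hv]
    rwa [Finset.prod_congr rfl (fun i _ => hi i), Finset.prod_const, Finset.card_range] at h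
  have hXp : X ^ p = 1 := by
    rw [← map_pow, show x ^ p = 1 from Subtype.ext (hxo ▸ pow_orderOf_eq_one (x : G)), map_one]
  have hXo : orderOf X = p :=
    orderOf_eq_prime hXp fun e => hv₀ (hfreeX v₀ (by rw [e, one_smul]))
  haveI := Fintype.ofFinite (Subgroup.zpowers X)
  refine hv₀ (hVp v₀ ?_)
  rw [← hXo, ← Nat.card_zpowers, Nat.card_eq_fintype_card]
  refine frobenius_pow_card (z := Z) (s := r) S.hyp.prime.pos (fun u hu => ?_) (fun i hi hir u hu hc => ?_)
    (fun v => FourOrbit.norm_eq_one _ (fun v hv => hfreeX v (hv X (Subgroup.mem_zpowers X))) v)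
    (fun u hu v => ?_) v₀
  · obtain ⟨n, rfl⟩ := Subgroup.mem_zpowers_iff.mp hu
    rw [← conj_zpow, hZX]
    exact zpow_mem (pow_mem (Subgroup.mem_zpowers X) k) n
  · by_contra hu1
    have hgen : X ∈ Subgroup.zpowers u := by
      have e : Subgroup.zpowers u = Subgroup.zpowers X := by
        refine Subgroup.eq_of_le_of_card_ge (Subgroup.zpowers_le.mpr hu) ?_
        rw [Nat.card_zpowers, Nat.card_zpowers, hXo, ((Nat.dvd_prime hp).mp (hXo ▸
          (Nat.card_zpowers X ▸ Subgroup.orderOf_dvd_natCard _ hu))).resolve_left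
            fun e => hu1 (orderOf_eq_one_iff.mp e)]
      rw [e]; exact Subgroup.mem_zpowers X
    obtain ⟨n, hn⟩ := Subgroup.mem_zpowers_iff.mp hgen
    have hc1 : Commute X (Z ^ i) := hn ▸ hc.zpow_left n
    obtain ⟨m, hm⟩ : ∃ m, (z ^ i) ^ m = z := by
      refine exists_pow_eq_self_of_coprime ?_
      rw [← Subgroup.orderOf_coe, hzo]
      exact (S.hyp.prime.coprime_iff_not_dvd.mpr fun hd => absurd (Nat.le_of_dvd hi hd) (by omega)).symm
    have hc2 : Commute X Z := by
      have := hc1.pow_right m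
      rwa [← map_pow, ← map_pow, hm] at this
    rw [← hc2.eq, mul_inv_cancel_right] at hZX
    have h3 : π ^ k = π := by
      have hmod : k ≡ 1 [MOD p] := by
        rw [← hXo]; exact pow_eq_pow_iff_modEq.mp (by rw [pow_one, ← hZX])
      exact (pow_eq_pow_iff_modEq.mpr (hπ.symm ▸ hmod)).trans (pow_one π)
    rw [hk, mul_inv_eq_iff_eq_mul] at h3
    refine hpr ?_
    by_contra hne
    have ho := (show Commute ρ π from h3).orderOf_mul_eq_mul_orderOf_of_coprime
      (by rw [hρ, hπ]; exact (Nat.coprime_primes S.hyp.prime hp).mpr (Ne.symm hne))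
    rw [hρ, hπ] at ho
    have hF := (S.frame hnc).orders (ρ * π) fun e => by
      rw [e, orderOf_one] at ho
      exact S.hyp.prime.ne_one (Nat.eq_one_of_mul_eq_one_right ho.symm)
    exact Nat.not_prime_mul S.hyp.prime.ne_one hp.ne_one (ho ▸ hF)
  · obtain ⟨n, rfl⟩ := Subgroup.mem_zpowers_iff.mp hu
    have e : X ^ n * Z * (X ^ n)⁻¹ = Ψ (x ^ n * z * (x ^ n)⁻¹) := by
      rw [map_mul, map_mul, map_inv, map_zpow]
    rw [e]
    refine hnorm _ r S.hyp.prime S.hyp.ne_two ?_ v
    rw [← hzo]
    exact ((SemiconjBy.conj_mk ((x ^ n : Subgroup.normalizer (A : Set G)) : G) (z : G)).orderOf_eq).symm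

end Setup

end CfsgLib.OneComposite
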