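import Mathlib
import Cfsg.Agent.Lib.OneComposite.FreeCase
import Cfsg.Agent.Lib.OneComposite.FrobW
import Cfsg.Agent.Lib.OneComposite.FrobFinal

/-!
No simple group whose only composite element order is `2r` has a complete signalizer functor on a
non-cyclic Sylow `2`-subgroup.
-/

set_option autoImplicit false
set_option linter.style.haveILetI false
set_option linter.unusedSectionVars false

namespace CfsgLib.OneComposite

variable {G : Type*} [Group G] [Finite G] {r : ℕ} {A : Subgroup G}

open scoped IsMulCommutative in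
theorem Setup.contradiction (S : Setup G r A) [IsSimpleGroup G]
    (hnc : ∃ a b : G, a * b ≠ b * a) : False := by
  haveI := S.isMulCommutative
  haveI : Fact (Nat.Prime 2) := ⟨Nat.prime_two⟩
  rcases (S.frame hnc).cases with ⟨hcard, hp, hfree⟩ | ⟨P, hP, hPc, hp, hpr, hcard, hstab⟩
  · exact S.free_false hnc hfree hcard hp
  · have hp2 : Nat.card A - 1 ≠ 2 := by
      obtain ⟨n, hn⟩ := IsPGroup.iff_card.mp S.two
      have h4 := S.big
      intro e
      rcases Nat.lt_or_ge n 2 with h | h
      · interval_cases n <;> omega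
      · have h2 : 2 ^ n % 2 = 0 := by rw [Nat.pow_mod]; simp [show n ≠ 0 by omega]
        omega
    have hW := S.W_eq_bot hnc P hP hp hpr hp2 hPc (hcard ▸ dvd_mul_left r _)
    refine Frob.frob_false (p := Nat.card A - 1) ⟨S, hnc, hp, hpr, rfl, hcard, ⟨P, hP, hPc⟩,
      fun g hg => ?_⟩ hstab
    obtain ⟨a, ha, w, hw, rfl⟩ := S.mem_sup_of_cent hg
    rw [hW, Subgroup.mem_bot] at hw
    rwa [hw, mul_one]

end CfsgLib.OneComposite
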