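import Mathlib
import Cfsg.Agent.Lib.SL2.PSL

/-!
The fields over which `PSL₂` has at most one composite element order.
-/

set_option autoImplicit false
set_option linter.style.haveILetI false

namespace CfsgLib.OneComposite

/-- A number greater than one that is not prime. -/
def IsComp (a : ℕ) : Prop := 1 < a ∧ ¬ a.Prime

theorem isComp_mul {a b : ℕ} (ha : 2 ≤ a) (hb : 2 ≤ b) : IsComp (a * b) :=
  ⟨by nlinarith, Nat.not_prime_mul (by omega) (by omega)⟩

theorem three_pow_mod_eight (n : ℕ) :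
    (Even n → 3 ^ n % 8 = 1) ∧ (Odd n → 3 ^ n % 8 = 3) := by
  constructor <;> rintro ⟨k, rfl⟩
  · rw [← two_mul, pow_mul, Nat.pow_mod]; simp
  · rw [pow_succ, pow_mul, Nat.mul_mod, Nat.pow_mod]; simp

theorem even_case {n : ℕ} (hn : 5 ≤ n)
    (hk : ∀ a b, IsComp a → IsComp b → (a ∣ 2 ^ n - 1 ∨ a ∣ 2 ^ n + 1) →
      (b ∣ 2 ^ n - 1 ∨ b ∣ 2 ^ n + 1) → a = b) :
    ∃ r : ℕ, (2 ^ n - 1).Prime ∧ r.Prime ∧ 2 ^ n + 1 = 3 * r := by
  have h32 : 32 ≤ 2 ^ n := le_trans (by norm_num) (Nat.pow_le_pow_right two_pos hn)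
  rcases Nat.even_or_odd n with ⟨k, rfl⟩ | ho
  · exfalso
    have hk3 : 3 ≤ k := by omega
    have h8 : 8 ≤ 2 ^ k := le_trans (by norm_num) (Nat.pow_le_pow_right two_pos hk3)
    have hsq : 2 ^ (k + k) - 1 = (2 ^ k + 1) * (2 ^ k - 1) := by
      rw [← Nat.sq_sub_sq, one_pow, pow_two, ← pow_add]
    have h3 : 3 ∣ 2 ^ (k + k) - 1 := by
      rw [← two_mul, pow_mul, show (2 : ℕ) ^ 2 = 4 from rfl]
      simpa using Nat.sub_dvd_pow_sub_pow 4 1 k
    rw [hsq] at h3 hk
    have hcomp := isComp_mul (a := 2 ^ k + 1) (b := 2 ^ k - 1) (by omega) (by omega)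
    have key : ∀ f g : ℕ, 7 ≤ f → 2 ≤ g → f * g = (2 ^ k + 1) * (2 ^ k - 1) → ¬ 3 ∣ f := by
      intro f g hf hg hfg h3f
      obtain ⟨c, rfl⟩ := h3f
      have := hk _ _ (isComp_mul (a := 3) (b := c) (by norm_num) (by omega)) hcomp
        (Or.inl (hfg ▸ dvd_mul_right _ _)) (Or.inl dvd_rfl)
      rw [← hfg] at this
      have h1 : (3 * c) * 1 = (3 * c) * g := by rw [mul_one]; exact this
      have := Nat.eq_of_mul_eq_mul_left (by omega) h1
      omega
    rcases (Nat.Prime.dvd_mul Nat.prime_three).mp h3 with h | h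
    · exact key _ _ (by omega) (by omega) rfl h
    · exact key _ _ (by omega) (by omega) (mul_comm _ _) h
  · obtain ⟨r, hr⟩ : 3 ∣ 2 ^ n + 1 := by simpa using ho.nat_add_dvd_pow_add_pow 2 1
    have hb : IsComp (2 ^ n + 1) := hr ▸ isComp_mul (a := 3) (b := r) (by norm_num) (by omega)
    refine ⟨r, ?_, ?_, hr⟩
    · by_contra hp
      have := hk _ _ ⟨by omega, hp⟩ hb (Or.inl dvd_rfl) (Or.inr dvd_rfl)
      omega
    · by_contra hp
      have := hk _ _ ⟨by omega, hp⟩ hb (Or.inr (Dvd.intro_left 3 hr.symm)) (Or.inr dvd_rfl)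
      omega

theorem odd_case {p n q a : ℕ} (hp : p.Prime) (hq : q = p ^ n) (hqa : q = 2 * a + 1) (h5 : 5 ≤ q)
    (hk : ∀ x y, IsComp x → IsComp y → (x ∣ a ∨ x ∣ a + 1) → (y ∣ a ∨ y ∣ a + 1) → x = y) :
    (q = 5 ∨ q = 7 ∨ q = 9 ∨ q = 11 ∨ q = 13) ∨
      (p = 3 ∧ ∃ r s : ℕ, r.Prime ∧ s.Prime ∧ 3 ^ n - 1 = 2 * r ∧ 3 ^ n + 1 = 4 * s) := by
  -- `e` is the even one and `o` the odd one
  have main : ∀ e o : ℕ, Even e → 4 ≤ e → 3 ≤ o → (e ∣ a ∨ e ∣ a + 1) → (o ∣ a ∨ o ∣ a + 1) →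
      o ≠ e → o.Prime ∧ ∃ s, e = 2 * s ∧ s.Prime := by
    intro e o ⟨s, hs⟩ he ho hea hoa hne
    have hc : IsComp e := by rw [hs, ← two_mul]; exact isComp_mul le_rfl (by omega)
    refine ⟨?_, s, by omega, ?_⟩
    · by_contra hp'
      exact hne (hk _ _ ⟨by omega, hp'⟩ hc hoa hea)
    · by_contra hp'
      have := hk s e ⟨by omega, hp'⟩ hc
        (hea.imp (dvd_trans (Dvd.intro_left 2 (by omega))) (dvd_trans (Dvd.intro_left 2 (by omega))))
        hea
      omega
  by_cases hq5 : q = 5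
  · exact Or.inl (Or.inl hq5)
  by_cases hp3 : p = 3
  · subst hp3
    rcases Nat.even_or_odd n with hn | hn
    · left
      have hm := (three_pow_mod_eight n).1 hn
      obtain ⟨-, s, hs, hsp⟩ := main a (a + 1) (by rw [Nat.even_iff]; omega) (by omega) (by omega)
        (Or.inl dvd_rfl) (Or.inr dvd_rfl) (by omega)
      have := (hsp.eq_two_or_odd').resolve_right (fun h => by rw [Nat.odd_iff] at h; omega)
      omega
    · have hm := (three_pow_mod_eight n).2 hn
      by_cases h7 : q = 7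
      · exact Or.inl (Or.inr (Or.inl h7))
      obtain ⟨hop, s, hs, hsp⟩ := main (a + 1) a (by rw [Nat.even_iff]; omega) (by omega) (by omega)
        (Or.inr dvd_rfl) (Or.inl dvd_rfl) (by omega)
      exact Or.inr ⟨rfl, a, s, hop, hsp, by omega, by omega⟩
  · left
    have h3q : ¬ 3 ∣ q := fun h => hp3
      ((Nat.prime_dvd_prime_iff_eq Nat.prime_three hp).mp (Nat.prime_three.dvd_of_dvd_pow (hq ▸ h))).symm
    rcases Nat.even_or_odd a with ha | ha
    · obtain ⟨hop, s, hs, hsp⟩ := main a (a + 1) ha (by rw [Nat.even_iff] at ha; omega) (by omega)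
        (Or.inl dvd_rfl) (Or.inr dvd_rfl) (by omega)
      by_cases h3a : 3 ∣ a
      · have h3 : (3 : ℕ) = s := (Nat.prime_dvd_prime_iff_eq Nat.prime_three hsp).mp (by omega)
        omega
      · have h1 : a % 3 = 2 := by
          rw [Nat.dvd_iff_mod_eq_zero] at h3q h3a
          have : q % 3 = (2 * (a % 3) + 1) % 3 := by rw [hqa]; omega
          have := Nat.mod_lt a (show 0 < 3 by norm_num)
          interval_cases a % 3 <;> omega
        have h3 : (3 : ℕ) = a + 1 := (Nat.prime_dvd_prime_iff_eq Nat.prime_three hop).mp (by omega)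
        omega
    · obtain ⟨hop, s, hs, hsp⟩ := main (a + 1) a ha.add_one (by rw [Nat.odd_iff] at ha; omega)
        (by rw [Nat.odd_iff] at ha; omega) (Or.inr dvd_rfl) (Or.inl dvd_rfl) (by omega)
      by_cases h3a : 3 ∣ a + 1
      · have h3 : (3 : ℕ) = s := (Nat.prime_dvd_prime_iff_eq Nat.prime_three hsp).mp (by omega)
        omega
      · have h1 : a % 3 = 0 := by
          rw [Nat.dvd_iff_mod_eq_zero, Nat.add_mod] at h3a
          rw [Nat.dvd_iff_mod_eq_zero] at h3q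
          have : q % 3 = (2 * (a % 3) + 1) % 3 := by rw [hqa]; omega
          have := Nat.mod_lt a (show 0 < 3 by norm_num)
          interval_cases a % 3 <;> omega
        have h3 : (3 : ℕ) = a := (Nat.prime_dvd_prime_iff_eq Nat.prime_three hop).mp (by omega)
        omega

/-- At most one composite element order in `PSL₂`. -/
theorem psl_fields {F : Type} [Field F] [Fintype F] (h4 : 4 ≤ Fintype.card F)
    (hk : ∀ x y : Matrix.ProjectiveSpecialLinearGroup (Fin 2) F,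
      IsComp (orderOf x) → IsComp (orderOf y) → orderOf x = orderOf y) :
    (Fintype.card F = 4 ∨ Fintype.card F = 5 ∨ Fintype.card F = 7 ∨ Fintype.card F = 8 ∨
      Fintype.card F = 9 ∨ Fintype.card F = 11 ∨ Fintype.card F = 13 ∨ Fintype.card F = 16) ∨
    (∃ n r s : ℕ, r.Prime ∧ s.Prime ∧ 3 ^ n - 1 = 2 * r ∧ 3 ^ n + 1 = 4 * s ∧
      Fintype.card F = 3 ^ n) ∨
    (∃ n r : ℕ, (2 ^ n - 1).Prime ∧ r.Prime ∧ 2 ^ n + 1 = 3 * r ∧ Fintype.card F = 2 ^ n) := by
  classical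
  obtain ⟨n, hp, hn⟩ := FiniteField.card F (ringChar F)
  set p := ringChar F with hpdef
  haveI : Fact p.Prime := ⟨hp⟩
  haveI : CharP F p := by rw [hpdef]; infer_instance
  have hspec := SL2.spectrum_PSL (F := F) p (by rw [Nat.card_eq_fintype_card]; omega)
  rw [Nat.card_eq_fintype_card] at hspec
  have hex : ∀ m, (m ∣ (Fintype.card F - 1) / Nat.gcd 2 (Fintype.card F - 1) ∨
      m ∣ (Fintype.card F + 1) / Nat.gcd 2 (Fintype.card F - 1)) →
      ∃ x : Matrix.ProjectiveSpecialLinearGroup (Fin 2) F, orderOf x = m := fun m hm =>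
    (Set.ext_iff.mp hspec m).mpr (Or.inr hm)
  rcases hp.eq_two_or_odd' with h2 | hodd
  · rw [h2] at hn
    have hg : Nat.gcd 2 (Fintype.card F - 1) = 1 := by
      refine Nat.coprime_two_left.mpr (Nat.odd_iff.mpr ?_)
      have h : 2 ∣ 2 ^ (n : ℕ) := dvd_pow_self 2 n.ne_zero
      omega
    rw [hg, Nat.div_one, Nat.div_one, hn] at hex
    by_cases h5 : (n : ℕ) < 5
    · have : (n : ℕ) = 2 ∨ (n : ℕ) = 3 ∨ (n : ℕ) = 4 := by
        have hn1 := n.pos
        by_contra hc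
        rw [hn, show (n : ℕ) = 1 by omega] at h4
        norm_num at h4
      rcases this with e | e | e <;> rw [e] at hn <;> norm_num at hn <;> exact Or.inl (by omega)
    · obtain ⟨r, h1, h2', h3⟩ := even_case (n := (n : ℕ)) (by omega) fun a b ha hb hda hdb => by
        obtain ⟨x, rfl⟩ := hex a hda
        obtain ⟨y, rfl⟩ := hex b hdb
        exact hk x y ha hb
      exact Or.inr (Or.inr ⟨n, r, h1, h2', h3, hn⟩)
  · obtain ⟨a, ha⟩ : Odd (Fintype.card F) := hn ▸ hodd.pow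
    have hg : Nat.gcd 2 (Fintype.card F - 1) = 2 := Nat.gcd_eq_left ⟨a, by omega⟩
    rw [hg, show (Fintype.card F - 1) / 2 = a by omega,
      show (Fintype.card F + 1) / 2 = a + 1 by omega] at hex
    rcases odd_case hp hn ha (by omega) fun x y hx hy hdx hdy => by
        obtain ⟨x', rfl⟩ := hex x hdx
        obtain ⟨y', rfl⟩ := hex y hdy
        exact hk x' y' hx hy with h | ⟨h3, r, s, hr, hs, e1, e2⟩
    · exact Or.inl (by omega)
    · exact Or.inr (Or.inl ⟨n, r, s, hr, hs, e1, e2, by rw [hn, h3]⟩)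

end CfsgLib.OneComposite
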