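import Mathlib
import Cfsg.Agent.Lib.OneComposite.KleinBasic
import Cfsg.Agent.Lib.OneComposite.BigRank

/-!
The Klein case: the odd part of `C(A)` is trivial.
-/

set_option autoImplicit false
set_option linter.style.haveILetI false
set_option linter.unusedSectionVars false

namespace CfsgLib.OneComposite

variable {G : Type*} [Group G] [Finite G] {r : ℕ} {A : Subgroup G}

namespace Pre

variable (S : Pre G r A)
include S

theorem sup_theta_le {a : G} (ha : a ∈ A) :
    A ⊔ theta a ≤ Subgroup.centralizer ({a} : Set G) :=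
  sup_le (S.le_cent ha) (theta_le a)

theorem mem_sup_theta_of_cent {a : G} (ha : a ∈ A) (h1 : a ≠ 1) {g : G}
    (hg : g ∈ Subgroup.centralizer (A : Set G)) : g ∈ A ⊔ theta a := by
  by_cases hg1 : g = 1
  · rw [hg1]; exact one_mem _
  have hN : g ∈ Subgroup.normalizer (A : Set G) := Subgroup.centralizer_le_normalizer _ hg
  rcases S.hyp.orders g hg1 with hp | hp
  · by_cases h2 : orderOf g = 2
    · exact Subgroup.mem_sup_left (S.two_mem hN (by rw [← sq, ← h2, pow_orderOf_eq_one]))
    · exact Subgroup.mem_sup_right (S.mem_theta_of_cent hg (hp.odd_of_ne_two h2) ha h1)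
  · obtain ⟨e1, e2⟩ := two_r_parts S.hyp.prime hp
    obtain ⟨k, hk⟩ := S.hyp.prime.odd_of_ne_two S.hyp.ne_two
    have h2 : g ^ r * (g ^ 2) ^ (k + 1) = g := by
      rw [← pow_mul, ← pow_add, show r + 2 * (k + 1) = orderOf g + 1 by omega, pow_add,
        pow_orderOf_eq_one, one_mul, pow_one]
    rw [← h2]
    exact mul_mem (Subgroup.mem_sup_left (S.two_mem (pow_mem hN r)
      (by rw [← sq, ← e1, pow_orderOf_eq_one])))
      (pow_mem (Subgroup.mem_sup_right (S.mem_theta_of_cent (pow_mem hg 2)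
        (e2 ▸ S.hyp.prime.odd_of_ne_two S.hyp.ne_two) ha h1)) _)

end Pre

namespace Klein

variable (K : Klein G r A)
include K

theorem cent_le {a : G} (ha : a ∈ A) (ha1 : a ≠ 1) :
    Subgroup.centralizer ({a} : Set G) ≤ A ⊔ theta a := by
  intro g hg
  obtain ⟨n, hn, hnN⟩ := K.pre.exists_mul_normalizer ha ha1 hg
  have hc := Subgroup.mem_centralizer_singleton_iff.mp (mul_mem (K.pre.sup_theta_le ha hn) hg)
  have hC := K.mem_cent_of_fixed hnN ha ha1 (by rw [hc, mul_inv_cancel_right])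
  have := mul_mem (inv_mem hn) (K.pre.mem_sup_theta_of_cent ha ha1 hC)
  rwa [inv_mul_cancel_left] at this

theorem cent_trivial [IsSimpleGroup G] (hnc : ∃ a b : G, a * b ≠ b * a) {x : G}
    (hx : x ∈ Subgroup.centralizer (A : Set G)) (ho : Odd (orderOf x)) : x = 1 := by
  by_contra hx1
  haveI := Fact.mk K.pre.hyp.prime
  obtain ⟨a₀, ha₀, ha₀1⟩ := K.pre.exists_ne
  set R0 := theta a₀ ⊓ Subgroup.centralizer (A : Set G) with hR0
  have hR0A : A ≤ Subgroup.centralizer (R0 : Set G) := fun a ha y hy =>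
    ((Subgroup.mem_inf.mp hy).2 a ha).symm
  have hR0odd : Odd (Nat.card R0) :=
    (theta_odd a₀).of_dvd_nat (Subgroup.card_dvd_of_le inf_le_left)
  have hmem : ∀ y ∈ Subgroup.centralizer (A : Set G), Odd (orderOf y) → y ∈ R0 := fun y hy hyo =>
    Subgroup.mem_inf.mpr ⟨K.pre.mem_theta_of_cent hy hyo ha₀ ha₀1, hy⟩
  have hxR : x ∈ R0 := hmem x hx ho
  have hN0 : Subgroup.normalizer (A : Set G) ≤ Subgroup.normalizer (R0 : Set G) := by
    have key : ∀ g ∈ Subgroup.normalizer (A : Set G), ∀ y ∈ R0, g * y * g⁻¹ ∈ R0 := by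
      intro g hg y hy
      refine hmem _ (fun a ha => ?_) ?_
      · have h := (Subgroup.mem_inf.mp hy).2 (g⁻¹ * a * g)
          (by simpa using (Subgroup.mem_normalizer_iff.mp (inv_mem hg) a).mp ha)
        calc a * (g * y * g⁻¹) = g * (g⁻¹ * a * g * y) * g⁻¹ := by group
          _ = g * (y * (g⁻¹ * a * g)) * g⁻¹ := by rw [h]
          _ = g * y * g⁻¹ * a := by group
      · rw [Transfer.orderOf_conj]
        exact K.pre.odd_orderOf_mem hR0odd hy
    intro g hg
    refine Subgroup.mem_normalizer_iff.mpr fun y => ⟨key g hg y, fun h => ?_⟩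
    have := key g⁻¹ (inv_mem hg) _ h
    simpa [mul_assoc] using this
  set C := Subgroup.centralizer (R0 : Set G) with hC
  have hCsol : Group.IsSolvable C := by
    have hle : C ≤ Subgroup.centralizer ({x} : Set G) :=
      Subgroup.centralizer_le (Set.singleton_subset_iff.mpr hxR)
    have hs := K.pre.hyp.cent_solvable (x := x) (Or.inr (by
      obtain ⟨k, hk⟩ := (K.pre.theta_pgroup ha₀ ha₀1).to_le (inf_le_left : R0 ≤ _) ⟨x, hxR⟩
      exact K.pre.hyp.order_of_pow K.pre.hyp.prime hx1 (congrArg Subtype.val hk)))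
    exact Coprime.isSolvable_of_le hle hs
  set U := coreIn C with hU
  have hUle : U ≤ Subgroup.centralizer ({x} : Set G) :=
    (coreIn_le C).trans (Subgroup.centralizer_le (Set.singleton_subset_iff.mpr hxR))
  have hUr : IsPGroup r U := K.pre.hyp.pgroup_of_odd (Or.inr (by
      obtain ⟨k, hk⟩ := (K.pre.theta_pgroup ha₀ ha₀1).to_le (inf_le_left : R0 ≤ _) ⟨x, hxR⟩
      exact K.pre.hyp.order_of_pow K.pre.hyp.prime hx1 (congrArg Subtype.val hk)))
    (coreIn_odd C) hUle
  have hNU : Subgroup.normalizer (A : Set G) ≤ Subgroup.normalizer (U : Set G) :=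
    (hN0.trans (Coprime.le_normalizer_centralizer le_rfl)).trans
      (normalizer_le_normalizer_coreIn C)
  have hAU : A ≤ Subgroup.centralizer (U : Set G) :=
    K.pre.le_cent_of hUr (Subgroup.le_normalizer.trans hNU) fun a ha ha1 b hb hb1 =>
      let ⟨g, hg, he⟩ := K.trans ha ha1 hb hb1
      ⟨g, hg, hNU hg, he⟩
  have hCN : C ≤ Subgroup.normalizer (A : Set G) := by
    intro g hg
    have hn := normal_sup_coreIn hCsol K.pre.two K.pre.odd_index
      (fun _ hx _ hy => K.pre.comm hx hy) hR0A hg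
    refine Subgroup.mem_normalizer_iff_map_conj_eq.mpr (Subgroup.eq_of_le_of_card_ge ?_ ?_)
    · rintro _ ⟨y, hy, rfl⟩
      refine K.pre.mem_of_invol_sup hAU (coreIn_odd C)
        ((Subgroup.mem_normalizer_iff.mp hn y).mp (Subgroup.mem_sup_left hy)) ?_
      show g * y * g⁻¹ * (g * y * g⁻¹) = 1
      rw [show g * y * g⁻¹ * (g * y * g⁻¹) = g * (y * y) * g⁻¹ by group, K.pre.invol hy, mul_one,
        mul_inv_cancel]
    · rw [Subgroup.card_map_of_injective (MulAut.conj g).injective]
  have hNR : Subgroup.normalizer (R0 : Set G) ≤ Subgroup.normalizer (A : Set G) := by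
    intro g hg
    refine Subgroup.mem_normalizer_iff_map_conj_eq.mpr (Subgroup.eq_of_le_of_card_ge ?_ ?_)
    · rintro _ ⟨y, hy, rfl⟩
      refine K.pre.two_mem (hCN (fun z hz => ?_)) ?_
      · show z * (g * y * g⁻¹) = g * y * g⁻¹ * z
        have h1 : g⁻¹ * z * g ∈ R0 := by
          simpa using (Subgroup.mem_normalizer_iff.mp (inv_mem hg) z).mp hz
        have h2 := hR0A hy (g⁻¹ * z * g) h1
        calc z * (g * y * g⁻¹) = g * (g⁻¹ * z * g * y) * g⁻¹ := by group
          _ = g * (y * (g⁻¹ * z * g)) * g⁻¹ := by rw [h2]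
          _ = g * y * g⁻¹ * z := by group
      · show g * y * g⁻¹ * (g * y * g⁻¹) = 1
        rw [show g * y * g⁻¹ * (g * y * g⁻¹) = g * (y * y) * g⁻¹ by group, K.pre.invol hy, mul_one,
          mul_inv_cancel]
    · rw [Subgroup.card_map_of_injective (MulAut.conj g).injective]
  have hconst : ∀ a ∈ A, a ≠ 1 → theta a = R0 := by
    intro a ha ha1
    have hle : R0 ≤ theta a := fun y hy => K.pre.mem_theta_of_cent (Subgroup.mem_inf.mp hy).2
      (K.pre.odd_orderOf_mem hR0odd hy) ha ha1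
    refine le_antisymm ?_ hle
    haveI := (K.pre.theta_pgroup ha ha1).isNilpotent
    by_contra hnle
    have hlt : R0.subgroupOf (theta a) < ⊤ :=
      lt_top_iff_ne_top.mpr fun e => hnle (Subgroup.subgroupOf_eq_top.mp e)
    obtain ⟨⟨y, hy⟩, hyN, hyR⟩ := SetLike.exists_of_lt
      (Group.normalizerCondition_of_isNilpotent _ hlt)
    refine hyR (Subgroup.mem_subgroupOf.mpr (hmem y ?_ ((theta_odd a).of_dvd_nat
      (Subgroup.orderOf_dvd_natCard _ hy))))
    have hyn : y ∈ Subgroup.normalizer (R0 : Set G) := by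
      refine Subgroup.mem_normalizer_iff.mpr fun z => ⟨fun hz => ?_, fun hz => ?_⟩
      · exact (Subgroup.mem_normalizer_iff.mp hyN ⟨z, hle hz⟩).mp (Subgroup.mem_subgroupOf.mpr hz)
      · have hz' : z ∈ theta a := by
          have := mul_mem (mul_mem (inv_mem hy) (hle hz)) hy
          simpa [mul_assoc] using this
        exact (Subgroup.mem_normalizer_iff.mp hyN ⟨z, hz'⟩).mpr (Subgroup.mem_subgroupOf.mpr hz)
    exact K.mem_cent_of_fixed (hNR hyn) ha ha1 (by
      rw [Subgroup.mem_centralizer_singleton_iff.mp (theta_le a hy), mul_inv_cancel_right])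
  have hW : closureW A = R0 :=
    le_antisymm (iSup_le fun a => (hconst a a.2.1 a.2.2).le)
      ((hconst a₀ ha₀ ha₀1).ge.trans (le_iSup (fun b : {b : G // b ∈ A ∧ b ≠ 1} => theta (b : G))
        ⟨a₀, ha₀, ha₀1⟩))
  refine Setup.contradiction (A := A) ⟨K.pre, hW.symm ▸ hR0odd, fun a ha ha1 => ?_⟩ hnc
  rw [hW, hconst a ha ha1, inf_eq_left, ← hconst a ha ha1]
  exact theta_le a

end Klein

end CfsgLib.OneComposite
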