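import Mathlib
import Cfsg.Agent.Lib.OneComposite.Fields
import Cfsg.Agent.Lib.Suzuki.Tori

/-!
The Suzuki group with at most one composite element order.
-/

set_option autoImplicit false
set_option linter.unusedSectionVars false
set_option linter.style.haveILetI false

namespace CfsgLib.OneComposite

open CfsgLib.Suzuki

variable {F : Type*} [Field F] [Fintype F] [CharP F 2] {m : ℕ} [hP : Param F m]

include hP

theorem suzuki_eight (hk : ∀ x y : Gp F m, IsComp (orderOf x) → IsComp (orderOf y) →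
    orderOf x = orderOf y) : Fintype.card F = 8 := by
  haveI : Fact (Nat.Prime 2) := ⟨Nat.prime_two⟩
  haveI : Fact (Nat.Prime 5) := ⟨Nat.prime_five⟩
  have h8 := eight_le_card (F := F) (m := m)
  obtain ⟨w, hw⟩ : ∃ w : Gp F m, orderOf w = 2 ^ (1 + 1) := by
    refine ⟨gT 1 0, orderOf_eq_prime_pow ?_ ?_⟩
    · rw [pow_one, pow_two, gT_sq, ← gT_zero (F := F) (m := m)]
      intro e
      have := (gT_inj e).2
      rw [map_one, mul_one] at this
      exact one_ne_zero this
    · rw [show (2 : ℕ) ^ (1 + 1) = 2 * 2 from rfl, pow_mul, pow_two, pow_two, gT_sq, gT_sq]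
      rw [mul_zero, gT_zero]
  -- a torus has prime order
  have hT : ∀ x : Gp F m, IsT x → (Nat.card ↥(Subgroup.centralizer {x})).Prime := by
    intro x hx
    by_contra hnp
    haveI := hx.cent_cyclic
    obtain ⟨g, hg⟩ := IsCyclic.exists_ofOrder_eq_natCard (α := ↥(Subgroup.centralizer {x}))
    have := hk g w ⟨by rw [Subgroup.orderOf_coe, hg]; have := hx.five_le; omega,
      by rwa [Subgroup.orderOf_coe, hg]⟩ ⟨by rw [hw]; norm_num, by rw [hw]; norm_num⟩
    rw [Subgroup.orderOf_coe, hg, hw] at this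
    have h5 := hx.five_le
    omega
  have h5d : 5 ∣ Fintype.card F ^ 2 + 1 := by
    rw [hP.card, ← pow_mul, show (2 * m + 1) * 2 = 4 * m + 2 by ring, pow_add, pow_mul,
      Nat.dvd_iff_mod_eq_zero]
    simp [Nat.add_mod, Nat.mul_mod, Nat.pow_mod]
  obtain ⟨z, hz⟩ := exists_prime_orderOf_dvd_card' (G := Gp F m) 5
    (by rw [natCard_group]; exact (Dvd.dvd.mul_left h5d _).mul_right _)
  obtain ⟨x, k, hx, hk', -, hcover, -, heq⟩ := exists_tori F m
  have hzS : z ∈ singT F m :=
    ⟨fun e => by rw [e, orderOf_one] at hz; omega, hz ▸ h5d⟩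
  have hfive : ∀ y : Gp F m, IsT y → z ∈ TS y → Nat.card ↥(Subgroup.centralizer {y}) = 5 := by
    rintro y hy ⟨h, hh, -⟩
    have h1 := Subgroup.orderOf_dvd_natCard _ hh
    rw [CfsgLib.Ree.orderOf_conj', hz] at h1
    exact ((Nat.prime_dvd_prime_iff_eq Nat.prime_five (hT y hy)).mp h1).symm
  have ha := hx.five_le
  have hb := hk'.five_le
  have hc : Nat.card ↥(Subgroup.centralizer {x}) = 5 ∨ Nat.card ↥(Subgroup.centralizer {k}) = 5 :=
    (hcover z hzS).imp (hfive x hx) (hfive k hk')
  suffices key : ∀ b : ℕ, 5 ≤ b → 4 * (5 * b) * (Fintype.card F * (Fintype.card F - 1)) =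
      2 * (Fintype.card F ^ 2 + 1) * ((5 - 1) * b + (b - 1) * 5) → Fintype.card F = 8 by
    rcases hc with e | e <;> rw [e] at heq
    · exact key _ hb heq
    · refine key _ ha ?_
      rw [mul_comm 5 (Nat.card _), heq, add_comm (((Nat.card _) - 1) * 5)]
  intro b hb' e
  have hlt : Fintype.card F ≤ 10 := by
    by_contra hlt
    obtain ⟨u, hu⟩ : ∃ u, Fintype.card F = u + 11 := ⟨Fintype.card F - 11, by omega⟩
    obtain ⟨c, rfl⟩ : ∃ c, b = c + 1 := ⟨b - 1, by omega⟩
    rw [hu, Nat.add_sub_cancel, show u + 11 - 1 = u + 10 by omega] at e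
    ring_nf at e
    omega
  have hm : m = 1 := by
    have h := hP.card
    rcases m with _ | _ | m
    · rw [h] at h8; norm_num at h8
    · rfl
    · have : 2 ^ 5 ≤ 2 ^ (2 * (m + 1 + 1) + 1) := Nat.pow_le_pow_right two_pos (by omega)
      norm_num at this
      omega
  rw [hP.card, hm]
  rfl

end CfsgLib.OneComposite
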