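import Mathlib
import Cfsg.Prelude.Def_Sz
import Cfsg.Agent.Lib.OneComposite.KleinFree
import Cfsg.Agent.Lib.OneComposite.Fields
import Cfsg.Agent.Lib.OneComposite.SuzukiEight
import Cfsg.Agent.Lib.CIT.SuzukiGraph
import Cfsg.Agent.Lib.BrauerTuan.Corollary
import Cfsg.Agent.Lib.Classical.A8Subgroups

/-!
Simple groups with at most one composite element order.
-/

set_option autoImplicit false
set_option linter.style.haveILetI false
set_option linter.unusedSectionVars false

namespace CfsgLib.OneComposite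

universe u

variable {G : Type u} [Group G] [Finite G]

theorem not_solvable [IsSimpleGroup G] (hnc : ∃ a b : G, a * b ≠ b * a) : ¬ Group.IsSolvable G := by
  intro h
  obtain ⟨a, b, hab⟩ := hnc
  have hlt := Group.IsSolvable.commutator_lt_top_of_nontrivial G
  rcases (Subgroup.Normal.eq_bot_or_eq_top
    (inferInstance : (commutator G).Normal)) with h' | h'
  · refine hab ((commutatorElement_eq_one_iff_mul_comm (g₁ := a) (g₂ := b)).mp ?_)
    rw [← Subgroup.mem_bot, ← h', commutator_def]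
    exact Subgroup.commutator_mem_commutator (Subgroup.mem_top a) (Subgroup.mem_top b)
  · exact hlt.ne h'

theorem no_complement [IsSimpleGroup G] (hnc : ∃ a b : G, a * b ≠ b * a) (P : Sylow 2 G)
    {N : Subgroup G} (hN : N.Normal) (hc : N.IsComplement' (P : Subgroup G)) : False := by
  haveI : Fact (Nat.Prime 2) := ⟨Nat.prime_two⟩
  haveI := hN
  refine not_solvable hnc ?_
  rcases hN.eq_bot_or_eq_top with e | e
  · subst e
    have hq := Transfer.isPGroup_quotient_of_isComplement' hc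
    have hp : IsPGroup 2 G := hq.of_equiv QuotientGroup.quotientBot
    haveI := hp.isNilpotent
    infer_instance
  · refine RealClassGraph.solvable_of_odd ?_
    have h := Transfer.coprime_card_of_isComplement' hc
    rw [e, Subgroup.card_top, Nat.coprime_two_right] at h
    exact h

/-- With an element of order `2r` the group is `L₂(q)`. -/
theorem psl_of_hyp [IsSimpleGroup G] (hnc : ∃ a b : G, a * b ≠ b * a) {r : ℕ} (h : Hyp G r) :
    ∃ (F : Type) (_ : Field F) (_ : Fintype F),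
      Nonempty (G ≃* Matrix.ProjectiveSpecialLinearGroup (Fin 2) F) := by
  haveI : Fact (Nat.Prime 2) := ⟨Nat.prime_two⟩
  obtain ⟨P⟩ : Nonempty (Sylow 2 G) := inferInstance
  obtain ⟨n, hn⟩ := IsPGroup.iff_card.mp P.2
  rcases Nat.lt_or_ge n 2 with hlt | hge
  · exfalso
    obtain ⟨Q, K, hK, hc⟩ := Transfer.hasNormalPComplement_of_normalizer_le_centralizer P
      fun g hg x hx => by
        by_cases hx1 : x = 1
        · simp [hx1]
        have hgx := (Subgroup.mem_normalizer_iff.mp hg x).mp hx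
        have h2 : Nat.card (P : Subgroup G) ≤ 2 :=
          hn ▸ le_trans (Nat.pow_le_pow_right two_pos (by omega : n ≤ 1)) (by norm_num)
        have heq : g * x * g⁻¹ = x := by
          by_contra hne
          have h3 : ({1, x, g * x * g⁻¹} : Set G) ⊆ ((P : Subgroup G) : Set G) := by
            rintro y (rfl | rfl | rfl)
            exacts [one_mem _, hx, hgx]
          have h4 := Set.ncard_le_ncard h3
          rw [← Nat.card_coe_set_eq ((P : Subgroup G) : Set G)] at h4
          have h5 : ({1, x, g * x * g⁻¹} : Set G).ncard = 3 := Set.ncard_eq_three.mpr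
            ⟨1, x, g * x * g⁻¹, Ne.symm hx1, fun e => hx1 (conj_eq_one_iff.mp e.symm), Ne.symm hne,
              rfl⟩
          have : Nat.card ((P : Subgroup G) : Set G) = Nat.card (P : Subgroup G) := rfl
          omega
        exact (mul_inv_eq_iff_eq_mul.mp heq).symm
    exact no_complement hnc Q hK hc
  have hpre : Pre G r (P : Subgroup G) := ⟨h, P.2, P.not_dvd_index,
    hn ▸ le_trans (by norm_num) (Nat.pow_le_pow_right two_pos hge)⟩
  rcases eq_or_lt_of_le hge with heq | hgt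
  · have hcard : Nat.card (P : Subgroup G) = 4 := by rw [hn, ← heq]; norm_num
    have hkl : IsKleinFour (P : Subgroup G) := by
      refine ⟨hcard, ?_⟩
      refine (Nat.dvd_prime Nat.prime_two).mp
        (Monoid.exponent_dvd_of_forall_pow_eq_one fun a => ?_) |>.resolve_left fun e => ?_
      · rw [sq]; exact Subtype.ext (hpre.invol a.2)
      · haveI := Monoid.exp_eq_one_iff.mp e
        have := Nat.card_of_subsingleton (1 : (P : Subgroup G))
        omega
    rcases Invol.klein_complement_or_one_class P hkl with ⟨N, hN, hc⟩ | hone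
    · exact (no_complement hnc P hN hc).elim
    · obtain ⟨F, i1, i2, -, he⟩ := Klein.psl ⟨hpre, hcard, hone⟩ hnc
      exact ⟨F, i1, i2, he⟩
  · exact ((hpre.setup (hn ▸ le_trans (by norm_num)
      (Nat.pow_le_pow_right two_pos (show 3 ≤ n by omega)))).contradiction hnc).elim

/-- The classification. -/
theorem classify [IsSimpleGroup G]
    (h1 : {n : ℕ | n ∈ Set.range (orderOf : G → ℕ) ∧ 1 < n ∧ ¬ n.Prime}.Subsingleton) :
    (Nat.card G).Prime ∨
    (∃ (F : Type) (_ : Field F) (_ : Fintype F), (Fintype.card F = 5 ∨ Fintype.card F = 7 ∨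
        Fintype.card F = 8 ∨ Fintype.card F = 9 ∨ Fintype.card F = 11 ∨ Fintype.card F = 13 ∨
        Fintype.card F = 16) ∧
      Nonempty (G ≃* Matrix.ProjectiveSpecialLinearGroup (Fin 2) F)) ∨
    (∃ (F : Type) (_ : Field F) (_ : Fintype F), Fintype.card F = 4 ∧
      Nonempty (G ≃* Matrix.ProjectiveSpecialLinearGroup (Fin 3) F)) ∨
    (∃ (F : Type) (_ : Field F) (_ : Fintype F), Fintype.card F = 8 ∧
      Nonempty (G ≃* ↥(Cfsg.Lie.Sz F 4))) ∨
    (∃ (F : Type) (_ : Field F) (_ : Fintype F), ∃ n r s : ℕ, r.Prime ∧ s.Prime ∧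
      3 ^ n - 1 = 2 * r ∧ 3 ^ n + 1 = 4 * s ∧ Fintype.card F = 3 ^ n ∧
      Nonempty (G ≃* Matrix.ProjectiveSpecialLinearGroup (Fin 2) F)) ∨
    (∃ (F : Type) (_ : Field F) (_ : Fintype F), ∃ n r : ℕ, (2 ^ n - 1).Prime ∧ r.Prime ∧
      2 ^ n + 1 = 3 * r ∧ Fintype.card F = 2 ^ n ∧
      Nonempty (G ≃* Matrix.ProjectiveSpecialLinearGroup (Fin 2) F)) := by
  classical
  by_cases hnc : ∃ a b : G, a * b ≠ b * a
  swap
  · push Not at hnc
    haveI : IsMulCommutative G := .of_comm hnc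
    exact Or.inl (Group.is_simple_iff_prime_card.mp inferInstance)
  right
  have hkey : ∀ x y : G, IsComp (orderOf x) → IsComp (orderOf y) → orderOf x = orderOf y :=
    fun x y hx hy => h1 ⟨⟨x, rfl⟩, hx⟩ ⟨⟨y, rfl⟩, hy⟩
  -- the linear case
  have hpsl : (∃ (F : Type) (_ : Field F) (_ : Fintype F),
      Nonempty (G ≃* Matrix.ProjectiveSpecialLinearGroup (Fin 2) F)) →
    (∃ (F : Type) (_ : Field F) (_ : Fintype F), (Fintype.card F = 5 ∨ Fintype.card F = 7 ∨
        Fintype.card F = 8 ∨ Fintype.card F = 9 ∨ Fintype.card F = 11 ∨ Fintype.card F = 13 ∨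
        Fintype.card F = 16) ∧
      Nonempty (G ≃* Matrix.ProjectiveSpecialLinearGroup (Fin 2) F)) ∨
    (∃ (F : Type) (_ : Field F) (_ : Fintype F), ∃ n r s : ℕ, r.Prime ∧ s.Prime ∧
      3 ^ n - 1 = 2 * r ∧ 3 ^ n + 1 = 4 * s ∧ Fintype.card F = 3 ^ n ∧
      Nonempty (G ≃* Matrix.ProjectiveSpecialLinearGroup (Fin 2) F)) ∨
    (∃ (F : Type) (_ : Field F) (_ : Fintype F), ∃ n r : ℕ, (2 ^ n - 1).Prime ∧ r.Prime ∧
      2 ^ n + 1 = 3 * r ∧ Fintype.card F = 2 ^ n ∧
      Nonempty (G ≃* Matrix.ProjectiveSpecialLinearGroup (Fin 2) F)) := by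
    rintro ⟨F, i1, i2, ⟨e⟩⟩
    have h4 : 4 ≤ Fintype.card F := by
      by_contra hlt
      have h60 := AEightSub.sixty_le (not_solvable hnc)
      rw [Nat.card_congr e.toEquiv] at h60
      have hc := SL2.card_PSL (F := F)
      rw [Nat.card_eq_fintype_card (α := F)] at hc
      have h2 := Fintype.one_lt_card (α := F)
      rcases (show Fintype.card F = 2 ∨ Fintype.card F = 3 by omega) with hq | hq <;>
        rw [hq] at hc <;> rw [Nat.card_eq_fintype_card] at h60 <;> norm_num at hc <;> omega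
    rcases psl_fields h4 (fun x y hx hy => by
      have := hkey (e.symm x) (e.symm y) (by rwa [MulEquiv.orderOf_eq])
        (by rwa [MulEquiv.orderOf_eq])
      rwa [MulEquiv.orderOf_eq, MulEquiv.orderOf_eq] at this) with h | ⟨n, r, s, h⟩ | ⟨n, r, h⟩
    · rcases h with h | h
      · obtain ⟨K, j1, j2, hK, he⟩ := BrauerTuan.psl_four_equiv_five h ⟨e⟩
        exact Or.inl ⟨K, j1, j2, Or.inl hK, he⟩
      · exact Or.inl ⟨F, i1, i2, h, ⟨e⟩⟩
    · exact Or.inr (Or.inl ⟨F, i1, i2, n, r, s, h.1, h.2.1, h.2.2.1, h.2.2.2.1, h.2.2.2.2, ⟨e⟩⟩)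
    · exact Or.inr (Or.inr ⟨F, i1, i2, n, r, h.1, h.2.1, h.2.2.1, h.2.2.2, ⟨e⟩⟩)
  by_cases hex : ∃ x : G, ∃ r : ℕ, r.Prime ∧ r ≠ 2 ∧ orderOf x = 2 * r
  · obtain ⟨x, r, hr, hr2, hx⟩ := hex
    refine (hpsl (psl_of_hyp hnc (r := r) ⟨hr, hr2, fun y hy => ?_, x, hx⟩)).elim Or.inl
      fun h => Or.inr (Or.inr (Or.inr h))
    by_cases hp : (orderOf y).Prime
    · exact Or.inl hp
    · refine Or.inr (hx ▸ hkey y x ⟨?_, hp⟩ (hx ▸ isComp_mul le_rfl hr.two_le))
      have := orderOf_pos y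
      have : orderOf y ≠ 1 := fun e => hy (orderOf_eq_one_iff.mp e)
      omega
  push Not at hex
  have hcit : CIT.IsCIT G := by
    intro t ht
    haveI : Fact (Nat.Prime 2) := ⟨Nat.prime_two⟩
    refine IsPGroup.iff_card.mpr ⟨_, Nat.eq_prime_pow_of_unique_prime_dvd Nat.card_pos.ne'
      fun {q} hq hd => by_contra fun hne => ?_⟩
    haveI := Fact.mk hq
    obtain ⟨⟨y, hy⟩, ho⟩ := exists_prime_orderOf_dvd_card' q hd
    rw [Subgroup.orderOf_mk] at ho
    have hc : Commute t y := (Subgroup.mem_centralizer_singleton_iff.mp hy).symm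
    have h2 := hc.orderOf_mul_eq_mul_orderOf_of_coprime (by
      rw [ht, ho]; exact (Nat.coprime_primes Nat.prime_two hq).mpr (Ne.symm hne))
    rw [ht, ho] at h2
    exact hex _ q hq hne h2
  rcases CIT.classify hnc hcit with ⟨F, i1, i2, -, he⟩ | h | ⟨Ω, i1, i2, hZ⟩
  · exact (hpsl ⟨F, i1, i2, he⟩).elim Or.inl fun h => Or.inr (Or.inr (Or.inr h))
  · exact Or.inr (Or.inl h)
  rcases SuzUniq.zassenhaus_simple hZ with h | ⟨F, i1, i2, m, hm, hF, ⟨e⟩⟩
  · exact (hpsl h).elim Or.inl fun h => Or.inr (Or.inr (Or.inr h))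
  obtain ⟨hc, hp⟩ := CIT.param_of_card hm hF
  haveI := hc
  haveI := hp
  have e' : G ≃* Suzuki.Gp F m := e.trans (Suzuki.lieEquiv F m).symm
  have h8 := suzuki_eight (F := F) (m := m) fun x y hx hy => by
    have := hkey (e'.symm x) (e'.symm y) (by rwa [MulEquiv.orderOf_eq])
      (by rwa [MulEquiv.orderOf_eq])
    rwa [MulEquiv.orderOf_eq, MulEquiv.orderOf_eq] at this
  have hm1 : m = 1 := by
    have h3 : 2 ^ (2 * m + 1) = 2 ^ 3 := by rw [← hF, h8]; norm_num
    have := Nat.pow_right_injective le_rfl h3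
    omega
  subst hm1
  exact Or.inr (Or.inr (Or.inl ⟨F, i1, i2, h8, ⟨e⟩⟩))

end CfsgLib.OneComposite
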